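import Cfsg.Agent.Lib.AltEightThree.Model

/-!
A Sylow two-subgroup of the model group, its classes of involutions, and two small centralisers.
Finite checks are made on numeric codes of permutations.
-/

set_option autoImplicit false

namespace CfsgLib.AltEightThree

open Equiv Equiv.Perm

/-- `(0 1)(4 5)` -/
def dd : A8 := ⟨swap 0 1 * swap 4 5, mem_A8.2 (by decide)⟩
/-- `(0 4)(1 5)(2 6)(3 7)` -/
def oo : A8 := ⟨swap 0 4 * swap 1 5 * swap 2 6 * swap 3 7, mem_A8.2 (by decide)⟩
/-- `(3 4 5 6 7)` -/
def ff : A8 := ⟨swap 3 4 * swap 4 5 * swap 5 6 * swap 6 7, mem_A8.2 (by decide)⟩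

/-- A digit of a code. -/
def cget (c i : ℕ) : ℕ := c / 8 ^ i % 8

/-- The code with prescribed digits. -/
def cput (a b c d e f g h : ℕ) : ℕ := a + 8 * (b + 8 * (c + 8 * (d + 8 * (e + 8 * (f + 8 * (g + 8 * h))))))

/-- Composition on codes. -/
def cmul (a b : ℕ) : ℕ :=
  cput (cget a (cget b 0)) (cget a (cget b 1)) (cget a (cget b 2)) (cget a (cget b 3))
    (cget a (cget b 4)) (cget a (cget b 5)) (cget a (cget b 6)) (cget a (cget b 7))

/-- The code of a permutation. -/
def code (g : Perm (Fin 8)) : ℕ :=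
  cput (g 0).val (g 1).val (g 2).val (g 3).val (g 4).val (g 5).val (g 6).val (g 7).val

theorem cget_cput {a b c d e f g h : ℕ} (ha : a < 8) (hb : b < 8) (hc : c < 8) (hd : d < 8) (he : e < 8)
    (hf : f < 8) (hg : g < 8) (hh : h < 8) :
    cget (cput a b c d e f g h) 0 = a ∧ cget (cput a b c d e f g h) 1 = b ∧
    cget (cput a b c d e f g h) 2 = c ∧ cget (cput a b c d e f g h) 3 = d ∧
    cget (cput a b c d e f g h) 4 = e ∧ cget (cput a b c d e f g h) 5 = f ∧
    cget (cput a b c d e f g h) 6 = g ∧ cget (cput a b c d e f g h) 7 = h := by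
  simp only [cget, cput]
  norm_num
  omega

theorem cget_code (g : Perm (Fin 8)) (i : Fin 8) : cget (code g) i.val = (g i).val := by
  obtain ⟨h0, h1, h2, h3, h4, h5, h6, h7⟩ := cget_cput (g 0).isLt (g 1).isLt (g 2).isLt (g 3).isLt
    (g 4).isLt (g 5).isLt (g 6).isLt (g 7).isLt
  fin_cases i
  exacts [h0, h1, h2, h3, h4, h5, h6, h7]

theorem code_injective : Function.Injective code := fun g h e =>
  Equiv.ext fun i => Fin.ext (by rw [← cget_code g i, ← cget_code h i, e])

theorem code_mul (g h : Perm (Fin 8)) : code (g * h) = cmul (code g) (code h) := by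
  have k : ∀ i : Fin 8, cget (code g) (cget (code h) i.val) = ((g * h) i).val := fun i => by
    rw [cget_code h i, cget_code g (h i)]; rfl
  unfold cmul
  rw [show cget (code g) (cget (code h) 0) = _ from k 0, show cget (code g) (cget (code h) 1) = _ from k 1,
    show cget (code g) (cget (code h) 2) = _ from k 2, show cget (code g) (cget (code h) 3) = _ from k 3,
    show cget (code g) (cget (code h) 4) = _ from k 4, show cget (code g) (cget (code h) 5) = _ from k 5,
    show cget (code g) (cget (code h) 6) = _ from k 6, show cget (code g) (cget (code h) 7) = _ from k 7]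
  rfl

theorem code_one : code 1 = 16434824 := by decide +kernel

/-- The code of a model element. -/
def cd (x : A8) : ℕ := code x.1

theorem cd_injective : Function.Injective cd := code_injective.comp Subtype.val_injective

theorem cd_mul (x y : A8) : cd (x * y) = cmul (cd x) (cd y) := code_mul x.1 y.1

theorem cd_one : cd 1 = 16434824 := code_one

theorem cd_t : cd t = 14571144 := by decide +kernel
theorem cd_u : cd u = 16434369 := by decide +kernel
theorem cd_s : cd s = 11789960 := by decide +kernel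
theorem cd_v : cd v = 16433690 := by decide +kernel
theorem cd_dd : cd dd = 16406145 := by decide +kernel
theorem cd_oo : cd oo = 6852524 := by decide +kernel
theorem cd_n : cd n = 4471285 := by decide +kernel
theorem cd_z : cd z = 16434705 := by decide +kernel
theorem cd_w : cd w = 12535432 := by decide +kernel
theorem cd_ff : cd ff = 8345736 := by decide +kernel
theorem cd_y : cd y = 12535313 := by
  rw [y, cd_mul, cd_z, cd_w]; decide +kernel

/-- Normal forms in the Sylow two-subgroup generated by `t u s v dd oo`. -/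
def twoList : List A8 :=
  [t, u, s, v, dd, oo].foldr (fun g l => l ++ l.map (g * ·)) [1]

/-- Their codes. -/
def twoCodes : List ℕ :=
  [16434824, 6852524, 16406145, 6823845, 16433690, 2207660, 16405011, 2178981,
   11789960, 6851390, 11761281, 6822711, 11788826, 2206526, 11760147, 2177847,
   16434369, 4988844, 16405704, 5017509, 16433235, 343980, 16404570, 372645,
   11789505, 4987710, 11760840, 5016375, 11788371, 342846, 11759706, 371511,
   14571144, 6852069, 14599809, 6823404, 14570010, 2207205, 14598675, 2178540,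
   9926280, 6850935, 9954945, 6822270, 9925146, 2206071, 9953811, 2177406,
   14570689, 4988389, 14599368, 5017068, 14569555, 343525, 14598234, 372204,
   9925825, 4987255, 9954504, 5015934, 9924691, 342391, 9953370, 371070]

theorem map_cd_fold (gs : List A8) :
    (gs.foldr (fun g l => l ++ l.map (g * ·)) [1]).map cd =
      (gs.map cd).foldr (fun g l => l ++ l.map (cmul g)) [16434824] := by
  induction gs with
  | nil => simp [cd_one]
  | cons g gs ih =>
    simp only [List.foldr_cons, List.map_cons, List.map_append, List.map_map]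
    rw [show cd ∘ (fun x => g * x) = cmul (cd g) ∘ cd from funext fun x => cd_mul g x, ← List.map_map, ih]

theorem twoList_code : twoList.map cd = twoCodes := by
  rw [twoList, map_cd_fold]
  simp only [List.map_cons, List.map_nil, cd_t, cd_u, cd_s, cd_v, cd_dd, cd_oo]
  decide +kernel

theorem twoCodes_nodup : twoCodes.Nodup := by decide +kernel

theorem twoCodes_mul : ∀ a ∈ twoCodes, ∀ b ∈ twoCodes, cmul a b ∈ twoCodes := by decide +kernel

theorem twoCodes_inv : ∀ a ∈ twoCodes, ∃ b ∈ twoCodes, cmul a b = 16434824 := by decide +kernel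

theorem mem_twoList_iff (x : A8) : x ∈ twoList ↔ cd x ∈ twoCodes := by
  rw [← twoList_code, List.mem_map_of_injective cd_injective]

/-- A Sylow two-subgroup of the model. -/
def twoSub : Subgroup A8 where
  carrier := {x | cd x ∈ twoCodes}
  one_mem' := show cd 1 ∈ twoCodes by rw [cd_one]; decide +kernel
  mul_mem' {a b} ha hb := show cd (a * b) ∈ twoCodes by rw [cd_mul]; exact twoCodes_mul _ ha _ hb
  inv_mem' {a} ha := by
    obtain ⟨b, hb, hab⟩ := twoCodes_inv _ ha
    rw [← twoList_code, List.mem_map] at hb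
    obtain ⟨x, hx, rfl⟩ := hb
    rw [← cd_mul, ← cd_one] at hab
    show cd a⁻¹ ∈ twoCodes
    rw [inv_eq_of_mul_eq_one_right (cd_injective hab)]
    exact (mem_twoList_iff x).1 hx

theorem mem_twoSub {x : A8} : x ∈ twoSub ↔ cd x ∈ twoCodes := Iff.rfl

theorem card_twoSub : Nat.card twoSub = 64 := by
  rw [← SetLike.coe_sort_coe, show (twoSub : Set A8) = ↑twoList.toFinset by
    ext x; simp [mem_twoList_iff, mem_twoSub], Nat.card_coe_set_eq, Set.ncard_coe_finset,
    List.toFinset_card_of_nodup (List.Nodup.of_map cd (twoList_code ▸ twoCodes_nodup))]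
  rw [← List.length_map cd, twoList_code]
  rfl

/-- Four fixed points, on codes. -/
def isTc (c : ℕ) : Bool := ((List.range 8).filter fun i => cget c i == i).length == 4

/-- Four fixed points. -/
def isT (x : A8) : Bool := isTc (cd x)

/-- Conjugators, as products of transpositions. -/
def witList : List (List (Fin 8 × Fin 8)) :=
  [[],
   [(5, 6), (6, 7)],
   [(5, 7), (6, 7)],
   [(4, 5), (5, 7)],
   [(4, 6), (5, 6)],
   [(4, 7), (6, 7)],
   [(3, 4), (5, 7)],
   [(3, 5), (4, 5), (5, 6), (6, 7)],
   [(3, 6), (4, 6)],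
   [(3, 7), (4, 7), (5, 7), (6, 7)],
   [(2, 4), (3, 5)],
   [(2, 4), (3, 5), (4, 6), (5, 6)],
   [(2, 4), (3, 5), (4, 7), (6, 7)],
   [(2, 4), (3, 6), (4, 5), (5, 6)],
   [(2, 4), (3, 6), (4, 7), (5, 7)],
   [(2, 4), (3, 7), (4, 5), (6, 7)],
   [(2, 4), (3, 7), (4, 6), (5, 7)],
   [(2, 6), (3, 7), (4, 6), (5, 7)],
   [(1, 2), (2, 4), (3, 5), (4, 7), (5, 7), (6, 7)],
   [(1, 2), (2, 4), (3, 6), (4, 5)],
   [(1, 2), (2, 4), (3, 7), (4, 6), (5, 6), (6, 7)],
   [(0, 2), (1, 3), (2, 4), (3, 5)],
   [(0, 2), (1, 3), (2, 6), (3, 7), (4, 6), (5, 7)],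
   [(0, 4), (1, 5), (2, 6), (3, 7)],
   [(0, 4), (1, 5), (2, 6), (3, 7), (5, 6), (6, 7)],
   [(0, 4), (1, 5), (2, 6), (3, 7), (5, 7), (6, 7)]]

/-- The code of a product of transpositions. -/
def wcode (l : List (Fin 8 × Fin 8)) : ℕ :=
  (l.map fun p => code (swap p.1 p.2)).foldr cmul 16434824

theorem code_wit (l : List (Fin 8 × Fin 8)) : code (l.map fun p => swap p.1 p.2).prod = wcode l := by
  induction l with
  | nil => exact code_one
  | cons p l ih =>
    rw [List.map_cons, List.prod_cons, code_mul, ih]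
    rfl

theorem sign_wit : ∀ l ∈ witList, Perm.sign (l.map fun p => swap p.1 p.2).prod = 1 := by
  intro l hl
  simp only [witList, List.mem_cons, List.not_mem_nil, or_false] at hl
  rcases hl with rfl | rfl | rfl | rfl | rfl | rfl | rfl | rfl | rfl | rfl | rfl | rfl | rfl | rfl | rfl | rfl | rfl | rfl | rfl | rfl | rfl | rfl | rfl | rfl | rfl | rfl <;>
    simp [Perm.sign_mul, Perm.sign_swap]

theorem twoCodes_class : ∀ c ∈ twoCodes, cmul c c = 16434824 → c ≠ 16434824 → ∃ l ∈ witList,
    cmul (wcode l) (if isTc c then 14571144 else 4471285) = cmul c (wcode l) := by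
  decide +kernel

theorem twoSub_class {x : A8} (hx : x ∈ twoSub) (h2 : x * x = 1) (h1 : x ≠ 1) :
    ∃ π : A8, π * (if isT x then t else n) * π⁻¹ = x := by
  obtain ⟨l, hl, e⟩ := twoCodes_class _ hx (by rw [← cd_mul, h2, cd_one])
    (fun e => h1 (cd_injective (e.trans cd_one.symm)))
  refine ⟨⟨_, mem_A8.2 (sign_wit l hl)⟩, mul_inv_eq_of_eq_mul (cd_injective ?_)⟩
  rw [cd_mul, cd_mul, apply_ite cd, cd_t, cd_n]
  show cmul (code _) _ = cmul _ (code _)
  rw [code_wit]
  exact e

theorem twoCodes_sq : ∀ c ∈ twoCodes, isTc c = true → c ∈ twoCodes.map (fun y => cmul y y) →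
    c = 14571144 ∨ c = 16434369 := by
  decide +kernel

theorem twoSub_sq {x y : A8} (hx : x ∈ twoSub) (hT : isT x = true) (hy : y ∈ twoSub) (e : y * y = x) :
    x = t ∨ x = u := by
  refine (twoCodes_sq _ hx hT (List.mem_map.2 ⟨_, hy, by rw [← cd_mul, e]⟩)).imp ?_ ?_
  · exact fun h => cd_injective (h.trans cd_t.symm)
  · exact fun h => cd_injective (h.trans cd_u.symm)

theorem twoCodes_s : ∀ c ∈ twoCodes, isTc c = true → cmul c 14571144 = cmul 14571144 c →
    isTc (cmul c 14571144) = true → isTc (cmul (cmul c 14571144) 16434369) = false →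
    c = 14571144 ∨ c = 16434369 ∨ c = 11789960 ∨ c = cmul 11789960 14571144 := by
  decide +kernel

theorem twoSub_s {x : A8} (hx : x ∈ twoSub) (hT : isT x = true) (hc : x * t = t * x)
    (h1 : isT (x * t) = true) (h2 : isT (x * t * u) = false) : x = t ∨ x = u ∨ x = s ∨ x = s * t := by
  have hc' := congrArg cd hc
  simp only [isT, cd_mul, cd_t, cd_u] at hc' h1 h2
  rcases twoCodes_s _ hx hT hc' h1 h2 with e | e | e | e
  · exact Or.inl (cd_injective (e.trans cd_t.symm))
  · exact Or.inr (Or.inl (cd_injective (e.trans cd_u.symm)))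
  · exact Or.inr (Or.inr (Or.inl (cd_injective (e.trans cd_s.symm))))
  · exact Or.inr (Or.inr (Or.inr (cd_injective (by rw [e, cd_mul, cd_s, cd_t]))))

theorem types : isT t = true ∧ isT u = true ∧ isT s = true ∧ isT (s * t) = true ∧
    isT (s * t * u) = false ∧ isT (t * u) = false := by
  simp only [isT, cd_mul, cd_t, cd_u, cd_s]
  decide +kernel

theorem gens_mem : t ∈ twoSub ∧ u ∈ twoSub ∧ s ∈ twoSub ∧ dd ∈ twoSub ∧ oo ∈ twoSub := by
  simp only [mem_twoSub, cd_t, cd_u, cd_s, cd_dd, cd_oo]
  decide +kernel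

theorem squares_codes : 14571144 ∈ twoCodes.map (fun y => cmul y y) ∧
    16434369 ∈ twoCodes.map (fun y => cmul y y) := by
  decide +kernel

theorem squares : (∃ y ∈ twoSub, y * y = t) ∧ ∃ y ∈ twoSub, y * y = u := by
  have key : ∀ {c : ℕ} {x : A8}, cd x = c → c ∈ twoCodes.map (fun y => cmul y y) →
      ∃ y ∈ twoSub, y * y = x := by
    intro c x hx h
    rw [List.mem_map, ← twoList_code] at h
    obtain ⟨b, hb, e⟩ := h
    obtain ⟨y, hy, rfl⟩ := List.mem_map.1 hb
    exact ⟨y, (mem_twoList_iff y).1 hy, cd_injective (by rw [cd_mul, e, hx])⟩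
  exact ⟨key cd_t squares_codes.1, key cd_u squares_codes.2⟩

theorem center_codes : ∀ c ∈ twoCodes,
    cmul c (cmul 14571144 16434369) = cmul (cmul 14571144 16434369) c := by
  decide +kernel

theorem twoSub_center {x : A8} (hx : x ∈ twoSub) : x * (t * u) = t * u * x :=
  cd_injective (by simp only [cd_mul, cd_t, cd_u]; exact center_codes _ hx)

theorem conj_rels : oo * t = u * oo ∧ oo * u = t * oo ∧ dd * t = t * dd ∧ dd * s = s * t * dd ∧
    dd * (s * t) = s * dd ∧ s * t = t * s ∧ n * y = y * n ∧ z * t = t * z ∧ z * ff = ff * z ∧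
    y * y * y = 1 ∧ z * z * z = 1 ∧ n * n = 1 ∧ t * t = 1 ∧ ff * ff * ff * ff * ff = 1 := by
  simp only [← cd_injective.eq_iff, cd_mul, cd_one, cd_t, cd_u, cd_s, cd_dd, cd_oo, cd_n, cd_y, cd_z, cd_ff]
  decide +kernel

theorem nontrivial_elements : ff ≠ 1 ∧ n ≠ 1 ∧ y ≠ 1 ∧ z ≠ 1 ∧ y ≠ n ∧ t ≠ 1 := by
  simp only [ne_eq, ← cd_injective.eq_iff, cd_one, cd_ff, cd_n, cd_y, cd_z, cd_t]
  decide +kernel

/-- A permutation commuting with `y` and `n`, from the images of `0` and `3`. -/
def fillYN (a b : ℕ) : ℕ :=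
  cput a (cget 12535313 a) (cget 12535313 (cget 12535313 a)) b (cget 4471285 b) (cget 4471285 a)
    (cget 12535313 (cget 4471285 a)) (cget 12535313 (cget 12535313 (cget 4471285 a)))

theorem fillYN_cases : ∀ a ∈ List.range 8, ∀ b ∈ List.range 8,
    ((List.range 8).map (cget (fillYN a b))).Nodup →
    cmul (fillYN a b) 12535313 = cmul 12535313 (fillYN a b) →
    cmul (fillYN a b) 4471285 = cmul 4471285 (fillYN a b) →
    fillYN a b ∈ [16434824, 12535313, 14140994, 4471285, 571774, 2177455] ∨
    fillYN a b ∈ [16431240, 12531729, 14137410, 4474869, 575358, 2181039] := by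
  decide +kernel

theorem odd_codes : ∀ c ∈ [16431240, 12531729, 14137410, 4474869, 575358, 2181039],
    cmul c 16431240 ∈ [16434824, 12535313, 14140994, 4471285, 571774, 2177455] := by
  decide +kernel

theorem commute_image {h g : A8} (e : h * g = g * h) (i : Fin 8) :
    (h.1 (g.1 i)).val = cget (cd g) (h.1 i).val := by
  rw [show h.1 (g.1 i) = g.1 (h.1 i) from congrArg (fun k : A8 => k.1 i) e]
  exact (cget_code g.1 (h.1 i)).symm

/-- The centraliser of `y` and `n`. -/
theorem cent_y_n {h : A8} (hy : h * y = y * h) (hn : h * n = n * h) :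
    h ∈ [1, y, y * y, n, n * y, n * (y * y)] := by
  have e : cd h = fillYN (h.1 0).val (h.1 3).val := by
    have h1 := commute_image hy 0
    have h2 := commute_image hy (y.1 0)
    have h4 := commute_image hn 3
    have h5 := commute_image hn 0
    have h6 := commute_image hy (n.1 0)
    have h7 := commute_image hy (y.1 (n.1 0))
    rw [show y.1 0 = 1 by decide +kernel, cd_y] at h1
    rw [show y.1 (y.1 0) = 2 by decide +kernel, show y.1 0 = 1 by decide +kernel, cd_y, h1] at h2
    rw [show n.1 3 = 4 by decide +kernel, cd_n] at h4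
    rw [show n.1 0 = 5 by decide +kernel, cd_n] at h5
    rw [show y.1 (n.1 0) = 6 by decide +kernel, show n.1 0 = 5 by decide +kernel, cd_y, h5] at h6
    rw [show y.1 (y.1 (n.1 0)) = 7 by decide +kernel, show y.1 (n.1 0) = 6 by decide +kernel, cd_y, h6] at h7
    rw [cd, code, fillYN, h1, h2, h4, h5, h6, h7]
  have hnd : ((List.range 8).map (cget (cd h))).Nodup := by
    refine List.Nodup.map_on (fun i hi j hj hij => ?_) List.nodup_range
    rw [List.mem_range] at hi hj
    rw [cd, cget_code h.1 ⟨i, hi⟩, cget_code h.1 ⟨j, hj⟩] at hij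
    exact congrArg Fin.val (h.1.injective (Fin.ext hij))
  have cy : cmul (cd h) 12535313 = cmul 12535313 (cd h) := by rw [← cd_y, ← cd_mul, ← cd_mul, hy]
  have cn : cmul (cd h) 4471285 = cmul 4471285 (cd h) := by rw [← cd_n, ← cd_mul, ← cd_mul, hn]
  rw [e] at hnd cy cn
  have hlist : ∀ g : A8, cd g ∈ [16434824, 12535313, 14140994, 4471285, 571774, 2177455] →
      g ∈ [1, y, y * y, n, n * y, n * (y * y)] := fun g hg => by
    refine (List.mem_map_of_injective cd_injective).1 ?_
    simp only [List.map_cons, List.map_nil, cd_mul, cd_one, cd_y, cd_n]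
    convert hg using 2 <;> decide +kernel
  rcases fillYN_cases _ (List.mem_range.2 (h.1 0).isLt) _ (List.mem_range.2 (h.1 3).isLt) hnd cy cn with hc | hc
  · exact hlist h (e ▸ hc)
  · exfalso
    have hc' := odd_codes _ (e ▸ hc)
    rw [cd, show 16431240 = code (swap 3 4 : Perm (Fin 8)) from by decide +kernel, ← code_mul] at hc'
    have : ∃ g : A8, cd g = code (h.1 * swap 3 4) := by
      simp only [List.mem_cons, List.not_mem_nil, or_false] at hc'
      rcases hc' with e' | e' | e' | e' | e' | e' <;>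
        [use 1; use y; use y * y; use n; use n * y; use n * (y * y)] <;>
        (rw [e']; simp only [cd_mul, cd_one, cd_y, cd_n] <;> decide +kernel)
    obtain ⟨g, hg⟩ := this
    have hs := mem_A8.1 g.2
    rw [code_injective hg, map_mul, mem_A8.1 h.2, Perm.sign_swap (by decide)] at hs
    exact absurd hs (by decide)

/-- A permutation commuting with `y`, from the images of `0`, `5` and `3`. -/
def fillY (a c b : ℕ) : ℕ :=
  cput a (cget 12535313 a) (cget 12535313 (cget 12535313 a)) b (if b = 3 then 4 else 3) c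
    (cget 12535313 c) (cget 12535313 (cget 12535313 c))

theorem fillY_five : ∀ a ∈ List.range 8, ∀ c ∈ List.range 8, ∀ b ∈ [3, 4],
    cmul (fillY a c b) (cmul (fillY a c b) (cmul (fillY a c b) (cmul (fillY a c b) (fillY a c b)))) = 16434824 →
    fillY a c b = 16434824 := by
  decide +kernel

theorem y_fixed : ∀ i : Fin 8, y.1 i = i ↔ i = 3 ∨ i = 4 := by decide +kernel

/-- No element of order five centralises `y`. -/
theorem cent_y_five {h : A8} (hy : h * y = y * h) (h5 : h * (h * (h * (h * h))) = 1) : h = 1 := by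
  have hfix : ∀ b : Fin 8, (b = 3 ∨ b = 4) → h.1 b = 3 ∨ h.1 b = 4 := fun b hb => by
    refine (y_fixed _).1 ?_
    have := congrArg (fun k : A8 => k.1 b) hy
    simp only [Subgroup.coe_mul, Perm.mul_apply, (y_fixed b).2 hb] at this
    exact this.symm
  have e : cd h = fillY (h.1 0).val (h.1 5).val (h.1 3).val := by
    have h1 := commute_image hy 0
    have h2 := commute_image hy (y.1 0)
    have h6 := commute_image hy 5
    have h7 := commute_image hy (y.1 5)
    rw [show y.1 0 = 1 by decide +kernel, cd_y] at h1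
    rw [show y.1 (y.1 0) = 2 by decide +kernel, show y.1 0 = 1 by decide +kernel, cd_y, h1] at h2
    rw [show y.1 5 = 6 by decide +kernel, cd_y] at h6
    rw [show y.1 (y.1 5) = 7 by decide +kernel, show y.1 5 = 6 by decide +kernel, cd_y, h6] at h7
    have h4 : (h.1 4).val = if (h.1 3).val = 3 then 4 else 3 := by
      rcases hfix 3 (Or.inl rfl) with e3 | e3 <;> rcases hfix 4 (Or.inr rfl) with e4 | e4
      all_goals first
        | exact absurd (h.1.injective (e3.trans e4.symm)) (by decide)
        | (rw [e3, e4]; rfl)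
    rw [cd, code, fillY, h1, h2, h4, h6, h7]
  have h5' : cmul (cd h) (cmul (cd h) (cmul (cd h) (cmul (cd h) (cd h)))) = 16434824 := by
    simp only [← cd_mul, h5, cd_one]
  rw [e] at h5'
  have hb : (h.1 3).val ∈ [3, 4] := by rcases hfix 3 (Or.inl rfl) with e3 | e3 <;> simp [e3]
  exact cd_injective (e.trans ((fillY_five _ (List.mem_range.2 (h.1 0).isLt) _
    (List.mem_range.2 (h.1 5).isLt) _ hb h5').trans cd_one.symm))

end CfsgLib.AltEightThree
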