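import Cfsg.Agent.Lib.AltEightThree.Emb
import Cfsg.Agent.Lib.AltEightThree.CentJModel
import Cfsg.Agent.Lib.SelfCentThree.Main
import Cfsg.Agent.Lib.Factor.NilpotentHall
import Cfsg.Agent.Lib.Linear.PSL2Seven

/-!
The centraliser of the fixed-point-free involution commuting with a product of two three-cycles.
-/

set_option autoImplicit false
set_option maxHeartbeats 400000

namespace CfsgLib.AltEightThree

open CfsgLib.SelfCentThree (SC)

universe u₀

variable {G : Type u₀} [Group G] (e : Emb G)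

theorem cube_y : y ^ 3 = 1 := by
  rw [pow_succ, pow_two]; exact conj_rels.2.2.2.2.2.2.2.2.2.1

theorem cube_z : z ^ 3 = 1 := by
  rw [pow_succ, pow_two]; exact conj_rels.2.2.2.2.2.2.2.2.2.2.1

theorem n_sq : n * n = 1 := conj_rels.2.2.2.2.2.2.2.2.2.2.2.1

theorem t_sq : t * t = 1 := conj_rels.2.2.2.2.2.2.2.2.2.2.2.2.1

theorem n_y : n * y = y * n := conj_rels.2.2.2.2.2.2.1

theorem z_t : z * t = t * z := conj_rels.2.2.2.2.2.2.2.1

theorem z_ff : z * ff = ff * z := conj_rels.2.2.2.2.2.2.2.2.1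

theorem ff_five : ff * (ff * (ff * (ff * ff))) = 1 := by
  have := conj_rels.2.2.2.2.2.2.2.2.2.2.2.2.2
  simpa [mul_assoc] using this

theorem two_involutions : u * u = 1 ∧ s * s = 1 ∧ s * t * (s * t) = 1 ∧ t * u * (t * u) = 1 ∧
    s * t * u * (s * t * u) = 1 ∧ u ≠ 1 ∧ s ≠ 1 ∧ s * t ≠ 1 ∧ t * u ≠ 1 ∧ s * t * u ≠ 1 ∧
    s ≠ t ∧ s ≠ u ∧ u ≠ t := by
  simp only [ne_eq, ← cd_injective.eq_iff, cd_mul, cd_one, cd_t, cd_u, cd_s]
  decide +kernel

theorem Emb.map_eq_one {h : A8} : e.φ h = 1 ↔ h = 1 :=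
  ⟨fun he => e.inj (he.trans (map_one _).symm), fun he => by rw [he, map_one]⟩

theorem Emb.lift_y {g : G} (hg : g * e.φ y = e.φ y * g) : ∃ h : A8, e.φ h = g ∧ h * y = y * h := by
  obtain ⟨h, rfl⟩ := e.le_y (Subgroup.mem_centralizer_singleton_iff.2 hg)
  exact ⟨h, rfl, e.inj (by simpa using hg)⟩

/-- The centraliser of the image of `n`. -/
abbrev Emb.cN : Subgroup G := Subgroup.centralizer ({e.φ n} : Set G)

theorem Emb.mem_cN {g : G} : g ∈ e.cN ↔ g * e.φ n = e.φ n * g := by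
  exact Subgroup.mem_centralizer_singleton_iff

theorem Emb.map_mem_cN {h : A8} : e.φ h ∈ e.cN ↔ h * n = n * h := by
  rw [e.mem_cN, ← map_mul, ← map_mul, e.inj.eq_iff]

/-- `n` in its centraliser. -/
def Emb.nQ : e.cN := ⟨e.φ n, e.mem_cN.2 rfl⟩

/-- `y` in that centraliser. -/
def Emb.yQ : e.cN := ⟨e.φ y, e.map_mem_cN.2 n_y.symm⟩

theorem Emb.nQ_central (g : e.cN) : g * e.nQ = e.nQ * g := Subtype.ext (e.mem_cN.1 g.2)

instance Emb.nQ_normal : (Subgroup.zpowers e.nQ).Normal :=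
  ⟨fun a ha g => by
    obtain ⟨k, rfl⟩ := Subgroup.mem_zpowers_iff.1 ha
    have hc : Commute g e.nQ := e.nQ_central g
    rw [(hc.zpow_right k).eq, mul_inv_cancel_right]
    exact Subgroup.zpow_mem _ (Subgroup.mem_zpowers _) k⟩

theorem Emb.order_nQ : orderOf e.nQ = 2 := by
  haveI : Fact (Nat.Prime 2) := ⟨Nat.prime_two⟩
  refine orderOf_eq_prime ?_ fun h => nontrivial_elements.2.1 (e.map_eq_one.1 (congrArg Subtype.val h))
  exact Subtype.ext (show e.φ n ^ 2 = 1 by rw [← map_pow, sq, n_sq, map_one])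

theorem Emb.mem_zpowers_nQ {g : e.cN} (hg : g ∈ Subgroup.zpowers e.nQ) : g = 1 ∨ g = e.nQ := by
  obtain ⟨k, rfl⟩ := Subgroup.mem_zpowers_iff.1 hg
  rw [← zpow_mod_orderOf, e.order_nQ]
  have : k % (2 : ℤ) = 0 ∨ k % (2 : ℤ) = 1 := Int.emod_two_eq_zero_or_one k
  rcases this with h | h <;> push_cast <;> rw [h]
  · exact Or.inl (zpow_zero _)
  · exact Or.inr (zpow_one _)

theorem Emb.cube_eq {g : G} (hg : g ^ 3 = 1) (hc : Commute g (e.φ n)) : (e.φ n * g) ^ 3 = e.φ n := by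
  have h2 : e.φ n ^ 2 = 1 := by rw [← map_pow, sq, n_sq, map_one]
  rw [(hc.symm).mul_pow, hg, mul_one, pow_succ, h2, one_mul]

theorem Emb.phi_n_ne : e.φ n ≠ 1 := fun h => nontrivial_elements.2.1 (e.map_eq_one.1 h)

/-- Two elements with trivial cubes congruent modulo `⟨n⟩` are equal. -/
theorem Emb.eq_of_mk_eq {a b : e.cN} (ha : a ^ 3 = 1) (hb : b ^ 3 = 1)
    (h : QuotientGroup.mk' (Subgroup.zpowers e.nQ) a = QuotientGroup.mk' (Subgroup.zpowers e.nQ) b) :
    a = b := by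
  have hm : a * b⁻¹ ∈ Subgroup.zpowers e.nQ := by
    rw [← QuotientGroup.eq_one_iff]
    simpa [QuotientGroup.mk'_apply, mul_inv_eq_one] using h
  rcases e.mem_zpowers_nQ hm with h1 | h1
  · exact mul_inv_eq_one.1 h1
  · exfalso
    have hab : a = e.nQ * b := by rw [← h1, inv_mul_cancel_right]
    have hcube := e.cube_eq (g := (b : G)) (by simpa using congrArg Subtype.val hb) (e.mem_cN.1 b.2)
    refine e.phi_n_ne ?_
    rw [← hcube]
    have := congrArg Subtype.val ha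
    rw [hab] at this
    simpa [Emb.nQ] using this

theorem Emb.yQ_cube : e.yQ ^ 3 = 1 :=
  Subtype.ext (show e.φ y ^ 3 = 1 by rw [← map_pow, cube_y, map_one])

theorem Emb.sc_bar : SC (QuotientGroup.mk' (Subgroup.zpowers e.nQ) e.yQ) := by
  haveI : Fact (Nat.Prime 3) := ⟨Nat.prime_three⟩
  set π := QuotientGroup.mk' (Subgroup.zpowers e.nQ) with hπ
  refine ⟨orderOf_eq_prime (by rw [← map_pow, e.yQ_cube, map_one]) fun h => ?_, ?_⟩
  · have := e.eq_of_mk_eq e.yQ_cube (one_pow 3) (h.trans (map_one _).symm)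
    exact nontrivial_elements.2.2.1 (e.map_eq_one.1 (congrArg Subtype.val this))
  intro gb hgb
  obtain ⟨g, rfl⟩ := QuotientGroup.mk'_surjective (Subgroup.zpowers e.nQ) gb
  have hcy : g * e.yQ * g⁻¹ = e.yQ := by
    refine e.eq_of_mk_eq (by rw [conj_pow, e.yQ_cube, mul_one, mul_inv_cancel]) e.yQ_cube ?_
    rw [map_mul, map_mul, map_inv, hgb, mul_inv_cancel_right]
  obtain ⟨h, hh, hhy⟩ := e.lift_y (g := (g : G))
    (by simpa [Emb.yQ] using congrArg Subtype.val (mul_inv_eq_iff_eq_mul.1 hcy))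
  have hhn : h * n = n * h := e.map_mem_cN.1 (by rw [hh]; exact g.2)
  have hn1 : π e.nQ = 1 := (QuotientGroup.eq_one_iff _).2 (Subgroup.mem_zpowers _)
  have hm := Subgroup.mem_zpowers (π e.yQ)
  have hl := cent_y_n hhy hhn
  simp only [List.mem_cons, List.not_mem_nil, or_false] at hl
  have key : ∀ q : e.cN, (q : G) = e.φ h → π q ∈ Subgroup.zpowers (π e.yQ) →
      π g ∈ Subgroup.zpowers (π e.yQ) := fun q hq hqm => by
    rwa [show g = q from Subtype.ext (hh.symm.trans hq.symm)]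
  rcases hl with rfl | rfl | rfl | rfl | rfl | rfl
  · exact key 1 (map_one _).symm (by rw [map_one]; exact one_mem _)
  · exact key e.yQ rfl hm
  · exact key (e.yQ * e.yQ) (map_mul _ _ _).symm (by rw [map_mul]; exact mul_mem hm hm)
  · exact key e.nQ rfl (by rw [hn1]; exact one_mem _)
  · exact key (e.nQ * e.yQ) (map_mul _ _ _).symm (by rw [map_mul, hn1, one_mul]; exact hm)
  · exact key (e.nQ * (e.yQ * e.yQ)) (by simp [Emb.nQ, Emb.yQ, map_mul])
      (by rw [map_mul, hn1, one_mul, map_mul]; exact mul_mem hm hm)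

/-- No element of order five commutes with a conjugate of `z` equal to `y` or its inverse. -/
theorem Emb.z_not_conj_y (k : G) (hk : k * e.φ z * k⁻¹ = e.φ y ∨ k * e.φ z * k⁻¹ = (e.φ y)⁻¹) : False := by
  have hc : Commute (k * e.φ ff * k⁻¹) (k * e.φ z * k⁻¹) := by
    show _ * _ = _ * _
    rw [show k * e.φ ff * k⁻¹ * (k * e.φ z * k⁻¹) = k * (e.φ ff * e.φ z) * k⁻¹ by group, ← map_mul,
      ← z_ff, map_mul]
    group
  have hc' : Commute (k * e.φ ff * k⁻¹) (e.φ y) := by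
    rcases hk with hk | hk <;> rw [hk] at hc
    · exact hc
    · simpa using hc.inv_right
  obtain ⟨h, hh, hhy⟩ := e.lift_y hc'.eq
  have h5 : h * (h * (h * (h * h))) = 1 := by
    refine e.map_eq_one.1 ?_
    simp only [map_mul, hh]
    calc _ = k * (e.φ ff * (e.φ ff * (e.φ ff * (e.φ ff * e.φ ff)))) * k⁻¹ := by group
      _ = 1 := by rw [← map_mul, ← map_mul, ← map_mul, ← map_mul, ff_five, map_one, mul_one, mul_inv_cancel]
  rw [cent_y_five hhy h5, map_one] at hh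
  exact nontrivial_elements.1 (e.map_eq_one.1 (conj_eq_one_iff.1 hh.symm))

variable [Finite G]

/-- The two classes of involutions of the model are not fused. -/
theorem Emb.not_fused (g : G) : g * e.φ n * g⁻¹ ≠ e.φ t := by
  intro hg
  haveI : Fact (Nat.Prime 3) := ⟨Nat.prime_three⟩
  set π := QuotientGroup.mk' (Subgroup.zpowers e.nQ) with hπ
  have hx : g⁻¹ * e.φ z * g ∈ e.cN := by
    rw [e.mem_cN]
    calc g⁻¹ * e.φ z * g * e.φ n = g⁻¹ * (e.φ z * (g * e.φ n * g⁻¹)) * g := by group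
      _ = g⁻¹ * ((g * e.φ n * g⁻¹) * e.φ z) * g := by rw [hg, ← map_mul, z_t, map_mul]
      _ = e.φ n * (g⁻¹ * e.φ z * g) := by group
  set x0 : e.cN := ⟨g⁻¹ * e.φ z * g, hx⟩
  have hx3 : x0 ^ 3 = 1 := Subtype.ext (show (g⁻¹ * e.φ z * g) ^ 3 = 1 by
    rw [show g⁻¹ * e.φ z * g = g⁻¹ * e.φ z * g⁻¹⁻¹ by group, conj_pow, ← map_pow, cube_z, map_one]
    group)
  have hxb : orderOf (π x0) = 3 := by
    refine orderOf_eq_prime (by rw [← map_pow, hx3, map_one]) fun h => ?_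
    have := congrArg Subtype.val (e.eq_of_mk_eq hx3 (one_pow 3) (h.trans (map_one _).symm))
    have hz : e.φ z = 1 := by
      calc e.φ z = g * (x0 : G) * g⁻¹ := by simp only [x0]; group
        _ = 1 := by rw [this]; simp
    exact nontrivial_elements.2.2.2.1 (e.map_eq_one.1 hz)
  obtain ⟨cb, hcb⟩ := e.sc_bar.isConj_or (e.sc_bar.sc_of_dvd (y := π x0) (hxb ▸ dvd_rfl))
  obtain ⟨c, rfl⟩ := QuotientGroup.mk'_surjective (Subgroup.zpowers e.nQ) cb
  have hy' : (e.yQ⁻¹) ^ 3 = 1 := by rw [inv_pow, e.yQ_cube, inv_one]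
  refine e.z_not_conj_y ((c : G)⁻¹ * g⁻¹) ?_
  have hz : ((c : G)⁻¹ * g⁻¹) * e.φ z * ((c : G)⁻¹ * g⁻¹)⁻¹ = (c : G)⁻¹ * (x0 : G) * c := by
    simp only [x0]; group
  rw [hz]
  have hcube : ∀ w : e.cN, w ^ 3 = 1 → π x0 = π c * π w * (π c)⁻¹ → c⁻¹ * x0 * c = w := fun w hw h => by
    refine e.eq_of_mk_eq ?_ hw ?_
    · rw [show c⁻¹ * x0 * c = c⁻¹ * x0 * c⁻¹⁻¹ by group, conj_pow, hx3]; group
    · show π _ = π _
      rw [map_mul, map_mul, map_inv, h]; group
  rcases hcb with h | h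
  · exact Or.inl (congrArg Subtype.val (hcube e.yQ e.yQ_cube h))
  · exact Or.inr (congrArg Subtype.val (hcube e.yQ⁻¹ hy' (by rw [map_inv]; exact h)))

theorem Emb.type_forward {g : G} {x x' : A8} (hx : x ∈ twoSub) (hx' : x' ∈ twoSub) (h2 : x * x = 1)
    (h1 : x ≠ 1) (h : g * e.φ x * g⁻¹ = e.φ x') (hT : isT x = true) : isT x' = true := by
  have h2' : x' * x' = 1 := e.inj (by
    rw [map_mul, ← h, map_one, show g * e.φ x * g⁻¹ * (g * e.φ x * g⁻¹) = g * (e.φ x * e.φ x) * g⁻¹ by group,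
      ← map_mul, h2, map_one, mul_one, mul_inv_cancel])
  have h1' : x' ≠ 1 := fun hb => h1 (e.map_eq_one.1 (conj_eq_one_iff.1 (by rw [h, hb, map_one])))
  obtain ⟨π, hπ⟩ := twoSub_class hx h2 h1
  obtain ⟨π', hπ'⟩ := twoSub_class hx' h2' h1'
  by_contra hF
  rw [if_pos hT] at hπ
  rw [if_neg hF] at hπ'
  refine e.not_fused ((e.φ π)⁻¹ * g⁻¹ * e.φ π') ?_
  calc (e.φ π)⁻¹ * g⁻¹ * e.φ π' * e.φ n * ((e.φ π)⁻¹ * g⁻¹ * e.φ π')⁻¹
      = (e.φ π)⁻¹ * g⁻¹ * (e.φ π' * e.φ n * (e.φ π')⁻¹) * g * e.φ π := by group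
    _ = (e.φ π)⁻¹ * (g⁻¹ * e.φ x' * g) * e.φ π := by
        rw [← map_inv e.φ π', ← map_mul, ← map_mul, hπ']; group
    _ = (e.φ π)⁻¹ * e.φ x * e.φ π := by rw [← h]; group
    _ = e.φ t := by rw [← hπ]; simp [mul_assoc]

theorem Emb.type_eq {g : G} {x x' : A8} (hx : x ∈ twoSub) (hx' : x' ∈ twoSub) (h2 : x * x = 1)
    (h1 : x ≠ 1) (h : g * e.φ x * g⁻¹ = e.φ x') : isT x' = isT x := by
  have h2' : x' * x' = 1 := e.inj (by
    rw [map_mul, ← h, map_one, show g * e.φ x * g⁻¹ * (g * e.φ x * g⁻¹) = g * (e.φ x * e.φ x) * g⁻¹ by group,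
      ← map_mul, h2, map_one, mul_one, mul_inv_cancel])
  have h1' : x' ≠ 1 := fun hb => h1 (e.map_eq_one.1 (conj_eq_one_iff.1 (by rw [h, hb, map_one])))
  rw [Bool.eq_iff_iff]
  exact ⟨e.type_forward (g := g⁻¹) hx' hx h2' h1' (by rw [← h]; group), e.type_forward hx hx' h2 h1 h⟩

theorem Emb.img_mul {g : G} {a a' b b' : A8} (ha : g * e.φ a * g⁻¹ = e.φ a')
    (hb : g * e.φ b * g⁻¹ = e.φ b') : g * e.φ (a * b) * g⁻¹ = e.φ (a' * b') := by
  rw [map_mul, map_mul, ← ha, ← hb]; group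

omit [Finite G] in
theorem Emb.img_inj {g : G} {a b c : A8} (ha : g * e.φ a * g⁻¹ = e.φ c)
    (hb : g * e.φ b * g⁻¹ = e.φ c) : a = b :=
  e.inj (mul_left_cancel (mul_right_cancel (ha.trans hb.symm)))

/-- An element normalising the image of the Sylow two-subgroup lies in the embedded group. -/
theorem Emb.normalizer_two {g : G} (hg : ∀ x ∈ twoSub, ∃ x' ∈ twoSub, g * e.φ x * g⁻¹ = e.φ x') :
    g ∈ e.φ.range := by
  obtain ⟨hu2, hs2, hst2, htu2, hstu2, hu1, hs1, hst1, htu1, hstu1, hst, hsu, hut⟩ := two_involutions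
  obtain ⟨ht', hu', hs', hd, ho⟩ := gens_mem
  obtain ⟨hTt, hTu, hTs, hTst, hTstu, hTtu⟩ := types
  have htne : t ≠ 1 := nontrivial_elements.2.2.2.2.2
  -- squares with four fixed points
  have hsq : ∀ {g : G}, (∀ x ∈ twoSub, ∃ x' ∈ twoSub, g * e.φ x * g⁻¹ = e.φ x') →
      ∀ {x y : A8}, x ∈ twoSub → isT x = true → x * x = 1 → x ≠ 1 → y ∈ twoSub → y * y = x →
      g * e.φ x * g⁻¹ = e.φ t ∨ g * e.φ x * g⁻¹ = e.φ u := by
    intro g hg x y hx hT h2 h1 hy hyx
    obtain ⟨x', hx', hgx⟩ := hg x hx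
    obtain ⟨y', hy', hgy⟩ := hg y hy
    have hyy : y' * y' = x' := e.inj (by rw [← e.img_mul hgy hgy, hyx, hgx])
    rcases twoSub_sq hx' ((e.type_eq hx hx' h2 h1 hgx).trans hT) hy' hyy with rfl | rfl
    · exact Or.inl hgx
    · exact Or.inr hgx
  -- multiplying by an element of the two-group
  have hmul : ∀ {g : G} {c : A8}, (∀ x ∈ twoSub, ∃ x' ∈ twoSub, g * e.φ x * g⁻¹ = e.φ x') → c ∈ twoSub →
      ∀ x ∈ twoSub, ∃ x' ∈ twoSub, (e.φ c * g) * e.φ x * (e.φ c * g)⁻¹ = e.φ x' := by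
    intro g c hg hc x hx
    obtain ⟨x', hx', h⟩ := hg x hx
    exact ⟨c * x' * c⁻¹, mul_mem (mul_mem hc hx') (inv_mem hc), by rw [map_mul, map_mul, map_inv, ← h]; group⟩
  have hback : ∀ {g : G} {c : A8}, e.φ c * g ∈ e.φ.range → g ∈ e.φ.range := fun {g c} h => by
    simpa using mul_mem (inv_mem (⟨c, rfl⟩ : e.φ c ∈ e.φ.range)) h
  have hfour : ∀ {g : G}, g * e.φ t * g⁻¹ = e.φ t → g * e.φ s * g⁻¹ = e.φ s → g ∈ e.φ.range :=
    fun {g} h1 h2 => e.le_four <| by
      rw [Subgroup.mem_centralizer_iff]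
      rintro x (rfl | rfl)
      · exact (mul_inv_eq_iff_eq_mul.1 h1).symm
      · exact (mul_inv_eq_iff_eq_mul.1 h2).symm
  obtain ⟨⟨rt, hrt, hrt'⟩, ru, hru, hru'⟩ := squares
  have main : ∀ {g : G}, (∀ x ∈ twoSub, ∃ x' ∈ twoSub, g * e.φ x * g⁻¹ = e.φ x') →
      g * e.φ t * g⁻¹ = e.φ t → g ∈ e.φ.range := by
    intro g hg hgt
    have hgu : g * e.φ u * g⁻¹ = e.φ u :=
      (hsq hg hu' hTu hu2 hu1 hru hru').resolve_left fun h => hut (e.img_inj h hgt)
    obtain ⟨s', hs'm, hgs⟩ := hg s hs'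
    have hgst := e.img_mul hgs hgt
    have hgstu := e.img_mul hgst hgu
    have hT1 := (e.type_eq hs' hs'm hs2 hs1 hgs).trans hTs
    have hT2 := (e.type_eq (mul_mem hs' ht') (mul_mem hs'm ht') hst2 hst1 hgst).trans hTst
    have hT3 := (e.type_eq (mul_mem (mul_mem hs' ht') hu') (mul_mem (mul_mem hs'm ht') hu') hstu2 hstu1
      hgstu).trans hTstu
    have hcomm : s' * t = t * s' := e.inj (by
      rw [← hgst, ← e.img_mul hgt hgs, conj_rels.2.2.2.2.2.1])
    rcases twoSub_s hs'm hT1 hcomm hT2 hT3 with rfl | rfl | rfl | rfl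
    · exact absurd (e.img_inj hgs hgt) hst
    · exact absurd (e.img_inj hgs hgu) hsu
    · exact hfour hgt hgs
    · refine hback (c := dd) (hfour ?_ ?_)
      · calc e.φ dd * g * e.φ t * (e.φ dd * g)⁻¹ = e.φ dd * (g * e.φ t * g⁻¹) * (e.φ dd)⁻¹ := by group
          _ = e.φ t := by rw [hgt, ← map_mul, conj_rels.2.2.1, map_mul, mul_inv_cancel_right]
      · calc e.φ dd * g * e.φ s * (e.φ dd * g)⁻¹ = e.φ dd * (g * e.φ s * g⁻¹) * (e.φ dd)⁻¹ := by group
          _ = e.φ s := by rw [hgs, ← map_mul, conj_rels.2.2.2.2.1, map_mul, mul_inv_cancel_right]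
  rcases hsq hg ht' hTt t_sq htne hrt hrt' with h | h
  · exact main hg h
  · refine hback (c := oo) (main (hmul hg ho) ?_)
    calc e.φ oo * g * e.φ t * (e.φ oo * g)⁻¹ = e.φ oo * (g * e.φ t * g⁻¹) * (e.φ oo)⁻¹ := by group
      _ = e.φ t := by rw [h, ← map_mul, conj_rels.2.1, map_mul, mul_inv_cancel_right]

include e in
/-- The two-part of the order of the group is that of the model. -/
theorem Emb.not_dvd_128 : ¬ 128 ∣ Nat.card G := by
  haveI : Fact (Nat.Prime 2) := ⟨Nat.prime_two⟩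
  set S := twoSub.map e.φ with hS
  have hScard : Nat.card S = 64 := by rw [hS, Subgroup.card_map_of_injective e.inj, card_twoSub]
  obtain ⟨P, hP⟩ := (IsPGroup.of_card (n := 6) (by rw [hScard]; norm_num) : IsPGroup 2 S).exists_le_sylow
  have hPS : (P : Subgroup G) = S := by
    refine le_antisymm ?_ hP
    by_contra hlt
    haveI : Group.IsNilpotent (P : Subgroup G) := P.isPGroup'.isNilpotent
    have hne : S.subgroupOf (P : Subgroup G) < ⊤ :=
      lt_top_iff_ne_top.2 fun h => hlt (Subgroup.subgroupOf_eq_top.1 h)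
    obtain ⟨⟨g, hgP⟩, hgN, hgS⟩ :=
      SetLike.exists_of_lt (Group.normalizerCondition_of_isNilpotent (G := (P : Subgroup G)) _ hne)
    have hgn : ∀ x ∈ twoSub, ∃ x' ∈ twoSub, g * e.φ x * g⁻¹ = e.φ x' := fun x hx => by
      have h := (Subgroup.mem_normalizer_iff.1 hgN ⟨e.φ x, hP ⟨x, hx, rfl⟩⟩).1
        (Subgroup.mem_subgroupOf.2 ⟨x, hx, rfl⟩)
      obtain ⟨x', hx', he⟩ := Subgroup.mem_subgroupOf.1 h
      exact ⟨x', hx', he.symm⟩
    have hgr := e.normalizer_two hgn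
    obtain ⟨k, hk⟩ := IsPGroup.iff_card.1 (P.isPGroup'.to_le (inf_le_left (b := e.φ.range)))
    have hA : Nat.card e.φ.range = 20160 := by
      rw [← Nat.card_congr (MonoidHom.ofInjective e.inj).toEquiv, nat_card_alternatingGroup,
        Nat.card_fin]
      rfl
    have hdvd := Subgroup.card_dvd_of_le (inf_le_right : (P : Subgroup G) ⊓ e.φ.range ≤ _)
    rw [hk, hA] at hdvd
    have hk6 : k ≤ 6 := by
      by_contra hk7
      have h128 : 2 ^ 7 ∣ 20160 := (pow_dvd_pow 2 (by omega)).trans hdvd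
      norm_num at h128
    have hle : S ≤ (P : Subgroup G) ⊓ e.φ.range :=
      le_inf hP (by rw [hS]; exact Subgroup.map_le_range e.φ twoSub)
    have heq := Subgroup.eq_of_le_of_card_ge hle (by
      rw [hk, hScard]; exact (Nat.pow_le_pow_right (by norm_num) hk6).trans (by norm_num))
    exact hgS (Subgroup.mem_subgroupOf.2 (heq.ge ⟨hgP, hgr⟩))
  intro h
  obtain ⟨K, hK⟩ := Sylow.exists_subgroup_card_pow_prime (G := G) 2 (n := 7) (by simpa using h)
  obtain ⟨P', hP'⟩ := (IsPGroup.of_card hK).exists_le_sylow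
  have := Subgroup.card_dvd_of_le hP'
  rw [hK, P'.card_eq_multiplicity, ← P.card_eq_multiplicity, hPS, hScard] at this
  norm_num at this

/-- A subgroup of order `64` of the embedded group centralising `n`. -/
theorem Emb.exists_two_part : ∃ R : Subgroup G, R ≤ e.cN ∧ R ≤ e.φ.range ∧ Nat.card R = 64 := by
  obtain ⟨ht', hu', -, -, -⟩ := gens_mem
  obtain ⟨-, -, -, htu2, -, -, -, -, htu1, -⟩ := two_involutions
  obtain ⟨π, hπ⟩ := twoSub_class (mul_mem ht' hu') htu2 htu1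
  rw [if_neg (by rw [types.2.2.2.2.2]; decide)] at hπ
  refine ⟨(twoSub.map (MulAut.conj π⁻¹).toMonoidHom).map e.φ, ?_, Subgroup.map_le_range e.φ _, ?_⟩
  · rintro _ ⟨_, ⟨x, hx, rfl⟩, rfl⟩
    refine e.map_mem_cN.2 ?_
    have hc := twoSub_center hx
    rw [← hπ] at hc
    calc π⁻¹ * x * π⁻¹⁻¹ * n = π⁻¹ * (x * (π * n * π⁻¹)) * π := by group
      _ = π⁻¹ * ((π * n * π⁻¹) * x) * π := by rw [hc]
      _ = n * (π⁻¹ * x * π⁻¹⁻¹) := by group
  · rw [Subgroup.card_map_of_injective e.inj, Subgroup.card_map_of_injective (MulEquiv.injective _),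
      card_twoSub]

/-- The centraliser of `n` modulo `⟨n⟩` is nilpotent by a group of order three or six. -/
theorem Emb.typeI : CfsgLib.SelfCentThree.TypeI (e.cN ⧸ Subgroup.zpowers e.nQ) := by
  obtain ⟨R, hR, -, hRc⟩ := e.exists_two_part
  have hQ : Nat.card e.cN = Nat.card (e.cN ⧸ Subgroup.zpowers e.nQ) * 2 := by
    rw [Subgroup.card_eq_card_quotient_mul_card_subgroup (Subgroup.zpowers e.nQ), Nat.card_zpowers,
      e.order_nQ]
  have h64 : 64 ∣ Nat.card e.cN := hRc ▸ Subgroup.card_dvd_of_le hR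
  have h128 : ¬ 128 ∣ Nat.card e.cN :=
    fun h => e.not_dvd_128 (h.trans (Subgroup.card_subgroup_dvd_card _))
  rw [hQ] at h64 h128
  have hb32 : 32 ∣ Nat.card (e.cN ⧸ Subgroup.zpowers e.nQ) := by omega
  have hb64 : ¬ 64 ∣ Nat.card (e.cN ⧸ Subgroup.zpowers e.nQ) := by omega
  have h := e.sc_bar
  rcases h.concl with hI | ⟨N, hN, -, hexp, ⟨f⟩⟩ | ⟨⟨f⟩⟩
  · exact hI
  · exfalso
    haveI : Fact (Nat.Prime 2) := ⟨Nat.prime_two⟩
    obtain ⟨k, hk⟩ := IsPGroup.iff_card.1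
      (CfsgLib.SelfCentThree.isPGroup_two_of_exp (Y := N) fun a ha => by rw [← sq]; exact hexp a ha)
    have hA5 : Nat.card CfsgLib.SelfCentThree.A5 = 60 := by
      rw [nat_card_alternatingGroup, Nat.card_fin]; rfl
    rw [Subgroup.card_eq_card_quotient_mul_card_subgroup N, Nat.card_congr f.toEquiv, hA5, hk] at hb32 hb64
    have hk3 : 3 ≤ k := by
      by_contra hlt
      interval_cases k <;> norm_num at hb32
    have hk3' : k ≤ 3 := by
      by_contra hlt
      exact hb64 ((show 64 ∣ 60 * 2 ^ 4 by norm_num).trans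
        (mul_dvd_mul_left 60 (pow_dvd_pow 2 (show 4 ≤ k by omega))))
    have hk' : k = 3 := by omega
    subst hk'
    have hY : ¬ 3 ∣ Nat.card N := by rw [hk]; norm_num
    have := h.card_mod_three hY (by rw [Subgroup.normalizer_eq_top (H := N)]; exact Subgroup.mem_top _)
    rw [hk] at this
    norm_num at this
  · exfalso
    have : Nat.card (e.cN ⧸ Subgroup.zpowers e.nQ) = 168 :=
      (Nat.card_congr f.toEquiv).trans CfsgLib.Linear.PSL2Seven.card_PSL2Seven
    omega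

theorem Emb.split_n : e.Split (e.φ n) := by
  classical
  haveI : Fact (Nat.Prime 2) := ⟨Nat.prime_two⟩
  obtain ⟨N, hN, hnil, hcop, hquot⟩ := e.typeI
  have hq := CfsgLib.SelfCentThree.TypeI.card_quot hquot
  set M0 := N.comap (QuotientGroup.mk' (Subgroup.zpowers e.nQ)) with hM0
  have hM0card : Nat.card M0 = Nat.card N * 2 := by
    have h1 := Subgroup.card_mul_index M0
    rw [hM0, Subgroup.index_comap_of_surjective N (QuotientGroup.mk'_surjective (Subgroup.zpowers e.nQ)),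
      Subgroup.card_eq_card_quotient_mul_card_subgroup (Subgroup.zpowers e.nQ), ← Subgroup.card_mul_index N] at h1
    refine Nat.eq_of_mul_eq_mul_right (Nat.pos_of_ne_zero (Subgroup.index_ne_zero_of_finite (H := N))) ?_
    rw [h1, Nat.card_zpowers, e.order_nQ]; ring
  have hQcard : Nat.card e.cN = Nat.card M0 * Nat.card ((e.cN ⧸ Subgroup.zpowers e.nQ) ⧸ N) := by
    rw [hM0card, Subgroup.card_eq_card_quotient_mul_card_subgroup (Subgroup.zpowers e.nQ),
      Subgroup.card_eq_card_quotient_mul_card_subgroup N, Nat.card_zpowers, e.order_nQ]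
    ring
  haveI := hnil
  haveI hM0nil : Group.IsNilpotent M0 := by
    refine isNilpotent_of_ker_le_center ((QuotientGroup.mk' (Subgroup.zpowers e.nQ)).subgroupComap N) ?_
    intro a ha
    have hmem : (a : e.cN) ∈ (Subgroup.zpowers e.nQ) := (QuotientGroup.eq_one_iff _).1 (congrArg Subtype.val ha)
    obtain ⟨k, hk⟩ := Subgroup.mem_zpowers_iff.1 hmem
    refine Subgroup.mem_center_iff.2 fun b => Subtype.ext ?_
    show (b : e.cN) * (a : e.cN) = (a : e.cN) * (b : e.cN)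
    rw [← hk]
    have hc : Commute (b : e.cN) e.nQ := e.nQ_central b
    exact (hc.zpow_right k).eq
  set H := M0.map e.cN.subtype with hH
  have hHnil : Group.IsNilpotent H :=
    Group.nilpotent_of_mulEquiv (M0.equivMapOfInjective _ e.cN.subtype_injective)
  have hHcard : Nat.card H = Nat.card M0 := Subgroup.card_map_of_injective e.cN.subtype_injective
  obtain ⟨S, T, hSH, hTH, hS, hT2, hST, hTC, hsup⟩ := CfsgLib.Factor.exists_split hHnil 2
  have hHQ : H ≤ e.cN := Subgroup.map_subtype_le _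
  have hN3 : ¬ 3 ∣ Nat.card N := CfsgLib.SelfCentThree.not_three_of_coprime hcop
  have hH3 : ¬ 3 ∣ Nat.card H := by
    rw [hHcard, hM0card]; omega
  have hT3 : ¬ 3 ∣ Nat.card T := fun h => hH3 (h.trans ⟨Nat.card S, by rw [mul_comm, hST]⟩)
  have hT6 : (Nat.card T).Coprime 6 := by
    rw [show 6 = 2 * 3 from rfl]
    exact Nat.Coprime.mul_right ((Nat.prime_two.coprime_iff_not_dvd.2 hT2).symm)
      ((Nat.prime_three.coprime_iff_not_dvd.2 hT3).symm)
  have hdisj : S ⊓ T = ⊥ := by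
    obtain ⟨k, hk⟩ := IsPGroup.iff_card.1 hS
    refine Subgroup.inf_eq_bot_of_coprime ?_
    rw [hk]
    exact Nat.Coprime.pow_left k (Nat.prime_two.coprime_iff_not_dvd.2 hT2)
  refine ⟨T, hTH.trans hHQ, hT6, ?_, ?_⟩
  · intro x hx hco
    have hxH : x ∈ H := by
      refine ⟨⟨x, hx⟩, ?_, rfl⟩
      show QuotientGroup.mk' (Subgroup.zpowers e.nQ) ⟨x, hx⟩ ∈ N
      rw [← QuotientGroup.eq_one_iff, ← orderOf_eq_one_iff]
      set w : (e.cN ⧸ Subgroup.zpowers e.nQ) ⧸ N := ((QuotientGroup.mk' (Subgroup.zpowers e.nQ) ⟨x, hx⟩ : e.cN ⧸ (Subgroup.zpowers e.nQ)) : (e.cN ⧸ Subgroup.zpowers e.nQ) ⧸ N)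
      have h1 : orderOf w ∣ orderOf x := by
        rw [← Subgroup.orderOf_mk x hx]
        exact (orderOf_map_dvd (QuotientGroup.mk' N) _).trans (orderOf_map_dvd (QuotientGroup.mk' (Subgroup.zpowers e.nQ)) _)
      have h2 : orderOf w ∣ 6 := (orderOf_dvd_natCard w).trans (by
        rcases hq with h | h <;> rw [h] <;> norm_num)
      exact Nat.eq_one_of_dvd_coprimes hco h1 h2
    rw [← hsup] at hxH
    obtain ⟨a, ha, b, hb, rfl⟩ : ∃ a ∈ S, ∃ b ∈ T, a * b = x := by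
      rw [← SetLike.mem_coe, Subgroup.coe_mul_of_right_le_normalizer_left S T
        (hTC.trans (Subgroup.centralizer_le_normalizer _))] at hxH
      exact Set.mem_mul.1 hxH
    have hc : Commute a b := Subgroup.mem_centralizer_iff.1 (hTC hb) a ha
    have hp := pow_orderOf_eq_one (a * b)
    rw [hc.mul_pow] at hp
    have hm : a ^ orderOf (a * b) ∈ S ⊓ T := Subgroup.mem_inf.2 ⟨pow_mem ha _, by
      rw [eq_inv_of_mul_eq_one_left hp]; exact inv_mem (pow_mem hb _)⟩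
    rw [hdisj, Subgroup.mem_bot] at hm
    obtain ⟨k, hk⟩ := IsPGroup.iff_card.1 hS
    have h2 : (2 ^ k).Coprime (orderOf (a * b)) :=
      Nat.Coprime.pow_left k (hco.coprime_dvd_right (show 2 ∣ 6 by norm_num)).symm
    have ha1 : a = 1 := orderOf_eq_one_iff.1 (Nat.eq_one_of_dvd_coprimes h2
      (hk ▸ S.orderOf_dvd_natCard ha) (orderOf_dvd_of_pow_eq_one hm))
    rw [ha1, one_mul]; exact hb
  · obtain ⟨R, hR, hRr, hRc⟩ := e.exists_two_part
    set M := T ⊔ (e.cN ⊓ e.φ.range) with hM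
    have hMQ : M ≤ e.cN := sup_le (hTH.trans hHQ) inf_le_left
    have h64 : 64 ∣ Nat.card M := hRc ▸ Subgroup.card_dvd_of_le ((le_inf hR hRr).trans le_sup_right)
    have hTd : Nat.card T ∣ Nat.card M := Subgroup.card_dvd_of_le le_sup_left
    have h3 : 3 ∣ Nat.card M := by
      have hy : e.φ y ∈ M := Subgroup.mem_sup_right ⟨e.yQ.2, y, rfl⟩
      have ho : orderOf (e.φ y) = 3 := by
        haveI : Fact (Nat.Prime 3) := ⟨Nat.prime_three⟩
        refine orderOf_eq_prime (by rw [← map_pow, cube_y, map_one]) fun h => ?_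
        exact nontrivial_elements.2.2.1 (e.map_eq_one.1 h)
      exact ho ▸ M.orderOf_dvd_natCard hy
    have hco : ((64 : ℕ) * 3).Coprime (Nat.card T) :=
      (Nat.Coprime.mul_right (show (Nat.card T).Coprime 64 by
        simpa using Nat.Coprime.pow_right 6 (Nat.prime_two.coprime_iff_not_dvd.2 hT2).symm)
        (Nat.prime_three.coprime_iff_not_dvd.2 hT3).symm).symm
    have hall : 64 * 3 * Nat.card T ∣ Nat.card M :=
      Nat.Coprime.mul_dvd_of_dvd_of_dvd hco (Nat.Coprime.mul_dvd_of_dvd_of_dvd (by norm_num) h64 h3) hTd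
    obtain ⟨k, hk⟩ := IsPGroup.iff_card.1 hS
    have hcard : Nat.card e.cN = 2 ^ k * Nat.card T * Nat.card ((e.cN ⧸ Subgroup.zpowers e.nQ) ⧸ N) := by
      rw [hQcard, ← hHcard, ← hST, hk]
    have hle : Nat.card e.cN ≤ 64 * 3 * Nat.card T := by
      have h128 : ¬ 128 ∣ Nat.card e.cN :=
        fun h => e.not_dvd_128 (h.trans (Subgroup.card_subgroup_dvd_card _))
      rw [hcard] at h128 ⊢
      rcases hq with h | h <;> rw [h] at h128 ⊢
      · have : k ≤ 6 := by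
          by_contra hk7
          exact h128 (((pow_dvd_pow 2 (show 7 ≤ k by omega)).mul_right _).mul_right _)
        calc 2 ^ k * Nat.card T * 3 ≤ 2 ^ 6 * Nat.card T * 3 :=
              Nat.mul_le_mul_right _ (Nat.mul_le_mul_right _ (Nat.pow_le_pow_right (by norm_num) this))
          _ = 64 * 3 * Nat.card T := by ring
      · have : k + 1 ≤ 6 := by
          by_contra hk7
          refine h128 ((pow_dvd_pow 2 (show 7 ≤ k + 1 by omega)).trans ⟨Nat.card T * 3, ?_⟩)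
          ring
        calc 2 ^ k * Nat.card T * 6 = 2 ^ (k + 1) * Nat.card T * 3 := by ring
          _ ≤ 2 ^ 6 * Nat.card T * 3 :=
              Nat.mul_le_mul_right _ (Nat.mul_le_mul_right _ (Nat.pow_le_pow_right (by norm_num) this))
          _ = 64 * 3 * Nat.card T := by ring
    have hMeq : M = e.cN := Subgroup.eq_of_le_of_card_ge hMQ (hle.trans (Nat.le_of_dvd Nat.card_pos hall))
    exact hMeq.ge.trans (sup_le le_sup_left (inf_le_right.trans le_sup_right))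

end CfsgLib.AltEightThree
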