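import Cfsg.Agent.Lib.AltEightThree.CentTModel
import Cfsg.Agent.Lib.Invol.GlaubermanZStar
import Mathlib.GroupTheory.SchurZassenhaus

/-!
The centraliser of the image of a double transposition splits over the embedded group.
-/

set_option autoImplicit false
set_option linter.style.haveILetI false
set_option maxHeartbeats 1000000

namespace CfsgLib.AltEightThree

open Subgroup Equiv CentT

/-- An element conjugating `x` to itself or its inverse normalises `⟨x⟩`. -/
theorem CentT.mem_normalizer_zpowers {G : Type*} [Group G] [Finite G] {g x : G}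
    (hg : g * x * g⁻¹ = x ∨ g * x * g⁻¹ = x⁻¹) : g ∈ normalizer (zpowers x : Set G) := by
  rw [mem_normalizer_iff_map_conj_eq]
  refine eq_of_le_of_card_ge ?_ (card_map_of_injective (MulAut.conj g).injective).ge
  rw [MonoidHom.map_zpowers]
  refine zpowers_le.mpr ?_
  rcases hg with h | h
  · exact (show g * x * g⁻¹ ∈ zpowers x by rw [h]; exact mem_zpowers x)
  · exact (show g * x * g⁻¹ ∈ zpowers x by rw [h]; exact inv_mem (mem_zpowers x))

/-- The powers of an element killed by three. -/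
theorem CentT.eq_of_mem_zpowers {G : Type*} [Group G] {x y : G} (hx : x ^ 3 = 1)
    (hy : y ∈ zpowers x) : y = 1 ∨ y = x ∨ y = x⁻¹ := by
  obtain ⟨k, rfl⟩ := mem_zpowers_iff.mp hy
  have h3 : x ^ (3 : ℤ) = 1 := by exact_mod_cast hx
  rw [← Int.emod_add_mul_ediv k 3, zpow_add, zpow_mul, h3, one_zpow, mul_one]
  have h1 : 0 ≤ k % 3 := Int.emod_nonneg _ (by norm_num)
  have h2 : k % 3 < 3 := Int.emod_lt_of_pos _ (by norm_num)
  interval_cases h : k % 3
  · simp
  · simp
  · refine Or.inr (Or.inr (eq_inv_of_mul_eq_one_left ?_))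
    rw [← zpow_add_one]; exact h3

/-- A proper subgroup of a `p`-group is properly normalised. -/
theorem CentT.exists_normalizing {G : Type*} [Group G] [Finite G] {p : ℕ} [Fact p.Prime]
    {Q P : Subgroup G} (hQP : Q ≤ P) (hP : IsPGroup p P) (hne : Q ≠ P) :
    ∃ w ∈ P, w ∉ Q ∧ ∀ x ∈ Q, w * x * w⁻¹ ∈ Q := by
  haveI := hP.isNilpotent
  have hlt : Q.subgroupOf P < ⊤ := lt_top_iff_ne_top.mpr fun e =>
    hne (le_antisymm hQP (subgroupOf_eq_top.mp e))
  obtain ⟨w, hwN, hwQ⟩ :=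
    SetLike.exists_of_lt (Group.normalizerCondition_of_isNilpotent _ hlt)
  refine ⟨w, w.2, fun h => hwQ (mem_subgroupOf.mpr h), fun x hx => ?_⟩
  exact mem_subgroupOf.mp ((mem_normalizer_iff.mp hwN ⟨x, hQP hx⟩).mp (mem_subgroupOf.mpr hx))

namespace CentT

/-- The chosen Sylow two-subgroup of the model centraliser of `t`. -/
def sylT : Subgroup A8 :=
  (((centralizer {t4}).prod (centralizer {t4})).map emb44).subgroupOf A8

theorem mem_sylT {x : A8} : x ∈ sylT ↔
    ∃ a b : Perm (Fin 4), a * t4 = t4 * a ∧ b * t4 = t4 * b ∧ emb44 (a, b) = (x : Perm (Fin 8)) := by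
  simp only [sylT, mem_subgroupOf, Subgroup.mem_map, Subgroup.mem_prod,
    mem_centralizer_singleton_iff, Prod.exists, and_assoc]

theorem t_mem_sylT : t ∈ sylT := mem_sylT.mpr ⟨1, t4, by simp, rfl, emb44_t⟩

theorem s_mem_sylT : s ∈ sylT := mem_sylT.mpr ⟨1, s4, by simp, by decide, emb44_s⟩

theorem commute_sylT {x : A8} (hx : x ∈ sylT) : x * t = t * x := by
  obtain ⟨a, b, -, hb, hab⟩ := mem_sylT.mp hx
  refine Subtype.ext ?_
  show (x : Perm (Fin 8)) * pt = pt * x
  rw [← hab, ← emb44_t, ← map_mul, ← map_mul]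
  congr 1
  exact Prod.ext (by simp) hb

theorem pow_four_sylT {x : A8} (hx : x ∈ sylT) : x ^ 4 = 1 := by
  obtain ⟨a, b, ha, hb, hab⟩ := mem_sylT.mp hx
  refine Subtype.ext ?_
  rw [SubmonoidClass.coe_pow, ← hab, ← map_pow, Prod.pow_mk, pow_four a ha, pow_four b hb]
  exact map_one emb44

theorem sign_eq {x : A8} {a b : Perm (Fin 4)} (hab : emb44 (a, b) = (x : Perm (Fin 8))) :
    Perm.sign a = Perm.sign b := by
  have hs := mem_A8.mp x.2
  rw [← hab, sign_emb44] at hs
  rcases Int.units_eq_one_or (Perm.sign a) with h | h <;>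
    rcases Int.units_eq_one_or (Perm.sign b) with h' | h' <;> simp_all

theorem emb44_inv_coord {x : A8} {a b : Perm (Fin 4)} (hab : emb44 (a, b) = (x : Perm (Fin 8)))
    (hx : x * x = 1) : a * a = 1 ∧ b * b = 1 := by
  have h : emb44 ((a, b) * (a, b)) = emb44 1 := by
    rw [map_mul, hab, map_one]; exact congrArg Subtype.val hx
  exact ⟨congrArg Prod.fst (emb44_injective h), congrArg Prod.snd (emb44_injective h)⟩

theorem st_facts : s * s = 1 ∧ s ≠ 1 ∧ (s : Perm (Fin 8)).support.card = 4 ∧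
    ((s * t : A8) : Perm (Fin 8)).support.card = 4 ∧ s * t = t * s ∧ s * z = z * s ∧
    t * z = z * t ∧ z ^ 3 = 1 ∧ z ≠ 1 ∧ u * t = t * u ∧
    (z * u * z⁻¹ * u⁻¹) * (z * u * z⁻¹ * u⁻¹) = 1 ∧ z * u * z⁻¹ * u⁻¹ ≠ 1 := by
  decide +kernel

end CentT

variable {G : Type*} [Group G] [Finite G] (e : Emb G)

namespace Emb

/-- Elements mapping the four-group `⟨φ t, φ s⟩` into itself lie in the image. -/
theorem mem_range_of_map_four {g : G}
    (ht : g * e.φ t * g⁻¹ ∈ Subgroup.closure ({e.φ t, e.φ s} : Set G))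
    (hs : g * e.φ s * g⁻¹ ∈ Subgroup.closure ({e.φ t, e.φ s} : Set G)) : g ∈ e.φ.range := by
  obtain ⟨-, -, -, -, -, hsz, htz, hz3, hz1, -⟩ := st_facts
  set F := Subgroup.closure ({e.φ t, e.φ s} : Set G) with hF
  have hFeq : F.map (MulAut.conj g).toMonoidHom = F := by
    refine eq_of_le_of_card_ge ?_ (card_map_of_injective (MulAut.conj g).injective).ge
    rw [hF, MonoidHom.map_closure, closure_le]
    rintro _ ⟨x, (rfl | rfl), rfl⟩
    · exact ht
    · exact hs
  have hFz : F ≤ centralizer ({e.φ z} : Set G) := by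
    rw [hF, closure_le]
    rintro _ (rfl | rfl) <;> rw [SetLike.mem_coe, mem_centralizer_singleton_iff, ← map_mul, ← map_mul]
    · rw [htz]
    · rw [hsz]
  set w := g * e.φ z * g⁻¹ with hw
  have hwc : ∀ f ∈ F, f * w = w * f := by
    intro f hf
    rw [← hFeq] at hf
    obtain ⟨f', hf', rfl⟩ := hf
    show g * f' * g⁻¹ * w = w * (g * f' * g⁻¹)
    rw [hw, conj_mul, conj_mul, mem_centralizer_singleton_iff.mp (hFz hf')]
  obtain ⟨x, hx⟩ := e.le_four (show w ∈ centralizer ({e.φ t, e.φ s} : Set G) from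
    mem_centralizer_iff.mpr fun f hf => hwc f (subset_closure hf))
  have hxt : x * t = t * x := e.inj (by
    rw [map_mul, map_mul, hx]; exact (hwc _ (subset_closure (Or.inl rfl))).symm)
  have hxs : x * s = s * x := e.inj (by
    rw [map_mul, map_mul, hx]; exact (hwc _ (subset_closure (Or.inr rfl))).symm)
  have hx3 : x ^ 3 = 1 := e.inj (by
    rw [map_pow, hx, hw, conj_pow, ← map_pow, hz3, map_one, mul_one, mul_inv_cancel])
  have hx1 : x ≠ 1 := fun h => hz1 (e.inj (by
    rw [h, map_one, hw] at hx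
    rw [map_one]
    exact conj_eq_one_iff.mp hx.symm))
  obtain ⟨a, b, hab, hsgn, hbt⟩ := exists_of_commute_t hxt
  have hbs : b * s4 = s4 * b := by
    have h : (x : Perm (Fin 8)) * ps = ps * x := congrArg Subtype.val hxs
    rw [← hab, ← emb44_s, ← map_mul, ← map_mul] at h
    exact congrArg Prod.snd (emb44_injective h)
  have hab3 : a ^ 3 = 1 ∧ b ^ 3 = 1 := by
    have h : emb44 ((a, b) ^ 3) = emb44 1 := by
      rw [map_pow, hab, map_one]; exact congrArg Subtype.val hx3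
    exact ⟨congrArg Prod.fst (emb44_injective h), congrArg Prod.snd (emb44_injective h)⟩
  rcases three_conj a b hsgn hbt hbs hab3.1 hab3.2 with ⟨rfl, rfl⟩ | ⟨rfl, c, hc, hca⟩
  · exact absurd (Subtype.ext (hab.symm.trans (map_one emb44))) hx1
  let C : A8 := ⟨emb44 (c, 1), mem_A8.2 (by rw [sign_emb44, hc, map_one, one_mul])⟩
  have hCx : C * x * C⁻¹ = z ∨ C * x * C⁻¹ = z⁻¹ := by
    have hval : ((C * x * C⁻¹ : A8) : Perm (Fin 8)) = emb44 (c * a * c⁻¹, 1) := by
      show emb44 (c, 1) * (x : Perm (Fin 8)) * (emb44 (c, 1))⁻¹ = _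
      rw [← hab, ← map_inv, ← map_mul, ← map_mul]
      congr 1
    rcases hca with h | h <;> rw [h] at hval
    · exact Or.inl (Subtype.ext (hval.trans emb44_z))
    · refine Or.inr (Subtype.ext (hval.trans ?_))
      show emb44 (z4⁻¹, 1) = pz⁻¹
      rw [← emb44_z, ← map_inv, Prod.inv_mk, inv_one]
  have hN : e.φ C * g ∈ e.φ.range := e.le_z (mem_normalizer_zpowers (by
    have h : e.φ C * g * e.φ z * (e.φ C * g)⁻¹ = e.φ (C * x * C⁻¹) := by
      rw [map_mul, map_mul, map_inv, hx, hw, mul_inv_rev]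
      simp only [mul_assoc]
    rw [h, ← map_inv e.φ z]
    exact hCx.imp (congrArg e.φ) (congrArg e.φ)))
  have := mul_mem (inv_mem (MonoidHom.mem_range.mpr ⟨C, rfl⟩)) hN
  rwa [inv_mul_cancel_left] at this

/-- The normaliser of the four-group `⟨φ t, φ s⟩` lies in the image. -/
theorem normalizer_four_le :
    normalizer ((Subgroup.closure ({e.φ t, e.φ s} : Set G) : Subgroup G) : Set G) ≤ e.φ.range :=
  fun _ hg => e.mem_range_of_map_four
    ((mem_normalizer_iff.mp hg _).mp (subset_closure (Or.inl rfl)))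
    ((mem_normalizer_iff.mp hg _).mp (subset_closure (Or.inr rfl)))

/-- Every element of order three centralising `φ t` is conjugate there to `(φ z)^±1`. -/
theorem conj_z {w : G} (hw : w * e.φ t = e.φ t * w) (hw3 : w ^ 3 = 1) (hw1 : w ≠ 1) :
    ∃ h : G, h * e.φ t = e.φ t * h ∧ (h * w * h⁻¹ = e.φ z ∨ h * w * h⁻¹ = (e.φ z)⁻¹) := by
  obtain ⟨-, -, -, -, -, -, htz, hz3, hz1, -⟩ := st_facts
  haveI : Fact (Nat.Prime 3) := ⟨Nat.prime_three⟩
  set C := centralizer ({e.φ t} : Set G) with hC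
  have hzC : e.φ z ∈ C := mem_centralizer_singleton_iff.mpr (by rw [← map_mul, ← map_mul, htz])
  have hwC : w ∈ C := mem_centralizer_singleton_iff.mpr hw
  let z' : C := ⟨e.φ z, hzC⟩
  have hp : ∀ x : C, x ^ 3 = 1 → IsPGroup 3 (zpowers x) := fun x hx g => ⟨1, by
    obtain ⟨k, hk⟩ := mem_zpowers_iff.mp g.2
    refine Subtype.ext ?_
    rw [SubmonoidClass.coe_pow, ← hk, pow_one, ← zpow_natCast, ← zpow_mul, mul_comm, zpow_mul,
      zpow_natCast, hx, one_zpow]
    rfl⟩
  have hz'3 : z' ^ 3 = 1 := Subtype.ext (by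
    show e.φ z ^ 3 = 1
    rw [← map_pow, hz3, map_one])
  obtain ⟨P, hP⟩ := (hp z' hz'3).exists_le_sylow
  -- the Sylow subgroup is `⟨φ z⟩`
  have hPeq : zpowers z' = (P : Subgroup C) := by
    by_contra hne
    obtain ⟨v, hvP, hvz, hvn⟩ := exists_normalizing hP P.2 hne
    have hv : (v : G) * e.φ z * (v : G)⁻¹ = e.φ z ∨ (v : G) * e.φ z * (v : G)⁻¹ = (e.φ z)⁻¹ := by
      rcases eq_of_mem_zpowers hz'3 (hvn z' (mem_zpowers z')) with h | h | h
      · exact absurd (conj_eq_one_iff.mp (congrArg Subtype.val h))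
          (fun h' => hz1 (e.inj (h'.trans (map_one _).symm)))
      · exact Or.inl (congrArg Subtype.val h)
      · exact Or.inr (congrArg Subtype.val h)
    obtain ⟨x, hx⟩ := e.le_z (mem_normalizer_zpowers hv)
    have hxt : x * t = t * x := e.inj (by
      rw [map_mul, map_mul, hx]; exact mem_centralizer_singleton_iff.mp v.2)
    obtain ⟨a, b, hab, hsgn, hbt⟩ := exists_of_commute_t hxt
    obtain ⟨k, hk⟩ := P.2 ⟨v, hvP⟩
    have hxk : x ^ 3 ^ k = 1 := e.inj (by
      rw [map_pow, hx, map_one]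
      exact congrArg (fun q : (P : Subgroup C) => ((q : C) : G)) hk)
    have hx12 : x ^ 12 = 1 := Subtype.ext (by
      rw [SubmonoidClass.coe_pow, ← hab, ← map_pow, Prod.pow_mk, pow_twentyfour, pow_twentyfour]
      exact map_one emb44)
    have hx3 : x ^ 3 = 1 := by
      refine orderOf_dvd_iff_pow_eq_one.mp ?_
      obtain ⟨j, -, hj⟩ := (Nat.dvd_prime_pow Nat.prime_three).mp (orderOf_dvd_of_pow_eq_one hxk)
      have h12 : 3 ^ j ∣ 12 := hj ▸ orderOf_dvd_of_pow_eq_one hx12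
      rw [hj]
      rcases j with _ | _ | j
      · exact one_dvd _
      · exact dvd_rfl
      · exact absurd (((pow_dvd_pow 3 (show 2 ≤ j + 1 + 1 by omega)).trans h12)) (by norm_num)
    have hab3 : a ^ 3 = 1 ∧ b ^ 3 = 1 := by
      have h : emb44 ((a, b) ^ 3) = emb44 1 := by
        rw [map_pow, hab, map_one]; exact congrArg Subtype.val hx3
      exact ⟨congrArg Prod.fst (emb44_injective h), congrArg Prod.snd (emb44_injective h)⟩
    have hza : a * z4 * a⁻¹ = z4 ∨ a * z4 * a⁻¹ = z4⁻¹ := by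
      have hval : ((x * z * x⁻¹ : A8) : Perm (Fin 8)) = emb44 (a * z4 * a⁻¹, b * 1 * b⁻¹) := by
        show (x : Perm (Fin 8)) * pz * (x : Perm (Fin 8))⁻¹ = _
        rw [← hab, ← emb44_z, ← map_inv, ← map_mul, ← map_mul]
        rfl
      rcases hv with h | h
      · left
        have h' : x * z * x⁻¹ = z := e.inj (by rw [map_mul, map_mul, map_inv, hx]; exact h)
        rw [h'] at hval
        exact (congrArg Prod.fst (emb44_injective (hval.symm.trans emb44_z.symm)))
      · right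
        have h' : x * z * x⁻¹ = z⁻¹ := e.inj (by rw [map_mul, map_mul, map_inv, hx, map_inv]; exact h)
        rw [h'] at hval
        have h2 : emb44 (a * z4 * a⁻¹, b * 1 * b⁻¹) = emb44 (z4, 1)⁻¹ := by
          rw [map_inv, emb44_z]; exact hval.symm
        exact congrArg Prod.fst (emb44_injective h2)
    obtain ⟨rfl, ha⟩ := not_three_dvd_helper a b hbt hab3.1 hab3.2 hza
    refine hvz (mem_zpowers_iff.mpr ?_)
    rcases ha with rfl | rfl | rfl
    · exact ⟨0, Subtype.ext (by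
        rw [zpow_zero, ← hx, Subtype.ext (hab.symm.trans (map_one emb44)) (a1 := x) (a2 := 1),
          map_one]; rfl)⟩
    · exact ⟨1, Subtype.ext (by
        rw [zpow_one, ← hx, Subtype.ext (hab.symm.trans emb44_z) (a1 := x) (a2 := z)])⟩
    · refine ⟨-1, Subtype.ext ?_⟩
      have hxz : x = z⁻¹ := Subtype.ext (by
        show (x : Perm (Fin 8)) = pz⁻¹
        rw [← hab, ← emb44_z, ← map_inv, Prod.inv_mk, inv_one])
      rw [zpow_neg_one, ← hx, hxz, map_inv]
      rfl
  let w' : C := ⟨w, hwC⟩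
  have hw'3 : w' ^ 3 = 1 := Subtype.ext hw3
  obtain ⟨Q, hQ⟩ := (hp w' hw'3).exists_le_sylow
  obtain ⟨h, hh⟩ := MulAction.exists_smul_eq C Q P
  have hmem : h * w' * h⁻¹ ∈ zpowers z' := by
    rw [hPeq, ← hh]
    exact ⟨w', hQ (mem_zpowers w'), rfl⟩
  refine ⟨h, mem_centralizer_singleton_iff.mp h.2, ?_⟩
  rcases eq_of_mem_zpowers hz'3 hmem with h' | h' | h'
  · exact absurd (conj_eq_one_iff.mp (congrArg Subtype.val h')) hw1
  · exact Or.inl (congrArg Subtype.val h')
  · exact Or.inr (congrArg Subtype.val h')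

/-- The double transpositions are not fused in `G` to the fixed-point-free involutions. -/
theorem not_conj {x x' : A8} (hx : x * x = 1) (hx4 : (x : Perm (Fin 8)).support.card = 4)
    (hx' : x' * x' = 1) (hx8 : (x' : Perm (Fin 8)).support.card = 8) (g : G) :
    g * e.φ x * g⁻¹ ≠ e.φ x' := by
  intro heq
  obtain ⟨c, rfl⟩ := exists_conj_t hx hx4
  obtain ⟨d, rfl⟩ := exists_conj_n hx' hx8
  set k := (e.φ d)⁻¹ * g * e.φ c with hk
  have hkn : k * e.φ t * k⁻¹ = e.φ n := by
    calc k * e.φ t * k⁻¹ = (e.φ d)⁻¹ * (g * e.φ (c * t * c⁻¹) * g⁻¹) * e.φ d := by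
          simp [hk, mul_assoc]
      _ = e.φ n := by rw [heq]; simp [mul_assoc]
  obtain ⟨-, -, -, -, hny, hy3, hy1⟩ := n_facts
  set w := k⁻¹ * e.φ y * k with hw
  have hny' : e.φ n * e.φ y = e.φ y * e.φ n := by rw [← map_mul, ← map_mul, hny]
  have hwt : w * e.φ t = e.φ t * w := by
    have e1 : e.φ t = k⁻¹ * e.φ n * k := by rw [← hkn]; simp [mul_assoc]
    rw [e1, hw]
    calc k⁻¹ * e.φ y * k * (k⁻¹ * e.φ n * k) = k⁻¹ * (e.φ y * e.φ n) * k := by simp [mul_assoc]
      _ = k⁻¹ * (e.φ n * e.φ y) * k := by rw [hny']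
      _ = k⁻¹ * e.φ n * k * (k⁻¹ * e.φ y * k) := by simp [mul_assoc]
  have hw3 : w ^ 3 = 1 := by
    have h := conj_pow (i := 3) (a := k⁻¹) (b := e.φ y)
    rw [inv_inv] at h
    rw [hw, h, ← map_pow, hy3, map_one, mul_one, inv_mul_cancel]
  have hw1 : w ≠ 1 := fun h => hy1 (e.inj (by
    rw [map_one]
    calc e.φ y = k * w * k⁻¹ := by simp [hw, mul_assoc]
      _ = 1 := by rw [h]; simp))
  obtain ⟨h, -, hh⟩ := e.conj_z hwt hw3 hw1
  obtain ⟨hf1, hf5, hfz⟩ := f5_facts
  set l := k * h⁻¹ with hl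
  have hly : l * e.φ z * l⁻¹ = e.φ y ∨ l * e.φ z * l⁻¹ = (e.φ y)⁻¹ := by
    have hb : l * (h * w * h⁻¹) * l⁻¹ = e.φ y := by simp [hl, hw, mul_assoc]
    rcases hh with h' | h' <;> rw [h'] at hb
    · exact Or.inl hb
    · exact Or.inr (by rw [← hb]; simp [mul_assoc])
  set b := l * e.φ f5 * l⁻¹ with hb
  have hbz : e.φ f5 * e.φ z = e.φ z * e.φ f5 := by rw [← map_mul, ← map_mul, hfz]
  have hby : b * e.φ y = e.φ y * b := by
    have h1 : b * (l * e.φ z * l⁻¹) = (l * e.φ z * l⁻¹) * b := by rw [hb, conj_mul, conj_mul, hbz]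
    rcases hly with h' | h' <;> rw [h'] at h1
    · exact h1
    · exact (Commute.inv_right_iff.mp h1).eq
  obtain ⟨B, hB⟩ := e.le_y (mem_centralizer_singleton_iff.mpr hby)
  have hB1 : B = 1 := eq_one_of_commute_y
    (e.inj (by rw [map_pow, hB, map_one, hb, conj_pow, ← map_pow, hf5, map_one, mul_one,
      mul_inv_cancel]))
    (e.inj (by rw [map_mul, map_mul, hB]; exact hby))
  refine hf1 (e.inj ?_)
  rw [map_one]
  rw [hB1, map_one] at hB
  exact conj_eq_one_iff.mp hB.symm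

/-- In `C(φ t)` the element `φ s` is only fused inside the chosen Sylow subgroup to `φ s, φ (s t)`. -/
theorem fuse_s {g : G} (hg : g * e.φ t * g⁻¹ = e.φ t) {q : A8} (hq : q ∈ sylT)
    (hgs : g * e.φ s * g⁻¹ = e.φ q) : q = s ∨ q = s * t := by
  obtain ⟨hss, hs1, hs4, hst4, hst, -⟩ := st_facts
  obtain ⟨htt, -, ht4, -⟩ := t_facts
  obtain ⟨a, b, ha, hb, hab⟩ := mem_sylT.mp hq
  have hqq : q * q = 1 := e.inj (by
    rw [map_mul, ← hgs, conj_mul, ← map_mul, hss, map_one, mul_one, mul_inv_cancel])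
  have hq1 : q ≠ 1 := fun h => hs1 (e.inj (by
    rw [h, map_one] at hgs
    rw [map_one]; exact conj_eq_one_iff.mp hgs))
  have hqt : q * t = t * q := commute_sylT hq
  have hgst : g * e.φ (s * t) * g⁻¹ = e.φ (q * t) := by
    rw [map_mul, map_mul, ← conj_mul, hgs, hg]
  have hstst : s * t * (s * t) = 1 := by
    calc s * t * (s * t) = s * t * (t * s) := by rw [hst]
      _ = s * (t * t) * s := by simp [mul_assoc]
      _ = 1 := by rw [htt, mul_one, hss]
  have hqtqt : q * t * (q * t) = 1 := by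
    calc q * t * (q * t) = q * t * (t * q) := by rw [hqt]
      _ = q * (t * t) * q := by simp [mul_assoc]
      _ = 1 := by rw [htt, mul_one, hqq]
  have hq4 : (q : Perm (Fin 8)).support.card = 4 :=
    (card_support_invol hqq hq1).resolve_right fun h8 => e.not_conj hss hs4 hqq h8 g hgs
  have hqt1 : q * t ≠ 1 := fun h => by
    rw [h, map_one] at hgst
    have h1 : s * t = 1 := e.inj (by rw [map_one]; exact conj_eq_one_iff.mp hgst)
    rw [h1] at hst4
    simp at hst4
  have hqt4 : ((q * t : A8) : Perm (Fin 8)).support.card = 4 :=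
    (card_support_invol hqtqt hqt1).resolve_right fun h8 =>
      e.not_conj hstst hst4 hqtqt h8 g hgst
  have hqtv : ((q * t : A8) : Perm (Fin 8)) = emb44 (a, b * t4) := by
    show (q : Perm (Fin 8)) * pt = _
    rw [← hab, ← emb44_t, ← map_mul]
    congr 1
  obtain ⟨haa, hbb⟩ := emb44_inv_coord hab hqq
  rw [← hab] at hq4
  rw [hqtv] at hqt4
  rcases t_class a b (sign_eq hab) ha hb haa hbb hq4 hqt4 with ⟨rfl, rfl | rfl⟩ | ⟨hτ, hσ⟩
  · exact Or.inl (Subtype.ext (hab.symm.trans emb44_s))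
  · refine Or.inr (Subtype.ext (hab.symm.trans ?_))
    show _ = ps * pt
    rw [← emb44_s, ← emb44_t, ← map_mul, Prod.mk_mul_mk, one_mul]
  exfalso
  obtain ⟨X, hXs, hXX, hX8, hXt, hXq⟩ := witness a b hτ hσ
  let X' : A8 := ⟨X, mem_A8.2 hXs⟩
  have hX't : X' * t * X'⁻¹ = q * t := Subtype.ext (by
    show X * pt * X⁻¹ = (q : Perm (Fin 8)) * pt
    rw [hXt, hab])
  have hX'q : X' * q * X'⁻¹ = q := Subtype.ext (by
    show X * (q : Perm (Fin 8)) * X⁻¹ = q
    rw [← hab, hXq])
  set y' := g⁻¹ * e.φ X' * g with hy'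
  have hyt : y' * e.φ t * y'⁻¹ = e.φ (s * t) := by
    calc y' * e.φ t * y'⁻¹ = g⁻¹ * (e.φ X' * (g * e.φ t * g⁻¹) * (e.φ X')⁻¹) * g := by
          simp [hy', mul_assoc]
      _ = g⁻¹ * e.φ (q * t) * g := by rw [hg, ← hX't, map_mul, map_mul, map_inv]
      _ = e.φ (s * t) := by rw [← hgst]; simp [mul_assoc]
  have hys : y' * e.φ s * y'⁻¹ = e.φ s := by
    calc y' * e.φ s * y'⁻¹ = g⁻¹ * (e.φ X' * (g * e.φ s * g⁻¹) * (e.φ X')⁻¹) * g := by
          simp [hy', mul_assoc]
      _ = g⁻¹ * e.φ q * g := by rw [hgs, ← map_inv, ← map_mul, ← map_mul, hX'q]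
      _ = e.φ s := by rw [← hgs]; simp [mul_assoc]
  obtain ⟨x', hx'⟩ := e.mem_range_of_map_four (g := y')
    (by rw [hyt, map_mul]; exact mul_mem (subset_closure (Or.inr rfl)) (subset_closure (Or.inl rfl)))
    (by rw [hys]; exact subset_closure (Or.inr rfl))
  have hXX' : X' * X' = 1 := Subtype.ext hXX
  have hx'x' : x' * x' = 1 := e.inj (by
    rw [map_mul, hx', map_one]
    calc y' * y' = g⁻¹ * (e.φ X' * e.φ X') * g := by simp [hy', mul_assoc]
      _ = 1 := by rw [← map_mul, hXX', map_one, mul_one, inv_mul_cancel])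
  have hx't : x' * t * x'⁻¹ = s * t :=
    e.inj (by rw [map_mul, map_mul, map_inv, hx']; exact hyt)
  have hx's : x' * s * x'⁻¹ = s :=
    e.inj (by rw [map_mul, map_mul, map_inv, hx']; exact hys)
  -- `x'` preserves the block
  obtain ⟨a', b', hab'⟩ := exists_emb44 (x' : Perm (Fin 8)) fun i hi => by
    have h1 : (x' : Perm (Fin 8)) * pt = ps * pt * x' :=
      congrArg Subtype.val (mul_inv_eq_iff_eq_mul.mp hx't)
    have h2 : (x' : Perm (Fin 8)) * ps = ps * x' :=
      congrArg Subtype.val (mul_inv_eq_iff_eq_mul.mp hx's)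
    have hfix : ∀ j : Fin 8, j < 4 → pt j = j ∧ ps j = j := by decide
    have hfix' : ∀ j : Fin 8, ps (pt j) = j → ps j = j → j < 4 := by decide
    have e1 := DFunLike.congr_fun h1 i
    have e2 := DFunLike.congr_fun h2 i
    rw [Perm.mul_apply, Perm.mul_apply, Perm.mul_apply, (hfix i hi).1] at e1
    rw [Perm.mul_apply, Perm.mul_apply, (hfix i hi).2] at e2
    exact hfix' _ e1.symm e2.symm
  obtain ⟨ha', hb'⟩ := emb44_inv_coord hab' hx'x'
  have hbt' : b' * t4 * b'⁻¹ = s4 * t4 := by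
    have h : (x' : Perm (Fin 8)) * pt * (x' : Perm (Fin 8))⁻¹ = ps * pt := congrArg Subtype.val hx't
    rw [← hab', ← emb44_t, ← emb44_s, ← map_inv, ← map_mul, ← map_mul, ← map_mul] at h
    exact congrArg Prod.snd (emb44_injective h)
  have hbs' : b' * s4 = s4 * b' := by
    have h : (x' : Perm (Fin 8)) * ps = ps * x' :=
      congrArg Subtype.val (mul_inv_eq_iff_eq_mul.mp hx's)
    rw [← hab', ← emb44_s, ← map_mul, ← map_mul] at h
    exact congrArg Prod.snd (emb44_injective h)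
  have hx'4 : (x' : Perm (Fin 8)).support.card = 4 := by
    rw [← hab']; exact four_norm_involution a' b' (sign_eq hab') ha' hb' hbt' hbs'
  exact e.not_conj hx'x' hx'4 hXX' hX8 g (by rw [hx', hy']; simp [mul_assoc])

/-- An element of `C(φ t)` mapping `φ s` into the chosen Sylow subgroup lies in the image. -/
theorem mem_range_of_fuse {g : G} (hg : g * e.φ t * g⁻¹ = e.φ t) {q : A8} (hq : q ∈ sylT)
    (hgs : g * e.φ s * g⁻¹ = e.φ q) : g ∈ e.φ.range := by
  refine e.mem_range_of_map_four (by rw [hg]; exact subset_closure (Or.inl rfl)) ?_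
  rw [hgs]
  rcases e.fuse_s hg hq hgs with rfl | rfl
  · exact subset_closure (Or.inr rfl)
  · rw [map_mul]
    exact mul_mem (subset_closure (Or.inr rfl)) (subset_closure (Or.inl rfl))

/-- The image of `sylT` is a Sylow two-subgroup of `C(φ t)`. -/
theorem exists_sylow_t : ∃ P : Sylow 2 (centralizer ({e.φ t} : Set G)),
    ((P : Subgroup (centralizer ({e.φ t} : Set G))).map (centralizer ({e.φ t} : Set G)).subtype) =
      sylT.map e.φ := by
  haveI : Fact (Nat.Prime 2) := ⟨Nat.prime_two⟩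
  set C := centralizer ({e.φ t} : Set G) with hC
  set T := sylT.map e.φ with hT
  have hTC : T ≤ C := by
    rintro _ ⟨x, hx, rfl⟩
    exact mem_centralizer_singleton_iff.mpr (by rw [← map_mul, ← map_mul, commute_sylT hx])
  have hTp : IsPGroup 2 (T.subgroupOf C) := fun g => ⟨2, by
    obtain ⟨x, hx, hxg⟩ := mem_subgroupOf.mp g.2
    refine Subtype.ext (Subtype.ext ?_)
    show (((g : T.subgroupOf C) : C) : G) ^ 2 ^ 2 = 1
    rw [← hxg, ← map_pow, show 2 ^ 2 = 4 from rfl, pow_four_sylT hx, map_one]⟩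
  obtain ⟨P, hP⟩ := hTp.exists_le_sylow
  refine ⟨P, ?_⟩
  suffices h : T.subgroupOf C = (P : Subgroup C) by
    rw [← h, map_subgroupOf_eq_of_le hTC]
  by_contra hne
  obtain ⟨v, hvP, hvT, hvn⟩ := exists_normalizing hP P.2 hne
  have hvt : (v : G) * e.φ t * (v : G)⁻¹ = e.φ t := by
    rw [mem_centralizer_singleton_iff.mp v.2, mul_inv_cancel_right]
  obtain ⟨q, hq, hvq⟩ := mem_subgroupOf.mp
    (hvn ⟨e.φ s, hTC (mem_map_of_mem _ s_mem_sylT)⟩
      (mem_subgroupOf.mpr (mem_map_of_mem _ s_mem_sylT)))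
  obtain ⟨x, hx⟩ := e.mem_range_of_fuse hvt hq hvq.symm
  have hxt : x * t = t * x := e.inj (by
    rw [map_mul, map_mul, hx]; exact mem_centralizer_singleton_iff.mp v.2)
  obtain ⟨a, b, hab, hsgn, hbt⟩ := exists_of_commute_t hxt
  refine hvT (mem_subgroupOf.mpr ⟨x, mem_sylT.mpr ⟨a, b, ?_, hbt, hab⟩, hx⟩)
  -- `a` normalises the left factor, hence lies in it
  refine self_normalising a fun c hc => ?_
  -- balance the sign in the second factor
  have hbal : ∀ σ : ℤˣ, ∃ d : Perm (Fin 4), Perm.sign d = σ ∧ d * t4 = t4 * d := by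
    intro σ
    rcases Int.units_eq_one_or σ with rfl | rfl
    · exact ⟨1, map_one _, by simp⟩
    · exact ⟨swap 0 1, by decide, by decide⟩
  obtain ⟨d, hd, hdt⟩ := hbal (Perm.sign c)
  let Y : A8 := ⟨emb44 (c, d), mem_A8.2 (by rw [sign_emb44, hd]; exact Int.units_mul_self _)⟩
  have hY : Y ∈ sylT := mem_sylT.mpr ⟨c, d, hc, hdt, rfl⟩
  obtain ⟨Z, hZ, hvZ⟩ := mem_subgroupOf.mp
    (hvn ⟨e.φ Y, hTC (mem_map_of_mem _ hY)⟩ (mem_subgroupOf.mpr (mem_map_of_mem _ hY)))
  have hxY : x * Y * x⁻¹ = Z := e.inj (by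
    rw [map_mul, map_mul, map_inv, hx]; exact hvZ.symm)
  obtain ⟨a₁, b₁, ha₁, -, hab₁⟩ := mem_sylT.mp hZ
  have h : (x : Perm (Fin 8)) * emb44 (c, d) * (x : Perm (Fin 8))⁻¹ = Z := congrArg Subtype.val hxY
  rw [← hab, ← hab₁, ← map_inv, ← map_mul, ← map_mul] at h
  have h' : a * c * a⁻¹ = a₁ := congrArg Prod.fst (emb44_injective h)
  rwa [h']

/-- A normal subgroup of `C(φ t)` of odd order, together with `φ t` and the image, fills it. -/
theorem exists_normal_core : ∃ M : Subgroup G, M ≤ centralizer ({e.φ t} : Set G) ∧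
    e.φ t ∈ M ∧ (∃ m, Odd m ∧ Nat.card M = 2 * m) ∧
    (∀ g ∈ centralizer ({e.φ t} : Set G), ∀ x ∈ M, g * x * g⁻¹ ∈ M) ∧
    ∀ g ∈ centralizer ({e.φ t} : Set G), ∃ x ∈ M, ∃ c : A8, c * t = t * c ∧ g = x * e.φ c := by
  obtain ⟨hss, hs1, -, hst4, hst, -⟩ := st_facts
  obtain ⟨htt, ht1, -, -⟩ := t_facts
  haveI : Fact (Nat.Prime 2) := ⟨Nat.prime_two⟩
  set C := centralizer ({e.φ t} : Set G) with hC
  let a : C := ⟨e.φ t, mem_centralizer_singleton_iff.mpr rfl⟩
  let s' : C := ⟨e.φ s, mem_centralizer_singleton_iff.mpr (by rw [← map_mul, ← map_mul, hst])⟩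
  have hacen : ∀ g : C, g * a = a * g := fun g =>
    Subtype.ext (mem_centralizer_singleton_iff.mp g.2)
  haveI hAn : (zpowers a).Normal := ⟨fun x hx g => by
    obtain ⟨i, rfl⟩ := mem_zpowers_iff.mp hx
    rw [((show Commute g a from hacen g).zpow_right i).eq, mul_inv_cancel_right]
    exact zpow_mem (mem_zpowers a) i⟩
  have haa : a * a = 1 := Subtype.ext (by
    show e.φ t * e.φ t = 1
    rw [← map_mul, htt, map_one])
  have hA : ∀ x ∈ zpowers a, x = 1 ∨ x = a := by
    intro x hx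
    obtain ⟨i, rfl⟩ := mem_zpowers_iff.mp hx
    rcases Int.even_or_odd i with ⟨j, rfl⟩ | ⟨j, rfl⟩
    · left; rw [← two_mul, zpow_mul, zpow_ofNat, pow_two, haa, one_zpow]
    · right; rw [zpow_add_one, zpow_mul, zpow_ofNat, pow_two, haa, one_zpow, one_mul]
  obtain ⟨P, hP⟩ := e.exists_sylow_t
  have hπ := QuotientGroup.mk'_surjective (zpowers a)
  have hs'P : s' ∈ (P : Subgroup C) := by
    have : e.φ s ∈ (P : Subgroup C).map C.subtype := hP ▸ mem_map_of_mem _ s_mem_sylT
    obtain ⟨p, hp, hps⟩ := this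
    rwa [show s' = p from Subtype.ext hps.symm]
  have hs'1 : QuotientGroup.mk' (zpowers a) s' ≠ 1 := fun h => by
    rcases hA _ ((QuotientGroup.eq_one_iff s').mp h) with h' | h'
    · exact hs1 (e.inj ((congrArg Subtype.val h').trans (map_one _).symm))
    · have h1 : s = t := e.inj (congrArg Subtype.val h')
      rw [h1, htt] at hst4
      simp at hst4
  have hord : orderOf (QuotientGroup.mk' (zpowers a) s') = 2 :=
    orderOf_eq_prime (by
      rw [← map_pow, show s' ^ 2 = 1 from Subtype.ext (by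
        show e.φ s ^ 2 = 1
        rw [← map_pow, pow_two, hss, map_one]), map_one]) hs'1
  obtain ⟨Nb, hNbn, hNbo, hNbc⟩ := Invol.zStar_sylow
    (P.mapSurjective hπ) (QuotientGroup.mk' (zpowers a) s') hord (fun h hh => by
      obtain ⟨g, rfl⟩ := hπ h
      rw [← map_inv, ← map_mul, ← map_mul] at hh ⊢
      obtain ⟨p, hp, hpe⟩ := hh
      have hd : p⁻¹ * (g * s' * g⁻¹) ∈ zpowers a := QuotientGroup.eq.mp hpe
      have haP : a ∈ (P : Subgroup C) := by
        have : e.φ t ∈ (P : Subgroup C).map C.subtype := hP ▸ mem_map_of_mem _ t_mem_sylT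
        obtain ⟨p', hp', hpt⟩ := this
        rwa [show a = p' from Subtype.ext hpt.symm]
      have hmem : g * s' * g⁻¹ ∈ (P : Subgroup C) := by
        have := mul_mem hp (zpowers_le.mpr haP hd)
        rwa [mul_inv_cancel_left] at this
      have : ((g * s' * g⁻¹ : C) : G) ∈ sylT.map e.φ := hP ▸ mem_map_of_mem C.subtype hmem
      obtain ⟨q, hq, hqe⟩ := this
      have hgt : (g : G) * e.φ t * (g : G)⁻¹ = e.φ t := by
        rw [mem_centralizer_singleton_iff.mp g.2, mul_inv_cancel_right]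
      rcases e.fuse_s hgt hq hqe.symm with rfl | rfl
      · exact congrArg _ (Subtype.ext hqe.symm)
      · refine QuotientGroup.eq.mpr ?_
        have h1 : g * s' * g⁻¹ = s' * a := Subtype.ext (hqe.symm.trans (map_mul e.φ s t))
        rw [h1, mul_inv_rev, mul_assoc, inv_mul_cancel, mul_one]
        exact inv_mem (mem_zpowers a))
  set M' := Nb.comap (QuotientGroup.mk' (zpowers a)) with hM'
  haveI : M'.Normal := hNbn.comap _
  refine ⟨M'.map C.subtype, map_subtype_le _, ⟨a, ?_, rfl⟩, ⟨Nat.card Nb, hNbo, ?_⟩, ?_, ?_⟩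
  · show QuotientGroup.mk' (zpowers a) a ∈ Nb
    rw [show QuotientGroup.mk' (zpowers a) a = 1 from (QuotientGroup.eq_one_iff a).mpr (mem_zpowers a)]
    exact one_mem _
  · rw [card_map_of_injective C.subtype_injective,
      card_eq_card_quotient_mul_card_subgroup ((zpowers a).subgroupOf M'), mul_comm]
    congr 1
    · rw [Nat.card_congr (subgroupOfEquivOfLe (show zpowers a ≤ M' from fun x hx => by
        show QuotientGroup.mk' (zpowers a) x ∈ Nb
        rw [show QuotientGroup.mk' (zpowers a) x = 1 from (QuotientGroup.eq_one_iff x).mpr hx]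
        exact one_mem _)).toEquiv, Nat.card_zpowers]
      exact orderOf_eq_prime (by rw [pow_two, haa])
        (fun h => ht1 (e.inj ((congrArg Subtype.val h).trans (map_one _).symm)))
    · let f : M' →* Nb := ((QuotientGroup.mk' (zpowers a)).comp M'.subtype).codRestrict Nb fun x => x.2
      have hf : Function.Surjective f := fun y => by
        obtain ⟨x, hx⟩ := hπ y.1
        exact ⟨⟨x, show QuotientGroup.mk' (zpowers a) x ∈ Nb from hx ▸ y.2⟩, Subtype.ext hx⟩
      have hker : f.ker = (zpowers a).subgroupOf M' := Subgroup.ext fun x => by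
        rw [MonoidHom.mem_ker, mem_subgroupOf, Subtype.ext_iff]
        exact QuotientGroup.eq_one_iff _
      exact (Nat.card_congr (QuotientGroup.quotientMulEquivOfEq hker.symm).toEquiv).trans
        (Nat.card_congr (QuotientGroup.quotientKerEquivOfSurjective f hf).toEquiv)
  · rintro g hg _ ⟨x, hx, rfl⟩
    exact ⟨⟨g, hg⟩ * x * ⟨g, hg⟩⁻¹, ‹M'.Normal›.conj_mem x hx ⟨g, hg⟩, rfl⟩
  · intro g hg
    set π := QuotientGroup.mk' (zpowers a)
    set h := π ⟨g, hg⟩ with hh
    set σ := π s' with hσ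
    set σ' := h * σ * h⁻¹ with hσ'
    have hσ2 : σ * σ = 1 := by rw [← pow_two, ← hord, pow_orderOf_eq_one]
    have hσ'2 : σ' * σ' = 1 := by rw [hσ', conj_mul, hσ2, mul_one, mul_inv_cancel]
    have hmem : σ * σ' ∈ Nb := by
      have := hNbc h
      rw [hσ', ← mul_assoc, ← mul_assoc]
      have hσi : σ⁻¹ = σ := inv_eq_of_mul_eq_one_right hσ2
      have h2 := hNbn.conj_mem _ (inv_mem this) σ
      rw [mul_inv_rev, mul_inv_rev, mul_inv_rev, inv_inv, inv_inv, hσi] at h2
      simpa [mul_assoc, hσ2, hσi] using h2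
    obtain ⟨⟨m, hm⟩⟩ : Nonempty {m : ℕ // orderOf (σ * σ') = 2 * m + 1} := by
      have : Odd (orderOf (σ * σ')) :=
        hNbo.of_dvd_nat (Subgroup.orderOf_dvd_natCard Nb hmem)
      exact ⟨⟨_, this.choose_spec⟩⟩
    set k := (σ * σ') ^ m with hk
    have hkconj : k * σ * k⁻¹ = σ' := by
      have hinv := Invol.conj_prod hσ2 hσ'2
      have h1 := Invol.conj_zpow_of_inverts hinv (m : ℤ)
      rw [zpow_natCast, zpow_neg, zpow_natCast] at h1
      rw [← hk] at h1
      calc k * σ * k⁻¹ = k * (σ * k⁻¹ * σ⁻¹) * σ := by simp [mul_assoc]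
        _ = k * k * σ := by
            rw [show σ * k⁻¹ * σ⁻¹ = (σ * k * σ⁻¹)⁻¹ by simp [mul_assoc], h1, inv_inv]
        _ = σ' := by
            have hkk : k * k * (σ * σ') = 1 := by
              rw [hk, ← pow_add, ← pow_succ, show m + m + 1 = 2 * m + 1 by omega, ← hm,
                pow_orderOf_eq_one]
            rw [eq_inv_of_mul_eq_one_left hkk, mul_inv_rev, inv_eq_of_mul_eq_one_right hσ2,
              inv_eq_of_mul_eq_one_right hσ'2, mul_assoc, hσ2, mul_one]
    obtain ⟨kk, hkk⟩ := hπ k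
    have hkkM : kk ∈ M' := show π kk ∈ Nb from hkk ▸ pow_mem hmem m
    set c := kk⁻¹ * ⟨g, hg⟩ with hc
    have hcs : π (c * s' * c⁻¹) = π s' := by
      calc π (c * s' * c⁻¹) = k⁻¹ * (h * σ * h⁻¹) * k := by
            simp [hc, hkk, hh, hσ, mul_assoc]
        _ = σ := by rw [← hσ', ← hkconj]; simp [mul_assoc]
    have hct : (c : G) * e.φ t * (c : G)⁻¹ = e.φ t := by
      rw [mem_centralizer_singleton_iff.mp c.2, mul_inv_cancel_right]
    obtain ⟨x, hx⟩ : (c : G) ∈ e.φ.range := by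
      rcases hA _ (QuotientGroup.eq.mp hcs.symm) with h1 | h1
      · exact e.mem_range_of_fuse hct s_mem_sylT (congrArg Subtype.val (inv_mul_eq_one.mp h1).symm)
      · refine e.mem_range_of_fuse hct (mul_mem s_mem_sylT t_mem_sylT) ?_
        rw [map_mul]
        exact congrArg Subtype.val (show c * s' * c⁻¹ = s' * a by rw [← h1, mul_inv_cancel_left])
    refine ⟨(kk : G), ⟨kk, hkkM, rfl⟩, x, e.inj ?_, ?_⟩
    · rw [map_mul, map_mul, hx]; exact mem_centralizer_singleton_iff.mp c.2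
    · rw [hx]; simp [hc]

/-- The centraliser of `φ t` splits. -/
theorem split_t : e.Split (e.φ t) := by
  obtain ⟨-, -, -, -, -, -, htz, hz3, hz1, hut, hw2, hw1⟩ := st_facts
  obtain ⟨htt, ht1, -, -⟩ := t_facts
  obtain ⟨M, hMC, haM, ⟨m, hm, hcardM⟩, hMn, hdec⟩ := e.exists_normal_core
  set C := centralizer ({e.φ t} : Set G) with hC
  set a := e.φ t with ha
  have ha2 : a ^ 2 = 1 := by rw [ha, ← map_pow, pow_two, htt, map_one]
  have ham : a ^ m = a := by
    obtain ⟨j, rfl⟩ := hm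
    rw [pow_succ, pow_mul, ha2, one_pow, one_mul]
  have ha1 : a ≠ 1 := fun h => ht1 (e.inj (h.trans (map_one _).symm))
  have hcom : ∀ x ∈ M, Commute x a := fun x hx => mem_centralizer_singleton_iff.mp (hMC hx)
  -- the complement of `⟨a⟩`
  let a' : M := ⟨a, haM⟩
  haveI : (zpowers a').Normal := ⟨fun x hx g => by
    obtain ⟨i, rfl⟩ := mem_zpowers_iff.mp hx
    have hc : Commute g a' := Subtype.ext (hcom g g.2)
    rw [(hc.zpow_right i).eq, mul_inv_cancel_right]
    exact zpow_mem (mem_zpowers a') i⟩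
  have hoa : Nat.card (zpowers a') = 2 := by
    haveI := Fact.mk Nat.prime_two
    rw [Nat.card_zpowers]
    exact orderOf_eq_prime (Subtype.ext ha2) fun h => ha1 (congrArg Subtype.val h)
  have hidx : (zpowers a').index = m := by
    have h := card_mul_index (zpowers a')
    rw [hoa, hcardM] at h
    omega
  obtain ⟨K₀, hK₀⟩ := exists_right_complement'_of_coprime (N := zpowers a')
    (by rw [hoa, hidx]; exact Nat.coprime_two_left.mpr hm)
  have hK₀card : Nat.card K₀ = m := by rw [← hK₀.symm.index_eq_card, hidx]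
  set K := K₀.map M.subtype with hK
  have hKcard : Nat.card K = m := by rw [hK, card_map_of_injective M.subtype_injective, hK₀card]
  have hdecM : ∀ x ∈ M, ∃ k ∈ K, x = k ∨ x = k * a := by
    intro x hx
    obtain ⟨⟨i, k⟩, hik⟩ := hK₀.2 ⟨x, hx⟩
    refine ⟨((k : M) : G), ⟨k, k.2, rfl⟩, ?_⟩
    have hx' : ((i : M) : G) * ((k : M) : G) = x := congrArg Subtype.val hik
    obtain ⟨j, hj⟩ := mem_zpowers_iff.mp i.2
    have hj' : ((i : M) : G) = a ^ j := by rw [← hj]; rfl
    rw [← hx', hj']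
    rcases Int.even_or_odd j with ⟨l, rfl⟩ | ⟨l, rfl⟩
    · left; rw [← two_mul, zpow_mul, zpow_ofNat, ha2, one_zpow, one_mul]
    · right
      rw [zpow_add_one, zpow_mul, zpow_ofNat, ha2, one_zpow, one_mul]
      exact (hcom _ (k : M).2).symm.eq
  have hKiff : ∀ x, x ∈ K ↔ x ∈ M ∧ x ^ m = 1 := by
    intro x
    refine ⟨fun hx => ⟨map_subtype_le _ hx, ?_⟩, fun ⟨hxM, hxm⟩ => ?_⟩
    · rw [← hKcard]
      exact congrArg Subtype.val (pow_card_eq_one' (x := (⟨x, hx⟩ : K)))
    · obtain ⟨k, hk, rfl | rfl⟩ := hdecM x hxM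
      · exact hk
      · exfalso
        have hkm : k ^ m = 1 := by
          rw [← hKcard]
          exact congrArg Subtype.val (pow_card_eq_one' (x := (⟨k, hk⟩ : K)))
        rw [(hcom k (map_subtype_le _ hk)).mul_pow, hkm, ham, one_mul] at hxm
        exact ha1 hxm
  have hKn : ∀ g ∈ C, ∀ x ∈ K, g * x * g⁻¹ ∈ K := fun g hg x hx => by
    obtain ⟨hxM, hxm⟩ := (hKiff x).mp hx
    exact (hKiff _).mpr ⟨hMn g hg x hxM, by rw [conj_pow, hxm, mul_one, mul_inv_cancel]⟩
  have hKC : K ≤ C := (map_subtype_le _).trans hMC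
  have hdecC : ∀ g ∈ C, ∃ k ∈ K, ∃ c : A8, c * t = t * c ∧ g = k * e.φ c := by
    intro g hg
    obtain ⟨x, hx, c, hc, rfl⟩ := hdec g hg
    obtain ⟨k, hk, rfl | rfl⟩ := hdecM x hx
    · exact ⟨x, hk, c, hc, rfl⟩
    · refine ⟨k, hk, t * c, ?_, by rw [map_mul, mul_assoc]⟩
      rw [mul_assoc, hc]
  -- three does not divide `|K|`
  have h3 : ¬ 3 ∣ m := by
    intro h3
    haveI : Fact (Nat.Prime 3) := ⟨Nat.prime_three⟩
    obtain ⟨w, hw⟩ := exists_prime_orderOf_dvd_card' 3 (hKcard.symm ▸ h3)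
    have hw3 : (w : G) ^ 3 = 1 :=
      congrArg Subtype.val (hw ▸ pow_orderOf_eq_one w : w ^ 3 = 1)
    have hw1 : (w : G) ≠ 1 := fun h => by
      rw [show w = 1 from Subtype.ext h, orderOf_one] at hw
      omega
    obtain ⟨h, hh, hhw⟩ := e.conj_z (mem_centralizer_singleton_iff.mp (hKC w.2)) hw3 hw1
    have hzK : e.φ z ∈ K := by
      have := hKn h (mem_centralizer_singleton_iff.mpr hh) w w.2
      rcases hhw with h' | h' <;> rw [h'] at this
      · exact this
      · exact inv_inv (e.φ z) ▸ inv_mem this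
    have huC : e.φ u ∈ C := mem_centralizer_singleton_iff.mpr (by
      rw [← map_mul, ← map_mul, hut])
    set v := z * u * z⁻¹ * u⁻¹ with hv
    have hvK : e.φ v ∈ K := by
      have h1 := mul_mem hzK (hKn _ huC _ (inv_mem hzK))
      rw [← mul_assoc, ← mul_assoc] at h1
      rw [hv, map_mul, map_mul, map_mul, map_inv, map_inv]
      exact h1
    have hv2 : e.φ v ^ 2 = 1 := by rw [← map_pow, pow_two, hw2, map_one]
    refine hw1 (e.inj ?_)
    rw [map_one]
    exact orderOf_eq_one_iff.mp (Nat.eq_one_of_dvd_coprimes (Nat.coprime_two_left.mpr hm)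
      (orderOf_dvd_of_pow_eq_one hv2) (hKcard ▸ Subgroup.orderOf_dvd_natCard K hvK))
  refine ⟨K, hKC, ?_, fun x hx hcop => ?_, fun g hg => ?_⟩
  · rw [hKcard, show (6 : ℕ) = 2 * 3 from rfl]
    exact Nat.Coprime.mul_right (Nat.coprime_two_right.mpr hm)
      ((Nat.Prime.coprime_iff_not_dvd Nat.prime_three).mpr h3).symm
  · obtain ⟨k, hk, c, hc, hxe⟩ := hdecC x hx
    obtain ⟨a₁, b₁, hab, -, -⟩ := exists_of_commute_t hc
    have hc12 : c ^ 12 = 1 := Subtype.ext (by
      rw [SubmonoidClass.coe_pow, ← hab, ← map_pow, Prod.pow_mk, pow_twentyfour, pow_twentyfour]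
      exact map_one emb44)
    -- `x ^ 12` lies in `K`
    have hcC : e.φ c ∈ C := mem_centralizer_singleton_iff.mpr (by
      rw [← map_mul, ← map_mul, hc])
    have hpow : ∀ j : ℕ, x ^ j * (e.φ c ^ j)⁻¹ ∈ K := by
      intro j
      induction j with
      | zero => simp
      | succ j ih =>
        rw [pow_succ' x, pow_succ' (e.φ c), hxe]
        rw [hxe] at ih
        have := mul_mem hk (hKn _ hcC _ ih)
        simpa [mul_assoc] using this
    have h12 := hpow 12
    rw [← map_pow, hc12, map_one, inv_one, mul_one] at h12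
    obtain ⟨j, hj⟩ := exists_pow_eq_self_of_coprime (x := x) (n := 12) (by
      rw [show (12 : ℕ) = 2 * 6 from rfl]
      exact Nat.Coprime.mul_left (Nat.Coprime.coprime_dvd_left (by norm_num) hcop.symm) hcop.symm)
    exact hj ▸ pow_mem h12 j
  · obtain ⟨k, hk, c, -, rfl⟩ := hdecC g hg
    exact mul_mem (mem_sup_left hk) (mem_sup_right ⟨c, rfl⟩)

end Emb

end CfsgLib.AltEightThree
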