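import Cfsg.Agent.Lib.AltEightThree.Emb
import Mathlib.GroupTheory.Perm.Centralizer
import Mathlib.GroupTheory.Perm.Cycle.Type

/-!
Model facts for the centraliser of a double transposition in the alternating group on eight points.
-/

set_option autoImplicit false
set_option synthInstance.maxSize 2000
set_option synthInstance.maxHeartbeats 200000

namespace CfsgLib.AltEightThree.CentT

open Equiv Equiv.Perm

/-- `(0 1)(2 3)` on four points. -/
def t4 : Perm (Fin 4) := swap 0 1 * swap 2 3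
/-- `(0 2)(1 3)` on four points. -/
def s4 : Perm (Fin 4) := swap 0 2 * swap 1 3
/-- `(0 1 2)` on four points. -/
def z4 : Perm (Fin 4) := swap 0 1 * swap 1 2

theorem emb44_t : emb44 (1, t4) = pt := emb44_pt
theorem emb44_s : emb44 (1, s4) = ps := by decide
theorem emb44_u : emb44 (t4, 1) = pu := by decide
theorem emb44_z : emb44 (z4, 1) = pz := by decide

theorem pt_pred : ∀ i : Fin 8, pt i = i ↔ i < 4 := by decide

/-- A permutation normalising the four-point block lies in the image of `emb44`. -/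
theorem exists_emb44 (x : Perm (Fin 8)) (hx : ∀ i : Fin 8, i < 4 → x i < 4) :
    ∃ a b : Perm (Fin 4), emb44 (a, b) = x := by
  let e : Fin 4 ⊕ Fin 4 ≃ Fin 8 := finSumFinEquiv
  have hm : Set.MapsTo (e.symm.permCongr x) (Set.range Sum.inl) (Set.range Sum.inl) := by
    rintro _ ⟨i, rfl⟩
    have hi : e (Sum.inl i) < 4 := by
      show (Fin.castAdd 4 i : Fin 8) < 4
      rw [Fin.lt_def]; exact i.isLt
    have h2 := hx _ hi
    rcases hj : e.symm (x (e (Sum.inl i))) with j | j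
    · exact ⟨j, by simp [Equiv.permCongr_apply, hj]⟩
    · exfalso
      have : x (e (Sum.inl i)) = e (Sum.inr j) := by rw [← hj, Equiv.apply_symm_apply]
      rw [this] at h2
      have h3 : (Fin.natAdd 4 j : Fin 8) < 4 := h2
      rw [Fin.lt_def] at h3
      simp at h3
  obtain ⟨⟨a, b⟩, hab⟩ := Perm.mem_sumCongrHom_range_of_perm_mapsTo_inl hm
  refine ⟨a, b, ?_⟩
  show e.permCongr (Perm.sumCongrHom (Fin 4) (Fin 4) (a, b)) = x
  rw [hab]
  ext i
  simp [Equiv.permCongr_apply]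

/-- The centraliser of `t` in the model. -/
theorem exists_of_commute_t {x : A8} (hx : x * t = t * x) :
    ∃ a b : Perm (Fin 4), emb44 (a, b) = (x : Perm (Fin 8)) ∧ sign a = sign b ∧
      b * t4 = t4 * b := by
  have hx' : (x : Perm (Fin 8)) * pt = pt * x := congrArg Subtype.val hx
  obtain ⟨a, b, hab⟩ := exists_emb44 (x : Perm (Fin 8)) fun i hi => by
    rw [← pt_pred]
    have h := DFunLike.congr_fun hx' i
    rw [Perm.mul_apply, Perm.mul_apply, (pt_pred i).mpr hi] at h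
    exact h.symm
  refine ⟨a, b, hab, ?_, ?_⟩
  · have hs := mem_A8.mp x.2
    rw [← hab, sign_emb44] at hs
    rcases Int.units_eq_one_or (sign a) with h | h <;>
      rcases Int.units_eq_one_or (sign b) with h' | h' <;> simp_all
  · rw [← hab, ← emb44_t, ← map_mul, ← map_mul] at hx'
    exact (congrArg Prod.snd (emb44_injective hx'))

theorem pow_twentyfour : ∀ a : Perm (Fin 4), a ^ 12 = 1 := by decide +kernel

theorem not_three_dvd_helper : ∀ a b : Perm (Fin 4), b * t4 = t4 * b → a ^ 3 = 1 → b ^ 3 = 1 →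
    (a * z4 * a⁻¹ = z4 ∨ a * z4 * a⁻¹ = z4⁻¹) → b = 1 ∧ (a = 1 ∨ a = z4 ∨ a = z4⁻¹) := by
  decide +kernel

theorem three_conj : ∀ a b : Perm (Fin 4), sign a = sign b → b * t4 = t4 * b → b * s4 = s4 * b →
    a ^ 3 = 1 → b ^ 3 = 1 → a = 1 ∧ b = 1 ∨ b = 1 ∧
      ∃ c : Perm (Fin 4), sign c = 1 ∧ (c * a * c⁻¹ = z4 ∨ c * a * c⁻¹ = z4⁻¹) := by
  decide +kernel

theorem four_norm_involution : ∀ a b : Perm (Fin 4), sign a = sign b → a * a = 1 → b * b = 1 →
    b * t4 * b⁻¹ = s4 * t4 → b * s4 = s4 * b → (emb44 (a, b)).support.card = 4 := by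
  decide +kernel

theorem t_class : ∀ a b : Perm (Fin 4), sign a = sign b → a * t4 = t4 * a → b * t4 = t4 * b →
    a * a = 1 → b * b = 1 → (emb44 (a, b)).support.card = 4 →
    (emb44 (a, b * t4)).support.card = 4 →
    (a = 1 ∧ (b = s4 ∨ b = s4 * t4)) ∨
      ((a = swap 0 1 ∨ a = swap 2 3) ∧ (b = swap 0 1 ∨ b = swap 2 3)) := by
  decide +kernel

theorem self_normalising : ∀ a : Perm (Fin 4),
    (∀ c : Perm (Fin 4), c * t4 = t4 * c → a * c * a⁻¹ * t4 = t4 * (a * c * a⁻¹)) →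
      a * t4 = t4 * a := by
  decide +kernel

theorem pow_four : ∀ a : Perm (Fin 4), a * t4 = t4 * a → a ^ 4 = 1 := by decide +kernel

/-- `(3 4 5 6 7)` -/
def p5 : Perm (Fin 8) := swap 3 4 * swap 4 5 * swap 5 6 * swap 6 7

/-- `(3 4 5 6 7)` in the model. -/
def f5 : A8 := ⟨p5, mem_A8.2 (by decide)⟩

theorem f5_facts : f5 ≠ 1 ∧ f5 ^ 5 = 1 ∧ f5 * z = z * f5 := by decide +kernel

theorem cycleType_invol {x : Perm (Fin 8)} (hx : x * x = 1) (hx1 : x ≠ 1) :
    ∃ m : ℕ, x.cycleType = Multiset.replicate m 2 ∧ x.support.card = 2 * m := by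
  haveI := Fact.mk Nat.prime_two
  have ho : orderOf x = 2 := orderOf_eq_prime (by rw [pow_two, hx]) hx1
  obtain ⟨m, hm⟩ := Perm.cycleType_prime_order (σ := x) (ho.symm ▸ Nat.prime_two)
  rw [ho] at hm
  refine ⟨m + 1, hm, ?_⟩
  rw [← Perm.sum_cycleType, hm, Multiset.sum_replicate, smul_eq_mul, mul_comm]

/-- Involutions of the model are conjugate to `r` when they move as many points as `r`. -/
theorem exists_conj_of_card {r x : A8} (hr : r * r = 1) (hr1 : r ≠ 1)
    {o : Perm (Fin 8)} (ho : sign o = -1) (hor : o * (r : Perm (Fin 8)) = r * o) (hx : x * x = 1)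
    (hc : (x : Perm (Fin 8)).support.card = (r : Perm (Fin 8)).support.card) :
    ∃ c : A8, c * r * c⁻¹ = x := by
  have hx1 : x ≠ 1 := by
    rintro rfl
    refine hr1 (Subtype.ext ?_)
    show (r : Perm (Fin 8)) = 1
    rw [← Perm.support_eq_empty_iff, ← Finset.card_eq_zero, ← hc]
    simp
  obtain ⟨i, hi, hi'⟩ := cycleType_invol (congrArg Subtype.val hx) fun e => hx1 (Subtype.ext e)
  obtain ⟨j, hj, hj'⟩ := cycleType_invol (congrArg Subtype.val hr) fun e => hr1 (Subtype.ext e)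
  have hij : i = j := by omega
  obtain ⟨g, hg⟩ := isConj_iff.mp
    (Perm.isConj_iff_cycleType_eq.mpr (by rw [hj, hi, hij] :
      (r : Perm (Fin 8)).cycleType = (x : Perm (Fin 8)).cycleType))
  rcases Int.units_eq_one_or (sign g) with hs | hs
  · exact ⟨⟨g, mem_A8.2 hs⟩, Subtype.ext hg⟩
  · refine ⟨⟨g * o, mem_A8.2 (by rw [map_mul, hs, ho]; rfl)⟩, Subtype.ext ?_⟩
    show g * o * (r : Perm (Fin 8)) * (g * o)⁻¹ = x
    rw [mul_assoc g o, hor, ← mul_assoc g, mul_inv_rev, mul_assoc (g * (r : Perm (Fin 8))), ←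
      mul_assoc o, mul_inv_cancel, one_mul]
    exact hg

theorem t_facts : t * t = 1 ∧ t ≠ 1 ∧ (t : Perm (Fin 8)).support.card = 4 ∧
    swap 0 1 * (t : Perm (Fin 8)) = (t : Perm (Fin 8)) * swap 0 1 := by decide +kernel

theorem n_facts : n * n = 1 ∧ n ≠ 1 ∧ (n : Perm (Fin 8)).support.card = 8 ∧
    swap 3 4 * (n : Perm (Fin 8)) = (n : Perm (Fin 8)) * swap 3 4 ∧ n * y = y * n ∧ y ^ 3 = 1 ∧ y ≠ 1 := by
  decide +kernel

theorem exists_conj_t {x : A8} (hx : x * x = 1) (hc : (x : Perm (Fin 8)).support.card = 4) :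
    ∃ c : A8, c * t * c⁻¹ = x :=
  exists_conj_of_card t_facts.1 t_facts.2.1 (o := swap 0 1) (by decide) t_facts.2.2.2 hx
    (hc.trans t_facts.2.2.1.symm)

theorem exists_conj_n {x : A8} (hx : x * x = 1) (hc : (x : Perm (Fin 8)).support.card = 8) :
    ∃ c : A8, c * n * c⁻¹ = x :=
  exists_conj_of_card n_facts.1 n_facts.2.1 (o := swap 3 4) (by decide) n_facts.2.2.2.1 hx
    (hc.trans n_facts.2.2.1.symm)

theorem card_support_invol {x : A8} (hx : x * x = 1) (hx1 : x ≠ 1) :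
    (x : Perm (Fin 8)).support.card = 4 ∨ (x : Perm (Fin 8)).support.card = 8 := by
  obtain ⟨m, hm, hm'⟩ := cycleType_invol (congrArg Subtype.val hx) fun e => hx1 (Subtype.ext e)
  have hle : (x : Perm (Fin 8)).support.card ≤ 8 :=
    (Finset.card_le_univ _).trans (by simp)
  have hs := mem_A8.mp x.2
  rw [Perm.sign_of_cycleType, hm] at hs
  have hm0 : m ≠ 0 := fun e => hx1 (Subtype.ext (Perm.cycleType_eq_zero.mp (by rw [hm, e]; rfl)))
  have hm4 : m ≤ 4 := by omega
  interval_cases m <;> simp_all [Multiset.sum_replicate] <;> exact absurd hs (by decide)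

/-- Fixed-point-free involutions normalising, but not centralising, the mixed four-groups. -/
theorem witness (τ σ : Perm (Fin 4)) (hτ : τ = swap 0 1 ∨ τ = swap 2 3)
    (hσ : σ = swap 0 1 ∨ σ = swap 2 3) :
    ∃ x : Perm (Fin 8), sign x = 1 ∧ x * x = 1 ∧ x.support.card = 8 ∧
      x * pt * x⁻¹ = emb44 (τ, σ) * pt ∧ x * emb44 (τ, σ) * x⁻¹ = emb44 (τ, σ) := by
  rcases hτ with rfl | rfl <;> rcases hσ with rfl | rfl
  · exact ⟨swap 0 4 * swap 1 5 * swap 2 3 * swap 6 7, by decide +kernel⟩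
  · exact ⟨swap 0 6 * swap 1 7 * swap 2 3 * swap 4 5, by decide +kernel⟩
  · exact ⟨swap 2 4 * swap 3 5 * swap 0 1 * swap 6 7, by decide +kernel⟩
  · exact ⟨swap 2 6 * swap 3 7 * swap 0 1 * swap 4 5, by decide +kernel⟩

/-- No nontrivial element of order dividing five centralises `y`. -/
theorem eq_one_of_commute_y {b : A8} (hb : b ^ 5 = 1) (hby : b * y = y * b) : b = 1 := by
  have h36 : Nat.card (Subgroup.centralizer ({(y : Perm (Fin 8))} : Set (Perm (Fin 8)))) = 36 := by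
    have hcy : (y : Perm (Fin 8)).cycleType = {3, 3} := by decide +kernel
    rw [Perm.nat_card_centralizer, hcy]
    decide
  have hmem : (b : Perm (Fin 8)) ∈ Subgroup.centralizer ({(y : Perm (Fin 8))} : Set (Perm (Fin 8))) :=
    Subgroup.mem_centralizer_singleton_iff.mpr (congrArg Subtype.val hby)
  have h1 : orderOf b ∣ 36 := h36 ▸ (Subgroup.orderOf_coe b) ▸ Subgroup.orderOf_dvd_natCard _ hmem
  exact orderOf_eq_one_iff.mp (Nat.eq_one_of_dvd_coprimes (by decide : Nat.Coprime 36 5) h1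
    (orderOf_dvd_of_pow_eq_one hb))

end CfsgLib.AltEightThree.CentT

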