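import Cfsg.Agent.Lib.AltEightThree.Small

/-!
The normalised three-local data.
-/

set_option autoImplicit false

namespace CfsgLib.AltEightThree

/-- The three-local data in normal form: an identification of the normaliser of a three-cycle and
an element exchanging the two three-cycles of the chosen Sylow subgroup. -/
structure Data (G : Type*) [Group G] where
  ι : L0 →* G
  inj : Function.Injective ι
  range_eq : ι.range = Subgroup.normalizer (Subgroup.zpowers (ι zL) : Set G)
  not_dvd : ¬ 27 ∣ Nat.card G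
  cent_D : ∀ g : G, Commute g (ι zL) → Commute g (ι wL) → g ∈ Dm.map ι
  card_z : Nat.card (Subgroup.centralizer ({ι zL} : Set G)) = 180
  card_y : Nat.card (Subgroup.centralizer ({ι (zL * wL)} : Set G)) = 18
  card_y' : Nat.card (Subgroup.centralizer ({ι (zL * wL⁻¹)} : Set G)) = 18
  cent_y : Subgroup.centralizer ({ι (zL * wL)} : Set G) ≤ Subgroup.normalizer (Dm.map ι : Set G)
  cent_y' : Subgroup.centralizer ({ι (zL * wL⁻¹)} : Set G) ≤ Subgroup.normalizer (Dm.map ι : Set G)
  norm_D : ∀ g ∈ Subgroup.normalizer (Dm.map ι : Set G),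
    g * ι zL * g⁻¹ = ι zL ∨ g * ι zL * g⁻¹ = ι zL⁻¹ ∨
      g * ι zL * g⁻¹ = ι wL ∨ g * ι zL * g⁻¹ = ι wL⁻¹
  n : G
  n_z : n * ι zL * n⁻¹ = ι wL
  n_w : n * ι wL * n⁻¹ = ι zL
  n_p : n * ι pL * n⁻¹ = ι qL
  n_q : n * ι qL * n⁻¹ = ι pL

/-- The second identification, of the normaliser of the other three-cycle. -/
def Data.ψ {G : Type*} [Group G] (d : Data G) : L0 →* G :=
  (MulAut.conj d.n).toMonoidHom.comp d.ι

end CfsgLib.AltEightThree
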