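import Cfsg.Agent.Lib.AltEightThree.Model

/-!
Interface: an embedded alternating group on eight points containing the three-local data.
-/

set_option autoImplicit false

namespace CfsgLib.AltEightThree

/-- A copy of the model group in `G` containing the normaliser of a three-cycle, the centraliser of
a product of two three-cycles and the centraliser of a four-group on four points. -/
structure Emb (G : Type*) [Group G] where
  φ : ↥A8 →* G
  inj : Function.Injective φ
  not_dvd : ¬ 27 ∣ Nat.card G
  le_z : Subgroup.normalizer (Subgroup.zpowers (φ z) : Set G) ≤ φ.range
  le_y : Subgroup.centralizer ({φ y} : Set G) ≤ φ.range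
  le_four : Subgroup.centralizer ({φ t, φ s} : Set G) ≤ φ.range

/-- The centraliser of `a` has a subgroup of order prime to six containing all its elements of
such order, and together with the embedded group it covers the centraliser. -/
def Emb.Split {G : Type*} [Group G] (e : Emb G) (a : G) : Prop :=
  ∃ K : Subgroup G, K ≤ Subgroup.centralizer ({a} : Set G) ∧ (Nat.card K).Coprime 6 ∧
    (∀ x ∈ Subgroup.centralizer ({a} : Set G), (orderOf x).Coprime 6 → x ∈ K) ∧
    Subgroup.centralizer ({a} : Set G) ≤ K ⊔ e.φ.range

end CfsgLib.AltEightThree
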