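import Cfsg.Agent.Lib.AltEightThree.Model
import Mathlib.GroupTheory.Perm.Centralizer

/-!
Involutions of the model group and the centraliser facts needed for the embedding criterion.
-/

set_option autoImplicit false

namespace CfsgLib.AltEightThree

open Equiv Equiv.Perm

/-- An involution with a given support size. -/
theorem cycleType_of_orderOf_two {n : ℕ} {σ : Perm (Fin n)} (h : orderOf σ = 2) :
    ∃ k, σ.cycleType = Multiset.replicate k 2 ∧ σ.support.card = 2 * k := by
  obtain ⟨k, hk⟩ := cycleType_prime_order (σ := σ) (h.symm ▸ Nat.prime_two)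
  rw [h] at hk
  refine ⟨k + 1, hk, ?_⟩
  rw [← sum_cycleType, hk, Multiset.sum_replicate, smul_eq_mul]
  ring

theorem cycleType_pt : pt.cycleType = Multiset.replicate 2 2 := by
  obtain ⟨k, hk, hc⟩ := cycleType_of_orderOf_two (σ := pt)
    (orderOf_eq_prime (by decide) (by decide))
  have h4 : pt.support.card = 4 := by decide
  obtain rfl : k = 2 := by omega
  exact hk

theorem cycleType_pn : pn.cycleType = Multiset.replicate 4 2 := by
  obtain ⟨k, hk, hc⟩ := cycleType_of_orderOf_two (σ := pn)
    (orderOf_eq_prime (by decide) (by decide))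
  have h4 : pn.support.card = 8 := by decide
  obtain rfl : k = 4 := by omega
  exact hk

/-- Conjugacy under all permutations is conjugacy under the even ones when some odd permutation
centralises the element. -/
theorem exists_even_conj {a x r : Perm (Fin 8)} (hr : Perm.sign r = -1) (hra : r * a = a * r)
    (h : IsConj a x) : ∃ c : A8, (c : Perm (Fin 8)) * a * (c : Perm (Fin 8))⁻¹ = x := by
  obtain ⟨g, hg⟩ := isConj_iff.1 h
  rcases Int.units_eq_one_or (Perm.sign g) with hs | hs
  · exact ⟨⟨g, mem_A8.2 hs⟩, hg⟩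
  · refine ⟨⟨g * r, mem_A8.2 (by rw [map_mul, hs, hr]; rfl)⟩, ?_⟩
    rw [← hg]
    simp [mul_assoc, ← mul_assoc r a, hra]

/-- There are two classes of involutions. -/
theorem invol_conj {x : A8} (hx : orderOf x = 2) :
    (∃ c : A8, c * t * c⁻¹ = x) ∨ ∃ c : A8, c * n * c⁻¹ = x := by
  have hx' : orderOf (x : Perm (Fin 8)) = 2 := by rw [Subgroup.orderOf_coe, hx]
  obtain ⟨k, hk, hc⟩ := cycleType_of_orderOf_two hx'
  have h8 : (x : Perm (Fin 8)).support.card ≤ 8 := (Finset.card_le_univ _).trans (by simp)
  have hs : ((-1 : ℤˣ)) ^ (2 * k + k) = 1 := by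
    have := sign_of_cycleType (x : Perm (Fin 8))
    rw [mem_A8.1 x.2, hk, Multiset.sum_replicate, Multiset.card_replicate, smul_eq_mul,
      mul_comm k 2] at this
    exact this.symm
  have hk0 : k ≠ 0 := fun h0 => by
    have h1 : (x : Perm (Fin 8)) = 1 := cycleType_eq_zero.1 (by rw [hk, h0]; rfl)
    rw [h1, orderOf_one] at hx'
    omega
  obtain rfl | rfl : k = 2 ∨ k = 4 := by
    have hk4 : k ≤ 4 := by omega
    interval_cases k
    · omega
    · exact absurd hs (by decide)
    · exact Or.inl rfl
    · exact absurd hs (by decide)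
    · exact Or.inr rfl
  · obtain ⟨c, hc⟩ := exists_even_conj (r := swap 4 5) (a := pt) (by decide) (by decide)
      (isConj_iff_cycleType_eq.2 (cycleType_pt.trans hk.symm))
    exact Or.inl ⟨c, Subtype.ext hc⟩
  · obtain ⟨c, hc⟩ := exists_even_conj (r := swap 0 5) (a := pn) (by decide) (by decide)
      (isConj_iff_cycleType_eq.2 (cycleType_pn.trans hk.symm))
    exact Or.inr ⟨c, Subtype.ext hc⟩

/-- The centraliser in the even permutations has index two in the full centraliser. -/
theorem card_centralizer_A8 {a : A8} {r : Perm (Fin 8)} (hr : Perm.sign r = -1)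
    (hra : r * a = (a : Perm (Fin 8)) * r) :
    Nat.card (Subgroup.centralizer ({(a : Perm (Fin 8))} : Set (Perm (Fin 8)))) =
      2 * Nat.card (Subgroup.centralizer ({a} : Set A8)) := by
  let C := Subgroup.centralizer ({(a : Perm (Fin 8))} : Set (Perm (Fin 8)))
  let f : ↥C →* ℤˣ := Perm.sign.comp C.subtype
  have hrange : f.range = ⊤ := by
    refine eq_top_iff.2 fun v _ => ?_
    rcases Int.units_eq_one_or v with rfl | rfl
    · exact one_mem _
    · exact ⟨⟨r, Subgroup.mem_centralizer_singleton_iff.2 hra⟩, hr⟩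
  have hker : Nat.card f.ker = Nat.card (Subgroup.centralizer ({a} : Set A8)) :=
    Nat.card_congr
      { toFun := fun c => ⟨⟨c.1.1, mem_A8.2 c.2⟩, Subgroup.mem_centralizer_singleton_iff.2
          (Subtype.ext (Subgroup.mem_centralizer_singleton_iff.1 c.1.2))⟩
        invFun := fun c => ⟨⟨c.1.1, Subgroup.mem_centralizer_singleton_iff.2
          (congrArg Subtype.val (Subgroup.mem_centralizer_singleton_iff.1 c.2))⟩, mem_A8.1 c.1.2⟩
        left_inv := fun _ => rfl
        right_inv := fun _ => rfl }
  have h2 : f.ker.index = 2 := by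
    rw [Subgroup.index_ker, hrange, Subgroup.card_top, Nat.card_eq_fintype_card,
      Fintype.card_units_int]
  rw [← f.ker.card_mul_index, h2, hker, mul_comm]

theorem card_centralizer_t_lt_n :
    Nat.card (Subgroup.centralizer ({t} : Set A8)) ≠
      Nat.card (Subgroup.centralizer ({n} : Set A8)) := by
  have ht := card_centralizer_A8 (a := t) (r := swap 4 5) (by decide) (by decide)
  have hn := card_centralizer_A8 (a := n) (r := swap 0 5) (by decide) (by decide)
  rw [Perm.nat_card_centralizer] at ht hn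
  rw [show ((t : A8) : Perm (Fin 8)).cycleType = _ from cycleType_pt] at ht
  rw [show ((n : A8) : Perm (Fin 8)).cycleType = _ from cycleType_pn] at hn
  simp [Multiset.toFinset_replicate, Multiset.count_replicate, Nat.factorial] at ht hn
  omega

theorem cycleType_py : (pz * pw).cycleType = Multiset.replicate 2 3 := by
  have hz : pz.IsThreeCycle := by
    have := isThreeCycle_swap_mul_swap_same (α := Fin 8) (a := 1) (b := 0) (c := 2)
      (by decide) (by decide) (by decide)
    rwa [swap_comm 1 0] at this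
  have hw : pw.IsThreeCycle := by
    have := isThreeCycle_swap_mul_swap_same (α := Fin 8) (a := 6) (b := 5) (c := 7)
      (by decide) (by decide) (by decide)
    rwa [swap_comm 6 5] at this
  have hd : Perm.Disjoint pz pw := by unfold Perm.Disjoint; decide
  rw [hd.cycleType_mul, hz.cycleType, hw.cycleType]
  rfl

/-- No element of order prime to six centralises `y`. -/
theorem eq_one_of_commute_y {x : A8} (hc : x * y = y * x) (ho : (orderOf x).Coprime 6) : x = 1 := by
  have hm : (x : Perm (Fin 8)) ∈
      Subgroup.centralizer ({pz * pw} : Set (Perm (Fin 8))) :=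
    Subgroup.mem_centralizer_singleton_iff.2 (congrArg Subtype.val hc)
  have hd : orderOf (x : Perm (Fin 8)) ∣
      Nat.card (Subgroup.centralizer ({pz * pw} : Set (Perm (Fin 8)))) :=
    Subgroup.orderOf_dvd_natCard _ hm
  rw [Perm.nat_card_centralizer, cycleType_py] at hd
  simp [Multiset.toFinset_replicate, Multiset.count_replicate, Nat.factorial] at hd
  have h1 : orderOf x ∣ 6 * 6 := hd
  exact orderOf_eq_one_iff.1
    (Nat.eq_one_of_dvd_coprimes (Nat.Coprime.pow_right 2 ho) dvd_rfl
      (by rw [pow_two]; exact h1))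

theorem five_key : ∀ b : Perm (Fin 5), b ^ 5 = 1 →
    (b * ((swap 2 3 * swap 3 4) * b * (swap 2 3 * swap 3 4)⁻¹) ^ 2) ^ 5 = 1 → b = 1 := by
  decide +kernel

theorem emb35_pw : emb35 (1, swap 2 3 * swap 3 4) = pw := by decide

theorem pz_moved : ∀ i : Fin 8, pz i ≠ i ↔ (i : ℕ) < 3 := by decide

/-- An element commuting with `(0 1 2)` respects the blocks. -/
theorem exists_emb35 {x : Perm (Fin 8)} (h : x * pz = pz * x) : ∃ a, emb35 a = x := by
  set E := finSumFinEquiv (m := 3) (n := 5) with hE
  have hmoved : ∀ i : Fin 8, (i : ℕ) < 3 → (x i : ℕ) < 3 := fun i hi => by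
    refine (pz_moved _).1 fun he => (pz_moved i).2 hi ?_
    have h2 : x (pz i) = pz (x i) := DFunLike.congr_fun h i
    rw [he] at h2
    exact x.injective h2
  obtain ⟨ab, hab⟩ := Equiv.Perm.mem_sumCongrHom_range_of_perm_mapsTo_inl
    (σ := E.symm.permCongr x) (by
      rintro _ ⟨i, rfl⟩
      have h3 : ((x (E (Sum.inl i))) : ℕ) < 3 := hmoved _ i.isLt
      refine ⟨⟨_, h3⟩, ?_⟩
      simp only [Equiv.permCongr_apply, Equiv.symm_symm]
      rw [Equiv.eq_symm_apply]
      exact Fin.ext rfl)
  refine ⟨ab, ?_⟩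
  apply Equiv.ext
  intro i
  simp [emb35, hE, Equiv.permCongrHom, hab]

/-- Five-elements centralising `z` do not form a `w`-invariant subgroup. -/
theorem eq_one_of_commute_z {x : A8} (hz : x * z = z * x) (ho : (orderOf x).Coprime 6)
    (ho' : (orderOf (x * (w * x * w⁻¹) ^ 2)).Coprime 6) : x = 1 := by
  obtain ⟨⟨a, b⟩, hab⟩ := exists_emb35 (congrArg Subtype.val hz)
  have key : ∀ {a : Perm (Fin 3)} {b : Perm (Fin 5)},
      (orderOf (emb35 (a, b))).Coprime 6 → a = 1 ∧ b ^ 5 = 1 := by
    intro a b h
    rw [orderOf_injective _ emb35_injective, Prod.orderOf] at h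
    constructor
    · refine orderOf_eq_one_iff.1 (Nat.eq_one_of_dvd_coprimes
        (h.coprime_dvd_left (Nat.dvd_lcm_left _ _)) dvd_rfl ?_)
      have := orderOf_dvd_card (x := a)
      simpa [Fintype.card_perm, Nat.factorial] using this
    · have h1 : orderOf b ∣ 24 * 5 := by
        have := orderOf_dvd_card (x := b)
        simpa [Fintype.card_perm, Nat.factorial] using this
      have h2 : (orderOf b).Coprime 24 :=
        Nat.Coprime.coprime_dvd_right (by norm_num : 24 ∣ 6 ^ 3)
          ((h.coprime_dvd_left (Nat.dvd_lcm_right _ _)).pow_right 3)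
      exact orderOf_dvd_iff_pow_eq_one.1 (h2.dvd_of_dvd_mul_left h1)
  obtain ⟨rfl, hb⟩ := key (by rw [hab]; simpa using ho)
  have hx2 : ((x * (w * x * w⁻¹) ^ 2 : A8) : Perm (Fin 8)) = emb35 (1,
      b * ((swap 2 3 * swap 3 4) * b * (swap 2 3 * swap 3 4)⁻¹) ^ 2) := by
    show (x : Perm (Fin 8)) * (pw * x * pw⁻¹) ^ 2 = _
    rw [← hab, ← emb35_pw, ← map_inv, ← map_mul, ← map_mul, ← map_pow, ← map_mul]
    simp
  rw [← Subgroup.orderOf_coe, hx2] at ho'
  have hb1 : b = 1 := five_key b hb (key ho').2
  apply Subtype.ext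
  rw [← hab, hb1]
  exact map_one _

theorem n_mul_z : n * z * n⁻¹ = w := by decide
theorem n_mul_w : n * w * n⁻¹ = z := by decide

/-- The same for `w`. -/
theorem eq_one_of_commute_w {x : A8} (hw : x * w = w * x) (ho : (orderOf x).Coprime 6)
    (ho' : (orderOf (x * (z * x * z⁻¹) ^ 2)).Coprime 6) : x = 1 := by
  have h1 : MulAut.conj n x = 1 := by
    refine eq_one_of_commute_z ?_ ?_ ?_
    · have := congrArg (MulAut.conj n) hw
      rwa [map_mul, map_mul, show MulAut.conj n w = z by rw [MulAut.conj_apply, n_mul_w]] at this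
    · rwa [MulEquiv.orderOf_eq]
    · rw [show w = MulAut.conj n z by rw [MulAut.conj_apply, n_mul_z], ← map_inv, ← map_mul,
        ← map_mul, ← map_pow, ← map_mul, MulEquiv.orderOf_eq]
      exact ho'
  exact (MulEquiv.map_eq_one_iff _).1 h1

end CfsgLib.AltEightThree
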