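import Cfsg.Agent.Lib.AltEightThree.Emb
import Cfsg.Agent.Lib.AltEightThree.Invols
import Cfsg.Agent.Lib.SEmb.Counting
import Cfsg.Agent.Lib.Signalizer.Basic
import Cfsg.Agent.S0205
import Cfsg.Agent.S0217
import Cfsg.Agent.S0223

/-!
The signalizer functor on a sixteen-subgroup has trivial values, so the embedded alternating group
contains the centralisers of its involutions and is the whole group.
-/

set_option autoImplicit false

namespace CfsgLib.AltEightThree

open Equiv Equiv.Perm Subgroup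

variable {G : Type*} [Group G]

/-- The normal four-subgroup of the permutations of four points. -/
def V4 : Subgroup (Perm (Fin 4)) where
  carrier := {g | g ^ 2 = 1 ∧ Perm.sign g = 1}
  mul_mem' := fun {a b} ha hb => (by decide +kernel : ∀ a b : Perm (Fin 4),
    (a ^ 2 = 1 ∧ Perm.sign a = 1) → (b ^ 2 = 1 ∧ Perm.sign b = 1) →
      ((a * b) ^ 2 = 1 ∧ Perm.sign (a * b) = 1)) a b ha hb
  one_mem' := ⟨one_pow 2, map_one _⟩
  inv_mem' := fun {a} ha => ⟨by rw [inv_pow, ha.1, inv_one], by rw [map_inv, ha.2, inv_one]⟩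

theorem mem_V4 {g : Perm (Fin 4)} : g ∈ V4 ↔ g ^ 2 = 1 ∧ Perm.sign g = 1 := Iff.rfl

theorem V4_comm (a b : ↥V4) : a * b = b * a :=
  Subtype.ext ((by decide +kernel : ∀ a b : Perm (Fin 4),
    (a ^ 2 = 1 ∧ Perm.sign a = 1) → (b ^ 2 = 1 ∧ Perm.sign b = 1) → a * b = b * a) a b a.2 b.2)

theorem card_V4 : Nat.card ↥V4 = 4 := by
  have h : Nat.card {g : Perm (Fin 4) // g ^ 2 = 1 ∧ Perm.sign g = 1} = 4 := by
    rw [Nat.card_eq_fintype_card]
    decide +kernel
  exact h

/-- The sixteen-subgroup, inside the model group. -/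
def psi : ↥V4 × ↥V4 →* A8 :=
  ((emb44.comp (V4.subtype.prodMap V4.subtype))).codRestrict A8 fun a => mem_A8.2 (by
    rw [MonoidHom.comp_apply, sign_emb44]
    simp [a.1.2.2, a.2.2.2])

theorem psi_injective : Function.Injective psi := fun a b h => by
  have h1 : emb44 ((a.1 : Perm (Fin 4)), (a.2 : Perm (Fin 4))) =
      emb44 ((b.1 : Perm (Fin 4)), (b.2 : Perm (Fin 4))) := congrArg Subtype.val h
  have h2 := emb44_injective h1
  rw [Prod.mk.injEq] at h2
  exact Prod.ext (Subtype.ext h2.1) (Subtype.ext h2.2)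

/-- The image of the sixteen-subgroup. -/
def Emb.E (e : Emb G) : Subgroup G := (e.φ.comp psi).range

variable (e : Emb G)

theorem Emb.E_le : e.E ≤ e.φ.range := by
  rintro _ ⟨a, rfl⟩
  exact ⟨psi a, rfl⟩

theorem Emb.E_comm : ∀ a ∈ e.E, ∀ b ∈ e.E, a * b = b * a := by
  rintro _ ⟨a, rfl⟩ _ ⟨b, rfl⟩
  rw [← map_mul, ← map_mul]
  exact congrArg _ (Prod.ext (V4_comm _ _) (V4_comm _ _))

theorem Emb.E_sq : ∀ a ∈ e.E, a ^ 2 = 1 := by
  rintro _ ⟨a, rfl⟩
  rw [← map_pow, show a ^ 2 = 1 from Prod.ext (Subtype.ext a.1.2.1) (Subtype.ext a.2.2.1), map_one]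

theorem Emb.E_card : Nat.card e.E = 16 := by
  show Nat.card (e.φ.comp psi).range = 16
  rw [← Nat.card_congr (MonoidHom.ofInjective (f := e.φ.comp psi)
    (e.inj.comp psi_injective)).toEquiv, Nat.card_prod, card_V4]

theorem Emb.mem_E {x : A8} (a b : Perm (Fin 4)) (ha : a ∈ V4) (hb : b ∈ V4)
    (h : emb44 (a, b) = x) : e.φ x ∈ e.E :=
  ⟨(⟨a, ha⟩, ⟨b, hb⟩), congrArg e.φ (Subtype.ext h)⟩

theorem Emb.t_mem_E : e.φ t ∈ e.E :=
  e.mem_E 1 (swap 0 1 * swap 2 3) (by rw [mem_V4]; decide) (by rw [mem_V4]; decide) (by decide)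

theorem Emb.s_mem_E : e.φ s ∈ e.E :=
  e.mem_E 1 (swap 0 2 * swap 1 3) (by rw [mem_V4]; decide) (by rw [mem_V4]; decide) (by decide)

theorem Emb.u_mem_E : e.φ u ∈ e.E :=
  e.mem_E (swap 0 1 * swap 2 3) 1 (by rw [mem_V4]; decide) (by rw [mem_V4]; decide) (by decide)

/-- A permutation of each block normalises the sixteen-subgroup. -/
theorem Emb.conj_mem_E {x : A8} {a b : Perm (Fin 4)} (h : emb44 (a, b) = x) {g : G}
    (hg : g ∈ e.E) : e.φ x * g * (e.φ x)⁻¹ ∈ e.E := by
  obtain ⟨⟨⟨c, hc⟩, ⟨d, hd⟩⟩, rfl⟩ := hg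
  rw [MonoidHom.comp_apply, ← map_inv, ← map_mul, ← map_mul]
  refine e.mem_E (a * c * a⁻¹) (b * d * b⁻¹) ?_ ?_ ?_
  · exact ⟨by rw [conj_pow, hc.1, mul_one, mul_inv_cancel], by simp [hc.2]⟩
  · exact ⟨by rw [conj_pow, hd.1, mul_one, mul_inv_cancel], by simp [hd.2]⟩
  · show _ = (x : Perm (Fin 8)) * emb44 (c, d) * (x : Perm (Fin 8))⁻¹
    rw [← h, ← map_inv, ← map_mul, ← map_mul]
    rfl

/-- `Split` is invariant under conjugation by the embedded group. -/
theorem Emb.Split.conj {a : G} (h : e.Split a) {g : G} (hg : g ∈ e.φ.range) :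
    e.Split (g * a * g⁻¹) := by
  obtain ⟨K, hK, hcop, hall, hcov⟩ := h
  let f := (MulAut.conj g).toMonoidHom
  have hC : Subgroup.centralizer ({g * a * g⁻¹} : Set G) =
      (Subgroup.centralizer ({a} : Set G)).map f := by
    ext x
    rw [Subgroup.mem_map_equiv, Subgroup.mem_centralizer_singleton_iff,
      Subgroup.mem_centralizer_singleton_iff, MulAut.conj_symm_apply]
    constructor <;> intro hx
    · calc g⁻¹ * x * g * a = g⁻¹ * (x * (g * a * g⁻¹)) * g := by group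
        _ = g⁻¹ * (g * a * g⁻¹ * x) * g := by rw [hx]
        _ = a * (g⁻¹ * x * g) := by group
    · calc x * (g * a * g⁻¹) = g * (g⁻¹ * x * g * a) * g⁻¹ := by group
        _ = g * (a * (g⁻¹ * x * g)) * g⁻¹ := by rw [hx]
        _ = g * a * g⁻¹ * x := by group
  refine ⟨K.map f, hC ▸ map_mono hK, ?_, ?_, ?_⟩
  · rwa [Subgroup.card_map_of_injective (MulAut.conj g).injective]
  · intro x hx ho
    rw [hC, Subgroup.mem_map] at hx
    obtain ⟨y, hy, rfl⟩ := hx
    exact mem_map_of_mem _ (hall y hy (by rwa [orderOf_injective f (MulAut.conj g).injective] at ho))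
  · rw [hC]
    refine (map_mono hcov).trans ?_
    rw [Subgroup.map_sup]
    refine sup_le_sup_left ?_ _
    rintro _ ⟨y, hy, rfl⟩
    exact mul_mem (mul_mem hg hy) (inv_mem hg)

variable [Finite G]

theorem Emb.split_invol (ht : e.Split (e.φ t)) (hn : e.Split (e.φ n)) {x : A8}
    (hx : orderOf x = 2) : e.Split (e.φ x) := by
  rcases invol_conj hx with ⟨c, rfl⟩ | ⟨c, rfl⟩ <;>
    rw [map_mul, map_mul, map_inv]
  · exact ht.conj e ⟨c, rfl⟩
  · exact hn.conj e ⟨c, rfl⟩

/-- The functor. -/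
noncomputable def Emb.theta (a : G) : Subgroup G :=
  open scoped Classical in if h : e.Split a then h.choose else ⊥

theorem Emb.mem_theta {a : G} (h : e.Split a) {x : G} :
    x ∈ e.theta a ↔ x * a = a * x ∧ (orderOf x).Coprime 6 := by
  rw [Emb.theta, dif_pos h]
  obtain ⟨hK, hcop, hall, -⟩ := h.choose_spec
  exact ⟨fun hx => ⟨mem_centralizer_singleton_iff.1 (hK hx),
    hcop.coprime_dvd_left (orderOf_dvd_natCard _ hx)⟩,
    fun ⟨h1, h2⟩ => hall x (mem_centralizer_singleton_iff.2 h1) h2⟩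

theorem Emb.centralizer_le_of_theta {a : G} (h : e.Split a) (h1 : e.theta a = ⊥) :
    Subgroup.centralizer ({a} : Set G) ≤ e.φ.range := by
  rw [Emb.theta, dif_pos h] at h1
  have h2 := h.choose_spec.2.2.2
  rwa [h1, bot_sup_eq] at h2

theorem Emb.orderOf_map (x : A8) : orderOf (e.φ x) = orderOf x := orderOf_injective _ e.inj x

variable (ht : e.Split (e.φ t)) (hn : e.Split (e.φ n))

include ht hn in
theorem Emb.split_E {a : G} (ha : a ∈ e.E) (ha1 : a ≠ 1) : e.Split a := by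
  have h2 : a ^ 2 = 1 := e.E_sq a ha
  obtain ⟨x, rfl⟩ := e.E_le ha
  exact e.split_invol ht hn (by rw [← e.orderOf_map]; exact orderOf_eq_prime h2 ha1)

omit [Finite G] in
theorem Emb.centralizer_z_le : Subgroup.centralizer ({e.φ z} : Set G) ≤ e.φ.range := by
  rw [← centralizer_closure, ← zpowers_eq_closure]
  exact (Subgroup.centralizer_le_normalizer _).trans e.le_z

omit [Finite G] in
theorem Emb.centralizer_conj_le {a : G} (h : Subgroup.centralizer ({a} : Set G) ≤ e.φ.range)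
    {g : G} (hg : g ∈ e.φ.range) :
    Subgroup.centralizer ({g * a * g⁻¹} : Set G) ≤ e.φ.range := by
  intro x hx
  rw [mem_centralizer_singleton_iff] at hx
  have h1 : g⁻¹ * x * g ∈ e.φ.range := h (mem_centralizer_singleton_iff.2 (by
    calc g⁻¹ * x * g * a = g⁻¹ * (x * (g * a * g⁻¹)) * g := by group
      _ = g⁻¹ * (g * a * g⁻¹ * x) * g := by rw [hx]
      _ = a * (g⁻¹ * x * g) := by group))
  have h2 := mul_mem (mul_mem hg h1) (inv_mem hg)
  simpa [mul_assoc] using h2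

include ht hn in
/-- The completion of the functor: of order prime to six, normalised by the elements normalising the
sixteen-subgroup, containing all the values. -/
theorem Emb.exists_W : ∃ W : Subgroup G, (∀ x ∈ W, (orderOf x).Coprime 6) ∧ ¬ 3 ∣ Nat.card W ∧
    (∀ g : G, (∀ b ∈ e.E, g * b * g⁻¹ ∈ e.E) → g ∈ normalizer (W : Set G)) ∧
    ∀ a ∈ e.E, a ≠ 1 → e.theta a ≤ W := by
  have hs : ∀ {b : G}, b ∈ e.E → b ≠ 1 → e.Split b := fun hb hb1 => e.split_E ht hn hb hb1
  have hodd : ∀ {b : G}, b ∈ e.E → b ≠ 1 → (Nat.card (e.theta b)).Coprime 6 := fun {b} hb hb1 => by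
    rw [Emb.theta, dif_pos (hs hb hb1)]
    exact (hs hb hb1).choose_spec.2.1
  obtain ⟨hW2, hWC⟩ := Cfsg.Agent.S0217.result (p := 2) e.E e.E_comm e.E_sq
    (by rw [e.E_card]; norm_num) e.theta
    (fun b hb hb1 x hx => mem_centralizer_singleton_iff.2 ((e.mem_theta (hs hb hb1)).1 hx).1)
    (fun b hb hb1 h2 => by
      have := Nat.eq_one_of_dvd_coprimes (hodd hb hb1) h2 (by norm_num)
      omega)
    (fun b hb hb1 c hc x hx => by
      rw [e.mem_theta (hs hb hb1)] at hx ⊢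
      refine ⟨?_, ?_⟩
      · have hbc : c * b = b * c := e.E_comm c hc b hb
        exact Commute.mul_left (Commute.mul_left hbc hx.1) (Commute.inv_left hbc)
      · rw [show c * x * c⁻¹ = MulAut.conj c x from rfl, MulEquiv.orderOf_eq]
        exact hx.2)
    (fun b hb hb1 => Cfsg.Agent.S0205.result (Nat.coprime_two_right.1
      (Nat.Coprime.coprime_dvd_right (by norm_num) (hodd hb hb1))))
    (fun b hb hb1 c hc hc1 x hx => by
      rw [Subgroup.mem_inf, e.mem_theta (hs hb hb1), mem_centralizer_singleton_iff] at hx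
      exact (e.mem_theta (hs hc hc1)).2 ⟨hx.2, hx.1.2⟩)
  set W := ⨆ b : {b : G // b ∈ e.E ∧ b ≠ 1}, e.theta b with hW
  have hθW : ∀ a ∈ e.E, a ≠ 1 → e.theta a ≤ W := fun a ha ha1 =>
    le_iSup (fun c : {c : G // c ∈ e.E ∧ c ≠ 1} => e.theta c) ⟨a, ha, ha1⟩
  have hnorm : ∀ g : G, (∀ b ∈ e.E, g * b * g⁻¹ ∈ e.E) → g ∈ normalizer (W : Set G) := by
    intro g hg
    have hle : W.map (MulAut.conj g).toMonoidHom ≤ W := by
      rw [hW, Subgroup.map_iSup, ← hW]
      refine iSup_le fun b => ?_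
      have hb1 : g * b.1 * g⁻¹ ≠ 1 := fun h => b.2.2 (conj_eq_one_iff.1 h)
      refine le_trans ?_ (hθW _ (hg _ b.2.1) hb1)
      rintro _ ⟨x, hx, rfl⟩
      have hx' := (e.mem_theta (hs b.2.1 b.2.2)).1 hx
      refine (e.mem_theta (hs (hg _ b.2.1) hb1)).2 ⟨?_, ?_⟩
      · simp only [MulEquiv.coe_toMonoidHom, MulAut.conj_apply]
        calc g * x * g⁻¹ * (g * b * g⁻¹) = g * (x * b) * g⁻¹ := by group
          _ = g * (b * x) * g⁻¹ := by rw [hx'.1]
          _ = _ := by group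
      · rw [MulEquiv.coe_toMonoidHom, MulEquiv.orderOf_eq]; exact hx'.2
    refine mem_normalizer_iff_map_conj_eq.2 (Subgroup.eq_of_le_of_card_ge hle ?_)
    exact (Subgroup.card_map_of_injective (MulAut.conj g).injective).ge
  have hEW : e.E ≤ normalizer (W : Set G) := fun c hc => hnorm c fun b hb =>
    mul_mem (mul_mem hc hb) (inv_mem hc)
  have hA : Cfsg.IsElementaryAbelian 2 e.E :=
    ⟨⟨⟨fun a b => Subtype.ext (e.E_comm a a.2 b b.2)⟩⟩, fun b hb => e.E_sq b hb⟩
  have hW3 : ¬ 3 ∣ Nat.card W := by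
    intro h3
    haveI : Fact (Nat.Prime 3) := ⟨Nat.prime_three⟩
    have hcop : (Nat.card e.E).Coprime (Nat.card W) :=
      CfsgLib.Signalizer.elementary_coprime hA hW2
    obtain ⟨P, hP⟩ := CfsgLib.Solvable.exists_invariant_sylow hEW hcop
      (Or.inl (CfsgLib.Signalizer.elementary_isSolvable hA)) 3
    have hPW : (P : Subgroup W).map W.subtype ≤ W := map_subtype_le _
    have hbot : (P : Subgroup W).map W.subtype ≤ ⊥ :=
      CfsgLib.Signalizer.le_of_centralizers hA (by rw [e.E_card]; norm_num)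
        (fun h => hW2 (h.trans (Subgroup.card_dvd_of_le hPW))) hP fun d hd hd1 x hx => by
          obtain ⟨hxP, hxd⟩ := Subgroup.mem_inf.1 hx
          have hxθ : x ∈ e.theta d := by
            rw [← hWC d hd hd1]; exact ⟨hPW hxP, hxd⟩
          obtain ⟨k, hk⟩ := (P.isPGroup'.map W.subtype) ⟨x, hxP⟩
          have hk' : x ^ 3 ^ k = 1 := congrArg Subtype.val hk
          refine Subgroup.mem_bot.2 (orderOf_eq_one_iff.1 ?_)
          have h6 := ((e.mem_theta (hs hd hd1)).1 hxθ).2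
          have h8 : (orderOf x).Coprime (3 ^ k) :=
            (h6.coprime_dvd_right (by norm_num : 3 ∣ 6)).pow_right k
          exact Nat.eq_one_of_dvd_coprimes h8 dvd_rfl (orderOf_dvd_of_pow_eq_one hk')
    have hcard : Nat.card ((P : Subgroup W).map W.subtype) = 1 :=
      Subgroup.card_eq_one.2 (le_bot_iff.1 hbot)
    rw [Subgroup.card_map_of_injective W.subtype_injective] at hcard
    have := P.dvd_card_of_dvd_card h3
    rw [hcard] at this
    omega
  refine ⟨W, fun x hx => ?_, hW3, hnorm, hθW⟩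
  refine Nat.Coprime.coprime_dvd_left (orderOf_dvd_natCard _ hx) ?_
  exact (Nat.Coprime.mul_right ((Nat.prime_two.coprime_iff_not_dvd.2 hW2).symm)
    ((Nat.prime_three.coprime_iff_not_dvd.2 hW3).symm) : (Nat.card W).Coprime (2 * 3))

/-- The nine elements of the subgroup generated by the two three-cycles. -/
def nine (i j : Fin 3) : A8 := z ^ (i : ℕ) * w ^ (j : ℕ)

theorem nine_mul : ∀ i j k l : Fin 3, nine i j * nine k l = nine (i + k) (j + l) := by
  decide +kernel

theorem nine_inj : ∀ i j k l : Fin 3, nine i j = nine k l → i = k ∧ j = l := by decide +kernel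

theorem nine_pow_three : ∀ i j : Fin 3, nine i j ^ 3 = 1 := by decide +kernel

theorem nine_cases : ∀ i j : Fin 3, nine i j = 1 ∨ nine i j = z ∨ nine i j ^ 2 = z ∨
    nine i j = w ∨ nine i j ^ 2 = w ∨ nine i j = y ∨ nine i j ^ 2 = y ∨
    nine i j = z * w ^ 2 ∨ nine i j ^ 2 = z * w ^ 2 := by decide +kernel

theorem twist : ∃ c : A8, c * (z * w ^ 2) * c⁻¹ = y ^ 2 ∧ (y ^ 2) ^ 2 = y :=
  ⟨⟨swap 1 2 * swap 3 4, mem_A8.2 (by decide)⟩, by decide +kernel, by decide +kernel⟩

/-- The image of the nine elements. -/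
def Emb.D (e : Emb G) : Subgroup G where
  carrier := {g | ∃ i j, e.φ (nine i j) = g}
  mul_mem' := by
    rintro _ _ ⟨i, j, rfl⟩ ⟨k, l, rfl⟩
    exact ⟨i + k, j + l, by rw [← map_mul, nine_mul]⟩
  one_mem' := ⟨0, 0, by simp [nine]⟩
  inv_mem' := by
    rintro _ ⟨i, j, rfl⟩
    refine ⟨-i, -j, eq_inv_of_mul_eq_one_right ?_⟩
    rw [← map_mul, nine_mul, add_neg_cancel, add_neg_cancel]
    simp [nine]

theorem Emb.D_elementary : Cfsg.IsElementaryAbelian 3 e.D := by
  refine ⟨⟨⟨?_⟩⟩, ?_⟩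
  · rintro ⟨_, i, j, rfl⟩ ⟨_, k, l, rfl⟩
    exact Subtype.ext (by
      show e.φ (nine i j) * e.φ (nine k l) = e.φ (nine k l) * e.φ (nine i j)
      rw [← map_mul, ← map_mul, nine_mul, nine_mul, add_comm i, add_comm j])
  · rintro _ ⟨i, j, rfl⟩
    rw [← map_pow, nine_pow_three, map_one]

theorem Emb.D_card : 3 ^ 2 ≤ Nat.card e.D := by
  have hinj : Function.Injective fun p : Fin 3 × Fin 3 =>
      (⟨e.φ (nine p.1 p.2), p.1, p.2, rfl⟩ : e.D) := by
    intro p q h
    obtain ⟨h1, h2⟩ := nine_inj _ _ _ _ (e.inj (congrArg Subtype.val h))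
    exact Prod.ext h1 h2
  simpa using Nat.card_le_card_of_injective _ hinj

include ht hn in
theorem Emb.theta_eq_bot {a : G} (ha : a ∈ e.E) (ha1 : a ≠ 1) : e.theta a = ⊥ := by
  obtain ⟨W, hW6, hW3, hnorm, hθW⟩ := e.exists_W ht hn
  have hzn : e.φ z ∈ normalizer (W : Set G) := hnorm _ fun b hb =>
    e.conj_mem_E (a := swap 0 1 * swap 1 2) (b := 1) (by decide +kernel) hb
  have hwn : e.φ w ∈ normalizer (W : Set G) := hnorm _ fun b hb =>
    e.conj_mem_E (a := 1) (b := swap 1 2 * swap 2 3) (by decide +kernel) hb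
  have hfix : ∀ {b : A8}, Subgroup.centralizer ({e.φ b} : Set G) ≤ e.φ.range →
      ∀ {x : G}, x ∈ W → x ∈ Subgroup.centralizer ({e.φ b} : Set G) →
        ∃ x' : A8, e.φ x' = x ∧ x' * b = b * x' ∧ (orderOf x').Coprime 6 := by
    intro b hb x hxW hx
    obtain ⟨x', rfl⟩ := hb hx
    refine ⟨x', rfl, e.inj ?_, ?_⟩
    · rw [map_mul, map_mul]; exact mem_centralizer_singleton_iff.1 hx
    · rw [← e.orderOf_map]; exact hW6 _ hxW
  have hzc : Subgroup.centralizer ({e.φ z} : Set G) ≤ e.φ.range := e.centralizer_z_le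
  have hwc : Subgroup.centralizer ({e.φ w} : Set G) ≤ e.φ.range := by
    rw [← n_mul_z, map_mul, map_mul, map_inv]
    exact e.centralizer_conj_le hzc ⟨n, rfl⟩
  obtain ⟨c, hc1, hc2⟩ := twist
  have hsq : ∀ {x : G} {b : A8}, x ∈ Subgroup.centralizer ({e.φ b} : Set G) → ∀ k : ℕ,
      x ∈ Subgroup.centralizer ({e.φ (b ^ k)} : Set G) := by
    intro x b hb k
    rw [map_pow]
    exact mem_centralizer_singleton_iff.2
      ((show Commute x (e.φ b) from mem_centralizer_singleton_iff.1 hb).pow_right k)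
  have hy2 : Subgroup.centralizer ({e.φ (y ^ 2)} : Set G) ≤ e.φ.range := fun g hg => e.le_y (by
    have := hsq hg 2
    rwa [hc2] at this)
  have hy' : Subgroup.centralizer ({e.φ (z * w ^ 2)} : Set G) ≤ e.φ.range := by
    have hzw : z * w ^ 2 = c⁻¹ * y ^ 2 * c⁻¹⁻¹ := by rw [← hc1]; group
    rw [hzw, map_mul e.φ (c⁻¹ * y ^ 2), map_mul e.φ c⁻¹, map_inv e.φ c⁻¹]
    exact e.centralizer_conj_le hy2 ⟨c⁻¹, rfl⟩
  have hD : e.D ≤ normalizer (W : Set G) := by
    rintro _ ⟨i, j, rfl⟩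
    rw [nine, map_mul, map_pow, map_pow]
    exact mul_mem (pow_mem hzn _) (pow_mem hwn _)
  have hWbot : W ≤ ⊥ := by
    refine CfsgLib.Signalizer.le_of_centralizers e.D_elementary e.D_card hW3 hD
      fun d hd hd1 x hx => ?_
    obtain ⟨i, j, rfl⟩ := hd
    obtain ⟨hxW, hxC⟩ := Subgroup.mem_inf.1 hx
    rw [Subgroup.mem_bot]
    have hsq2 : x ∈ Subgroup.centralizer ({e.φ (nine i j ^ 2)} : Set G) := hsq hxC 2
    have hline : x ∈ Subgroup.centralizer ({e.φ z} : Set G) ∨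
        x ∈ Subgroup.centralizer ({e.φ w} : Set G) ∨
        x ∈ Subgroup.centralizer ({e.φ y} : Set G) ∨
        x ∈ Subgroup.centralizer ({e.φ (z * w ^ 2)} : Set G) := by
      rcases nine_cases i j with h | h | h | h | h | h | h | h | h
      · exact absurd (by rw [h, map_one]) hd1
      · exact Or.inl (h ▸ hxC)
      · exact Or.inl (h ▸ hsq2)
      · exact Or.inr (Or.inl (h ▸ hxC))
      · exact Or.inr (Or.inl (h ▸ hsq2))
      · exact Or.inr (Or.inr (Or.inl (h ▸ hxC)))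
      · exact Or.inr (Or.inr (Or.inl (h ▸ hsq2)))
      · exact Or.inr (Or.inr (Or.inr (h ▸ hxC)))
      · exact Or.inr (Or.inr (Or.inr (h ▸ hsq2)))
    have hword : ∀ {c : A8}, e.φ c ∈ normalizer (W : Set G) → ∀ {x' : A8}, e.φ x' = x →
        (orderOf (x' * (c * x' * c⁻¹) ^ 2)).Coprime 6 := by
      intro c hc x' hx'
      rw [← e.orderOf_map]
      refine hW6 _ ?_
      rw [map_mul, map_pow, map_mul, map_mul, map_inv, hx']
      exact mul_mem hxW (pow_mem ((mem_normalizer_iff.1 hc x).1 hxW) 2)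
    rcases hline with h | h | h | h
    · obtain ⟨x', hx', hc, ho⟩ := hfix hzc hxW h
      rw [← hx', eq_one_of_commute_z hc ho (hword hwn hx'), map_one]
    · obtain ⟨x', hx', hc, ho⟩ := hfix hwc hxW h
      rw [← hx', eq_one_of_commute_w hc ho (hword hzn hx'), map_one]
    · obtain ⟨x', hx', hc, ho⟩ := hfix e.le_y hxW h
      rw [← hx', eq_one_of_commute_y hc ho, map_one]
    · obtain ⟨x', hx', hxc, ho⟩ := hfix hy' hxW h
      have h1 : c * x' * c⁻¹ = 1 := by
        refine eq_one_of_commute_y ?_ ?_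
        · have h3 : Commute (c * x' * c⁻¹) (y ^ 2) := by
            rw [← hc1]
            exact (show Commute x' (z * w ^ 2) from hxc).map (MulAut.conj c).toMonoidHom
          have h4 := h3.pow_right 2
          rwa [hc2] at h4
        · rwa [show c * x' * c⁻¹ = MulAut.conj c x' from rfl, MulEquiv.orderOf_eq]
      rw [← hx', conj_eq_one_iff.1 h1, map_one]
  exact le_bot_iff.1 ((hθW a ha ha1).trans hWbot)

include ht hn in
theorem Emb.centralizer_invol_le {x : A8} (hx : orderOf x = 2) :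
    Subgroup.centralizer ({e.φ x} : Set G) ≤ e.φ.range := by
  have key : ∀ {a : G}, a ∈ e.E → a ≠ 1 → Subgroup.centralizer ({a} : Set G) ≤ e.φ.range :=
    fun ha ha1 => e.centralizer_le_of_theta (e.split_E ht hn ha ha1) (e.theta_eq_bot ht hn ha ha1)
  have hne : ∀ {b : A8}, b ≠ 1 → e.φ b ≠ 1 := fun hb h => hb (e.inj (h.trans (map_one _).symm))
  rcases invol_conj hx with ⟨c, rfl⟩ | ⟨c, rfl⟩ <;> rw [map_mul, map_mul, map_inv]
  · exact e.centralizer_conj_le (key e.t_mem_E (hne (by decide))) ⟨c, rfl⟩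
  · obtain ⟨b, hb⟩ : ∃ b : A8, b * (u * t) * b⁻¹ = n :=
      ⟨⟨swap 1 2 * swap 2 4 * swap 4 6 * swap 6 3 * swap 3 7 * swap 7 5,
        mem_A8.2 (by decide)⟩⁻¹, by decide⟩
    have hut : Subgroup.centralizer ({e.φ n} : Set G) ≤ e.φ.range := by
      rw [← hb, map_mul e.φ (b * (u * t)), map_mul e.φ b, map_inv]
      refine e.centralizer_conj_le (key ?_ (hne (by decide))) ⟨b, rfl⟩
      rw [map_mul]
      exact mul_mem e.u_mem_E e.t_mem_E
    exact e.centralizer_conj_le hut ⟨c, rfl⟩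

include ht hn in
/-- The embedded group is the whole group. -/
theorem Emb.surjective : Function.Surjective e.φ := by
  rw [← MonoidHom.range_eq_top]
  by_contra htop
  have hinv : ∀ a ∈ e.φ.range, orderOf a = 2 → Subgroup.centralizer ({a} : Set G) ≤ e.φ.range := by
    rintro _ ⟨x, rfl⟩ hx
    exact e.centralizer_invol_le ht hn (by rwa [e.orderOf_map] at hx)
  have hto : orderOf (e.φ t) = 2 := by
    rw [e.orderOf_map]; exact orderOf_eq_prime (by decide) (by decide)
  have hno : orderOf (e.φ n) = 2 := by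
    rw [e.orderOf_map]; exact orderOf_eq_prime (by decide) (by decide)
  have hcardC : ∀ {x : A8}, orderOf x = 2 → Nat.card (Subgroup.centralizer ({e.φ x} : Set G)) =
      Nat.card (Subgroup.centralizer ({x} : Set A8)) := by
    intro x hx
    rw [← Subgroup.card_map_of_injective e.inj]
    congr 1
    suffices h : Subgroup.centralizer ({e.φ x} : Set G) =
        (Subgroup.centralizer ({x} : Set A8)).map e.φ by rw [h]
    apply le_antisymm
    · intro g hg
      obtain ⟨y, rfl⟩ := e.centralizer_invol_le ht hn hx hg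
      refine mem_map_of_mem _ (mem_centralizer_singleton_iff.2 (e.inj ?_))
      rw [map_mul, map_mul]
      exact mem_centralizer_singleton_iff.1 hg
    · rintro _ ⟨y, hy, rfl⟩
      rw [mem_centralizer_singleton_iff, ← map_mul, ← map_mul,
        mem_centralizer_singleton_iff.1 hy]
  have htn : ¬ IsConj (e.φ t) (e.φ n) := by
    intro h
    obtain ⟨g, hg⟩ := isConj_iff.1 h
    refine card_centralizer_t_lt_n ?_
    rw [← hcardC (by rw [← e.orderOf_map]; exact hto),
      ← hcardC (by rw [← e.orderOf_map]; exact hno), ← hg,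
      ← Subgroup.card_map_of_injective (f := (MulAut.conj g).toMonoidHom) (MulAut.conj g).injective]
    congr 1
    suffices h2 : (Subgroup.centralizer ({e.φ t} : Set G)).map (MulAut.conj g).toMonoidHom =
        Subgroup.centralizer ({g * e.φ t * g⁻¹} : Set G) by rw [h2]
    ext x
    rw [Subgroup.mem_map_equiv, mem_centralizer_singleton_iff, mem_centralizer_singleton_iff,
      MulAut.conj_symm_apply]
    constructor <;> intro hx
    · calc x * (g * e.φ t * g⁻¹) = g * (g⁻¹ * x * g * e.φ t) * g⁻¹ := by group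
        _ = g * (e.φ t * (g⁻¹ * x * g)) * g⁻¹ := by rw [hx]
        _ = _ := by group
    · calc g⁻¹ * x * g * e.φ t = g⁻¹ * (x * (g * e.φ t * g⁻¹)) * g := by group
        _ = g⁻¹ * (g * e.φ t * g⁻¹ * x) * g := by rw [hx]
        _ = _ := by group
  have hcls : ∀ a ∈ e.φ.range, orderOf a = 2 →
      (∃ c ∈ e.φ.range, c * e.φ t * c⁻¹ = a) ∨ ∃ c ∈ e.φ.range, c * e.φ n * c⁻¹ = a := by
    rintro _ ⟨x, rfl⟩ hx
    rcases invol_conj (x := x) (by rwa [e.orderOf_map] at hx) with ⟨c, rfl⟩ | ⟨c, rfl⟩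
    · exact Or.inl ⟨e.φ c, ⟨c, rfl⟩, by simp⟩
    · exact Or.inr ⟨e.φ c, ⟨c, rfl⟩, by simp⟩
  have hfus : ∀ a ∈ e.φ.range, ∀ b ∈ e.φ.range, orderOf a = 2 → orderOf b = 2 → IsConj a b →
      ∃ h ∈ e.φ.range, h * a * h⁻¹ = b := by
    intro a ha b hb hao hbo hab
    have step : ∀ {r : G} {c d : G}, c ∈ e.φ.range → d ∈ e.φ.range → c * r * c⁻¹ = a →
        d * r * d⁻¹ = b → ∃ h ∈ e.φ.range, h * a * h⁻¹ = b := fun {r c d} hc hd h1 h2 =>
      ⟨d * c⁻¹, mul_mem hd (inv_mem hc), by rw [← h1, ← h2]; group⟩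
    rcases hcls a ha hao with ⟨c, hc, h1⟩ | ⟨c, hc, h1⟩ <;>
      rcases hcls b hb hbo with ⟨d, hd, h2⟩ | ⟨d, hd, h2⟩
    · exact step hc hd h1 h2
    · exact absurd (((isConj_iff.2 ⟨c, h1⟩).trans hab).trans (isConj_iff.2 ⟨d, h2⟩).symm) htn
    · exact absurd (((isConj_iff.2 ⟨d, h2⟩).trans hab.symm).trans (isConj_iff.2 ⟨c, h1⟩).symm) htn
    · exact step hc hd h1 h2
  have heven : Even (Nat.card e.φ.range) := by
    rw [even_iff_two_dvd, ← hto]
    exact orderOf_dvd_natCard _ ⟨t, rfl⟩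
  have hse := (Cfsg.Agent.S0223.result e.φ.range htop heven).2 ⟨hinv, hfus⟩
  exact htn (CfsgLib.SEmb.isConj_invol hse hto hno)

end CfsgLib.AltEightThree
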