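import Cfsg.Agent.Lib.AltEightThree.Small

/-!
Model facts for the centraliser of the four-group `⟨tL, sL⟩` in the normalised three-local data.
-/

set_option autoImplicit false
set_option maxRecDepth 20000
set_option synthInstance.maxSize 2000
set_option synthInstance.maxHeartbeats 200000

namespace CfsgLib.AltEightThree

open Equiv Equiv.Perm

/-- `(3 5)(6 7)` in the second block. -/
def aL : L0 := ⟨(1, swap 0 2 * swap 3 4), mem_L0.2 (by decide)⟩
/-- `(3 6)(5 7)` in the second block. -/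
def bL : L0 := ⟨(1, swap 0 3 * swap 2 4), mem_L0.2 (by decide)⟩

namespace Four

/-- `(0 1)` and `(4 5)`. -/
def eL : L0 := ⟨(swap 0 1, swap 1 2), mem_L0.2 (by decide)⟩

/-- Equal to one of the four elements of the group generated by two commuting involutions. -/
def InV (t s x : Perm (Fin 5)) : Prop := x = 1 ∨ x = t ∨ x = s ∨ x = t * s

instance (t s : Perm (Fin 5)) : DecidablePred (InV t s) :=
  fun x => inferInstanceAs (Decidable (_ ∨ _))

theorem inV_of_comm : ∀ b : Perm (Fin 5), b * tL.1.2 = tL.1.2 * b → b * sL.1.2 = sL.1.2 * b →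
    InV tL.1.2 sL.1.2 b := by
  decide

theorem sign_inV : ∀ b : Perm (Fin 5), InV tL.1.2 sL.1.2 b → Perm.sign b = 1 := by decide

theorem pow_four_inV : ∀ b : Perm (Fin 5), InV tL.1.2 sL.1.2 b → b ^ 4 = 1 := by decide

theorem pow_four_of_comm_q : ∀ b : Perm (Fin 5), b * qL.1.2 = qL.1.2 * b → b ^ 4 = 1 := by decide

theorem fst_cases : ∀ a : Perm (Fin 3), Perm.sign a = 1 →
    a = 1 ∨ a = zL.1.1 ∨ a = zL.1.1⁻¹ := by
  decide

theorem sign_of_comm : ∀ a : Perm (Fin 3), a * zL.1.1 = zL.1.1 * a → Perm.sign a = 1 := by decide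

/-- A nontrivial element killed by three or centralised by the three-cycle of the second block. -/
def Bad (y : Perm (Fin 5)) : Prop := y ≠ 1 ∧ (y ^ 3 = 1 ∨ y * wL.1.2 = wL.1.2 * y)

instance : DecidablePred Bad := fun y => inferInstanceAs (Decidable (_ ∧ _))

/-- Conjugation by the three-cycle of the second block. -/
def rot (x : Perm (Fin 5)) : Perm (Fin 5) := wL.1.2 * x * wL.1.2⁻¹

theorem words : ∀ x : Perm (Fin 5), Perm.sign x = 1 → ¬ Bad (x * rot x) →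
    ¬ Bad (x * x * rot x) → ¬ Bad (x * rot x * x * rot (rot x)) →
    InV tL.1.2 sL.1.2 x ∨ InV aL.1.2 bL.1.2 x := by
  decide

theorem orbit_ts : ∀ x : Perm (Fin 5), InV tL.1.2 sL.1.2 x → x ≠ 1 →
    (tL.1.2 = x ∨ tL.1.2 = rot x ∨ tL.1.2 = rot (rot x)) ∧
      (sL.1.2 = x ∨ sL.1.2 = rot x ∨ sL.1.2 = rot (rot x)) := by
  decide

theorem orbit_ab : ∀ x : Perm (Fin 5), InV aL.1.2 bL.1.2 x → x ≠ 1 →
    (aL.1.2 = x ∨ aL.1.2 = rot x ∨ aL.1.2 = rot (rot x)) ∧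
      (bL.1.2 = x ∨ bL.1.2 = rot x ∨ bL.1.2 = rot (rot x)) := by
  decide

theorem two_of_three : ∀ x ∈ [tL, sL, tL * sL], ∀ y ∈ [tL, sL, tL * sL], x ≠ y →
    (tL = x ∨ tL = y ∨ tL = x * y) ∧ (sL = x ∨ sL = y ∨ sL = x * y) := by
  decide

theorem conj_facts : wL * tL * wL⁻¹ = sL ∧ wL * sL * wL⁻¹ = tL * sL ∧ fL * qL * fL⁻¹ = tL ∧
    fL * pL * fL⁻¹ = eL ∧ sL * eL * sL⁻¹ = tL * eL := by
  decide

theorem comm_facts : tL * sL = sL * tL ∧ tL * eL = eL * tL ∧ zL * wL = wL * zL ∧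
    zL * tL = tL * zL ∧ zL * sL = sL * zL ∧ zL * qL = qL * zL := by
  decide

theorem order_facts : zL ^ 3 = 1 ∧ wL ^ 3 = 1 ∧ zL ≠ 1 ∧ zL ≠ wL ∧ tL * tL = 1 ∧ tL ≠ 1 ∧
    sL * sL = 1 ∧ sL ≠ 1 ∧ sL ≠ tL ∧ qL * qL = 1 ∧ qL ≠ 1 := by
  decide

theorem Dm_comm_p_q : ∀ a : P35, InD a → a * pL.1 = pL.1 * a → a * qL.1 = qL.1 * a → a = 1 := by
  decide

theorem Dm_pow_three : ∀ a : P35, InD a → a ^ 3 = 1 := by
  decide

/-- The chosen subgroup of order eight. -/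
def T : Subgroup L0 :=
  Subgroup.centralizer {tL} ⊓ (Subgroup.centralizer {(swap 0 1 : Perm (Fin 3))}).comap
    ((MonoidHom.fst (Perm (Fin 3)) (Perm (Fin 5))).comp L0.subtype)

/-- Coordinates of the elements of `T`. -/
def InT (a : P35) : Prop :=
  a * tL.1 = tL.1 * a ∧ a.1 * swap 0 1 = swap 0 1 * a.1

instance : DecidablePred InT := fun a => inferInstanceAs (Decidable (_ ∧ _))

theorem mem_T {x : L0} : x ∈ T ↔ InT x.1 := by
  rw [T, Subgroup.mem_inf, Subgroup.mem_comap, Subgroup.mem_centralizer_singleton_iff,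
    Subgroup.mem_centralizer_singleton_iff, InT, Subtype.ext_iff]
  rfl

theorem T_facts : InT tL.1 ∧ InT sL.1 ∧ InT eL.1 := by decide

theorem card_T : Nat.card T = 8 := by
  let e : T ≃ {a : P35 // Ok a ∧ InT a} :=
    ⟨fun a => ⟨a.1.1, mem_L0.1 a.1.2, mem_T.1 a.2⟩,
      fun a => ⟨⟨a.1, mem_L0.2 a.2.1⟩, mem_T.2 a.2.2⟩, fun _ => rfl, fun _ => rfl⟩
  rw [Nat.card_congr e, Nat.card_eq_fintype_card, Fintype.card_subtype]
  decide

theorem T_center : ∀ a : P35, Ok a → InT a → a ≠ 1 → a * sL.1 = sL.1 * a →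
    a * eL.1 = eL.1 * a → a = tL.1 := by
  decide

theorem T_invol : ∀ a : P35, Ok a → InT a → a * a = 1 → a ≠ 1 → a ≠ tL.1 →
    a = sL.1 ∨ a = tL.1 * sL.1 ∨ a = eL.1 ∨ a = tL.1 * eL.1 := by
  decide

end Four

end CfsgLib.AltEightThree
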