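import Cfsg.Agent.Lib.AltEightThree.Data
import Cfsg.Agent.Lib.AltEightThree.FourModel
import Cfsg.Agent.Lib.AltEightThree.CentT
import Cfsg.Agent.Lib.Solvable.CoprimeGeneration
import Mathlib.GroupTheory.Transfer

/-!
The centraliser of a four-group of the second block in the normalised three-local data: it lies
in the join of the two three-local images, and the second image contributes a four-group.
-/

set_option autoImplicit false
set_option linter.style.haveILetI false
set_option maxHeartbeats 1000000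

namespace CfsgLib.AltEightThree

open Subgroup Equiv Four

variable {G : Type*} [Group G] (d : Data G)

namespace Data

/-- An element fixing or inverting `ι zL` lies in the image. -/
theorem mem_range_of_z [Finite G] {g : G}
    (h : g * d.ι zL * g⁻¹ = d.ι zL ∨ g * d.ι zL * g⁻¹ = (d.ι zL)⁻¹) : g ∈ d.ι.range := by
  rw [d.range_eq]
  exact CentT.mem_normalizer_zpowers h

theorem exists_of_comm_z [Finite G] {g : G} (h : Commute g (d.ι zL)) :
    ∃ x : L0, d.ι x = g ∧ x * zL = zL * x := by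
  obtain ⟨x, hx⟩ := MonoidHom.mem_range.mp
    (d.mem_range_of_z (Or.inl (by rw [h.eq, mul_inv_cancel_right])))
  exact ⟨x, hx, d.inj (by rw [map_mul, map_mul, hx]; exact h.eq)⟩

theorem ψ_apply (x : L0) : d.ψ x = d.n * d.ι x * d.n⁻¹ := rfl

theorem ψ_injective : Function.Injective d.ψ := fun _ _ h => d.inj (mul_left_cancel (mul_right_cancel h))

theorem ψ_zL : d.ψ zL = d.ι wL := d.n_z

theorem ψ_wL : d.ψ wL = d.ι zL := d.n_w

/-- The pairs `(3-power element with harmless second coordinate)` are powers of `zL`. -/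
theorem eq_zpow_of_three {x : L0} (hb : x.1.2 ^ 4 = 1) {k : ℕ} (hx : x ^ 3 ^ k = 1) :
    x = 1 ∨ x = zL ∨ x = zL⁻¹ := by
  have hx' : x.1 ^ 3 ^ k = 1 := congrArg Subtype.val hx
  have hb1 : x.1.2 = 1 := by
    have h := pow_gcd_eq_one.mpr ⟨hb, (congrArg Prod.snd hx' : x.1.2 ^ 3 ^ k = 1)⟩
    rwa [show Nat.gcd 4 (3 ^ k) = 1 from Nat.Coprime.pow_right k (by norm_num), pow_one] at h
  have hs : Perm.sign x.1.1 = 1 := by
    have h := mem_L0.1 x.2
    rwa [Ok, hb1, map_one, mul_one] at h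
  rcases fst_cases _ hs with h | h | h
  · exact Or.inl (Subtype.ext (Prod.ext h hb1))
  · exact Or.inr (Or.inl (Subtype.ext (Prod.ext h hb1)))
  · refine Or.inr (Or.inr (Subtype.ext (Prod.ext h ?_)))
    rw [hb1]; rfl

variable [Finite G]

/-- A subgroup whose intersection with the image has Sylow three-subgroup `⟨ι zL⟩` has that same
Sylow three-subgroup. -/
theorem zpowers_sylow {S : Subgroup G} (hz : d.ι zL ∈ S)
    (hS : ∀ x : L0, d.ι x ∈ S → x.1.2 ^ 4 = 1) :
    ∃ P : Sylow 3 S, (P : Subgroup S) = zpowers ⟨d.ι zL, hz⟩ := by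
  obtain ⟨hz3, -, hz1, -⟩ := order_facts
  haveI : Fact (Nat.Prime 3) := ⟨Nat.prime_three⟩
  set a : S := ⟨d.ι zL, hz⟩ with ha
  have ha3 : a ^ 3 = 1 := Subtype.ext (by
    rw [SubmonoidClass.coe_pow, ha, ← map_pow, hz3, map_one]; rfl)
  have hp : IsPGroup 3 (zpowers a) := fun g => ⟨1, by
    obtain ⟨k, hk⟩ := mem_zpowers_iff.mp g.2
    refine Subtype.ext ?_
    rw [SubmonoidClass.coe_pow, ← hk, pow_one, ← zpow_natCast, ← zpow_mul, mul_comm, zpow_mul,
      zpow_natCast, ha3, one_zpow]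
    rfl⟩
  obtain ⟨P, hP⟩ := hp.exists_le_sylow
  refine ⟨P, by_contra fun hne => ?_⟩
  obtain ⟨g, hgP, hga, hgn⟩ := CentT.exists_normalizing hP P.2 (Ne.symm hne)
  have hga' : g * a * g⁻¹ = a ∨ g * a * g⁻¹ = a⁻¹ := by
    rcases CentT.eq_of_mem_zpowers ha3 (hgn a (mem_zpowers a)) with h | h | h
    · exact absurd (d.inj ((congrArg Subtype.val (conj_eq_one_iff.mp h)).trans (map_one _).symm)) hz1
    · exact Or.inl h
    · exact Or.inr h
  obtain ⟨x, hx⟩ := MonoidHom.mem_range.mp (d.mem_range_of_z (g := (g : G))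
    (hga'.imp (congrArg Subtype.val) (congrArg Subtype.val)))
  obtain ⟨k, hk⟩ := P.2 ⟨g, hgP⟩
  have hxk : x ^ 3 ^ k = 1 := d.inj (by
    rw [map_pow, hx, map_one]
    exact congrArg (fun y : (P : Subgroup S) => ((y : S) : G)) hk)
  refine hga ?_
  rcases eq_zpow_of_three (hS x (hx ▸ g.2)) hxk with rfl | rfl | rfl
  · rw [show g = 1 from Subtype.ext (hx.symm.trans (map_one _))]
    exact one_mem _
  · rw [show g = a from Subtype.ext hx.symm]
    exact mem_zpowers _
  · rw [show g = a⁻¹ from Subtype.ext (hx.symm.trans (map_inv _ _))]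
    exact inv_mem (mem_zpowers _)

theorem mem_cent_four {g : G} :
    g ∈ centralizer ({d.ι tL, d.ι sL} : Set G) ↔ Commute g (d.ι tL) ∧ Commute g (d.ι sL) := by
  rw [mem_centralizer_iff]
  exact ⟨fun h => ⟨(h _ (Or.inl rfl)).symm, (h _ (Or.inr rfl)).symm⟩,
    fun h x hx => by rcases hx with rfl | rfl; exacts [h.1.eq.symm, h.2.eq.symm]⟩

theorem inV_of_mem {x : L0} (hx : d.ι x ∈ centralizer ({d.ι tL, d.ι sL} : Set G)) :
    InV tL.1.2 sL.1.2 x.1.2 := by
  obtain ⟨ht, hs⟩ := d.mem_cent_four.mp hx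
  have ht' : x * tL = tL * x := d.inj (by rw [map_mul, map_mul]; exact ht.eq)
  have hs' : x * sL = sL * x := d.inj (by rw [map_mul, map_mul]; exact hs.eq)
  exact inV_of_comm _ (congrArg (fun y : L0 => y.1.2) ht') (congrArg (fun y : L0 => y.1.2) hs')

/-- Burnside: the centraliser of the four-group is a three-complement times `⟨ι zL⟩`. -/
theorem exists_complement : ∃ R : Subgroup G,
    R ≤ centralizer ({d.ι tL, d.ι sL} : Set G) ∧ ¬ 3 ∣ Nat.card R ∧
    d.ι zL ∈ normalizer (R : Set G) ∧ d.ι wL ∈ normalizer (R : Set G) ∧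
    centralizer ({d.ι tL, d.ι sL} : Set G) ≤ R ⊔ zpowers (d.ι zL) := by
  obtain ⟨-, -, -, hzt, hzs, -⟩ := comm_facts
  obtain ⟨hwt, hws, -, -, -⟩ := conj_facts
  obtain ⟨hz3, -, hz1, -⟩ := order_facts
  haveI : Fact (Nat.Prime 3) := ⟨Nat.prime_three⟩
  set C := centralizer ({d.ι tL, d.ι sL} : Set G) with hC
  have hz : d.ι zL ∈ C := d.mem_cent_four.mpr
    ⟨Commute.map hzt d.ι, Commute.map hzs d.ι⟩
  obtain ⟨P, hP⟩ := d.zpowers_sylow hz fun x hx => pow_four_inV _ (d.inV_of_mem hx)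
  set a : C := ⟨d.ι zL, hz⟩ with ha
  have ha3 : a ^ 3 = 1 := Subtype.ext (by
    rw [SubmonoidClass.coe_pow, ha, ← map_pow, hz3, map_one]; rfl)
  have hN : normalizer (P : Subgroup C) ≤ centralizer ((P : Subgroup C) : Set C) := by
    intro g hg
    have h := (mem_normalizer_iff.mp hg a).mp (by rw [hP]; exact mem_zpowers a)
    rw [hP] at h
    have hga : g * a * g⁻¹ = a ∨ g * a * g⁻¹ = a⁻¹ := by
      rcases CentT.eq_of_mem_zpowers ha3 h with h | h | h
      · exact absurd (d.inj ((congrArg Subtype.val (conj_eq_one_iff.mp h)).trans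
          (map_one _).symm)) hz1
      · exact Or.inl h
      · exact Or.inr h
    obtain ⟨x, hx⟩ := MonoidHom.mem_range.mp (d.mem_range_of_z (g := (g : G))
      (hga.imp (congrArg Subtype.val) (congrArg Subtype.val)))
    have hsb : Perm.sign x.1.2 = 1 := sign_inV _ (d.inV_of_mem (hx ▸ g.2))
    have hsa : Perm.sign x.1.1 = 1 := by
      have h := mem_L0.1 x.2
      rwa [Ok, hsb, mul_one] at h
    have hxz : x * zL = zL * x := by
      refine Subtype.ext (Prod.ext ?_ ?_)
      · show x.1.1 * zL.1.1 = zL.1.1 * x.1.1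
        rcases fst_cases _ hsa with h | h | h <;> rw [h] <;> group
      · show x.1.2 * 1 = 1 * x.1.2
        group
    have hcomm : Commute g a := Subtype.ext (by
      show (g : G) * d.ι zL = d.ι zL * g
      rw [← hx, ← map_mul, hxz, map_mul])
    rw [hP, mem_centralizer_iff]
    intro y hy
    obtain ⟨k, rfl⟩ := mem_zpowers_iff.mp hy
    exact (hcomm.zpow_right k).eq.symm
  set K := (MonoidHom.transferSylow P hN).ker with hK
  have hKn : K.Normal := MonoidHom.normal_ker _
  have hK3 : ¬ 3 ∣ Nat.card K := MonoidHom.not_dvd_card_ker_transferSylow P hN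
  have hKtop : K ⊔ zpowers a = ⊤ := by
    rw [← hP]; exact (MonoidHom.ker_transferSylow_isComplement' P hN).sup_eq_top
  -- the elements of order prime to three
  have hKmem : ∀ x : C, x ^ Nat.card K = 1 → x ∈ K := by
    intro x hx
    rw [hK, MonoidHom.mem_ker]
    refine orderOf_eq_one_iff.mp ?_
    have h1 : MonoidHom.transferSylow P hN x ^ Nat.card K = 1 := by rw [← map_pow, hx, map_one]
    have h2 : MonoidHom.transferSylow P hN x ^ 3 = 1 := by
      have hmem : ((MonoidHom.transferSylow P hN x : (P : Subgroup C)) : C) ∈ zpowers a := by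
        rw [← hP]; exact (MonoidHom.transferSylow P hN x).2
      obtain ⟨k, hk⟩ := mem_zpowers_iff.mp hmem
      refine Subtype.ext ?_
      rw [SubmonoidClass.coe_pow, ← hk, ← zpow_natCast, ← zpow_mul, mul_comm, zpow_mul,
        zpow_natCast, ha3, one_zpow]
      rfl
    exact Nat.eq_one_of_dvd_coprimes ((Nat.prime_three.coprime_iff_not_dvd).mpr hK3).symm
      (orderOf_dvd_of_pow_eq_one h1) (orderOf_dvd_of_pow_eq_one h2)
  refine ⟨K.map C.subtype, map_subtype_le _, ?_, ?_, ?_, ?_⟩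
  · rwa [card_map_of_injective C.subtype_injective]
  · rw [mem_normalizer_iff_map_conj_eq]
    refine eq_of_le_of_card_ge ?_ (card_map_of_injective (MulAut.conj (d.ι zL)).injective).ge
    rintro _ ⟨_, ⟨x, hx, rfl⟩, rfl⟩
    exact ⟨a * x * a⁻¹, hKn.conj_mem x hx a, rfl⟩
  · rw [mem_normalizer_iff_map_conj_eq]
    refine eq_of_le_of_card_ge ?_ (card_map_of_injective (MulAut.conj (d.ι wL)).injective).ge
    rintro _ ⟨_, ⟨x, hx, rfl⟩, rfl⟩
    obtain ⟨hxt, hxs⟩ := d.mem_cent_four.mp x.2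
    have h1 : Commute (d.ι wL * x * (d.ι wL)⁻¹) (d.ι sL) := by
      rw [← hwt, map_mul, map_mul, map_inv]
      exact Commute.map hxt (MulAut.conj (d.ι wL))
    have h2 : Commute (d.ι wL * x * (d.ι wL)⁻¹) (d.ι (tL * sL)) := by
      rw [← hws, map_mul, map_mul, map_inv]
      exact Commute.map hxs (MulAut.conj (d.ι wL))
    have h3 : Commute (d.ι wL * x * (d.ι wL)⁻¹) (d.ι tL) := by
      have := h2.mul_right h1
      rwa [← map_mul, show tL * sL * sL = tL by rw [mul_assoc, order_facts.2.2.2.2.2.2.1, mul_one]]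
        at this
    refine ⟨⟨_, d.mem_cent_four.mpr ⟨h3, h1⟩⟩, hKmem _ (Subtype.ext ?_), rfl⟩
    rw [SubmonoidClass.coe_pow]
    show (d.ι wL * x * (d.ι wL)⁻¹) ^ Nat.card K = 1
    rw [conj_pow, ← SubmonoidClass.coe_pow,
      show x ^ Nat.card K = 1 from congrArg Subtype.val (pow_card_eq_one' (x := (⟨x, hx⟩ : K)))]
    simp
  · intro g hg
    have hg' : (⟨g, hg⟩ : C) ∈ K ⊔ zpowers a := hKtop ▸ mem_top _
    obtain ⟨y, hy, w, hw, hyw⟩ := (Subgroup.mem_sup_of_normal_left (hs := hKn)).mp hg'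
    have hgeq : (y : G) * w = g := congrArg Subtype.val hyw
    rw [← hgeq]
    obtain ⟨k, rfl⟩ := mem_zpowers_iff.mp hw
    refine mul_mem (mem_sup_left (mem_map_of_mem _ hy)) (mem_sup_right ?_)
    rw [SubgroupClass.coe_zpow]
    exact zpow_mem (mem_zpowers _) k

theorem mem_Dm_map_pow_three {g : G} (hg : g ∈ Dm.map d.ι) : g ^ 3 = 1 := by
  obtain ⟨a, ha, rfl⟩ := hg
  rw [← map_pow, show a ^ 3 = 1 from Subtype.ext (Dm_pow_three _ (mem_Dm.mp ha)), map_one]

/-- Either the second image contributes a four-group centralising `ι tL, ι sL`, or the centraliser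
lies in the first image; in all cases it lies in the join. -/
theorem cent_four_cases :
    centralizer ({d.ι tL, d.ι sL} : Set G) ≤ d.ι.range ⊔ d.ψ.range ∧
    ((∀ y, y = tL ∨ y = sL → d.ψ y ∈ centralizer ({d.ι tL, d.ι sL} : Set G)) ∨
      (∀ y, y = aL ∨ y = bL → d.ψ y ∈ centralizer ({d.ι tL, d.ι sL} : Set G)) ∨
      centralizer ({d.ι tL, d.ι sL} : Set G) ≤ d.ι.range) := by
  obtain ⟨-, -, hzw, -, -, -⟩ := comm_facts
  obtain ⟨hz3, hw3, -, -⟩ := order_facts
  haveI : Fact (Nat.Prime 3) := ⟨Nat.prime_three⟩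
  obtain ⟨R, hRC, hR3, hzR, hwR, hCR⟩ := d.exists_complement
  set C := centralizer ({d.ι tL, d.ι sL} : Set G) with hC
  have hR1 : ∀ x ∈ R, x ^ 3 = 1 → x = 1 := fun x hx h => orderOf_eq_one_iff.mp
    (Nat.eq_one_of_dvd_coprimes ((Nat.prime_three.coprime_iff_not_dvd).mpr hR3)
      (orderOf_dvd_of_pow_eq_one h) (Subgroup.orderOf_dvd_natCard R hx))
  have hzD : d.ι zL ∈ Dm.map d.ι := mem_map_of_mem _ zL_mem_Dm
  -- the elements centralised by both three-cycles
  have hboth : ∀ x ∈ R, Commute x (d.ι zL) → Commute x (d.ι wL) → x = 1 :=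
    fun x hx h h' => hR1 x hx (d.mem_Dm_map_pow_three (d.cent_D x h h'))
  -- elements centralising a fixed-point-free element of the Sylow subgroup
  have hskew : ∀ x ∈ R, x ∈ normalizer (Dm.map d.ι : Set G) → Commute x (d.ι zL) := by
    intro x hx hxN
    have h1 : x * d.ι zL * x⁻¹ * (d.ι zL)⁻¹ ∈ R := by
      rw [mul_assoc, mul_assoc, ← mul_assoc (d.ι zL)]
      exact mul_mem hx ((mem_normalizer_iff.mp hzR _).mp (inv_mem hx))
    have h2 : x * d.ι zL * x⁻¹ * (d.ι zL)⁻¹ ∈ Dm.map d.ι :=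
      mul_mem ((mem_normalizer_iff.mp hxN _).mp hzD) (inv_mem hzD)
    have h3 := hR1 _ h1 (d.mem_Dm_map_pow_three h2)
    rw [mul_inv_eq_one, mul_inv_eq_iff_eq_mul] at h3
    exact h3
  -- the part in the second image
  set X : Subgroup L0 := R.comap d.ψ ⊓ centralizer {zL} with hX
  have hXmem : ∀ {y : L0}, y ∈ X ↔ d.ψ y ∈ R ∧ y * zL = zL * y := fun {y} => by
    rw [hX, Subgroup.mem_inf, mem_comap, mem_centralizer_singleton_iff]
  have hfst : ∀ y ∈ X, y.1.1 = 1 := by
    intro y hy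
    obtain ⟨hyR, hyz⟩ := hXmem.mp hy
    have hsa := sign_of_comm _ (congrArg (fun c : L0 => c.1.1) hyz)
    have h3 : y.1.1 ^ 3 = 1 := by
      have e : zL.1.1 ^ 3 = 1 := congrArg (fun c : L0 => c.1.1) hz3
      rcases fst_cases _ hsa with h | h | h <;> rw [h]
      · exact one_pow 3
      · exact e
      · rw [inv_pow, e, inv_one]
    have hyc : y ^ Nat.card R = 1 := d.ψ_injective (by
      rw [map_pow, map_one]
      exact congrArg Subtype.val (pow_card_eq_one' (x := (⟨d.ψ y, hyR⟩ : R))))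
    have hc : y.1.1 ^ Nat.card R = 1 := congrArg (fun c : L0 => c.1.1) hyc
    exact orderOf_eq_one_iff.mp
      (Nat.eq_one_of_dvd_coprimes ((Nat.prime_three.coprime_iff_not_dvd).mpr hR3)
      (orderOf_dvd_of_pow_eq_one h3) (orderOf_dvd_of_pow_eq_one hc))
  have hrot : ∀ y ∈ X, wL * y * wL⁻¹ ∈ X := by
    intro y hy
    obtain ⟨hyR, hyz⟩ := hXmem.mp hy
    refine hXmem.mpr ⟨?_, ?_⟩
    · rw [map_mul, map_mul, map_inv, d.ψ_wL]
      exact (mem_normalizer_iff.mp hzR _).mp hyR
    · exact (((show Commute wL zL from hzw.symm).mul_left hyz).mul_left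
        (show Commute wL zL from hzw.symm).inv_left).eq
  have hbad : ∀ y ∈ X, ¬ Bad y.1.2 := by
    intro y hy ⟨hne, hy'⟩
    obtain ⟨hyR, hyz⟩ := hXmem.mp hy
    have hy1 := hfst y hy
    refine hne ?_
    suffices hsuff : y = 1 by rw [hsuff]; rfl
    refine d.ψ_injective ((?_ : d.ψ y = 1).trans (map_one _).symm)
    rcases hy' with h | h
    · refine hR1 _ hyR ?_
      rw [← map_pow, show y ^ 3 = 1 from Subtype.ext (Prod.ext (by
        show y.1.1 ^ 3 = 1
        rw [hy1, one_pow]) h), map_one]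
    · have hyw : y * wL = wL * y := Subtype.ext (Prod.ext (by
        show y.1.1 * 1 = 1 * y.1.1
        group) h)
      refine hboth _ hyR ?_ ?_
      · rw [← d.ψ_wL]; exact Commute.map hyw d.ψ
      · rw [← d.ψ_zL]; exact Commute.map hyz d.ψ
  -- lines
  have hlines : R ≤ (d.ι.range ⊓ R) ⊔ X.map d.ψ := by
    have hzp : (d.ι zL) ^ 3 = 1 := by rw [← map_pow, hz3, map_one]
    have hwp : (d.ι wL) ^ 3 = 1 := by rw [← map_pow, hw3, map_one]
    refine CfsgLib.Solvable.le_of_lines_centralizer_le (r := 3) (Commute.map hzw d.ι) hzR hwR hR3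
      (by rw [hzp]; exact one_mem _) (by rw [hwp]; exact one_mem _) (fun i => ?_) ?_
    · intro x hx
      obtain ⟨hxR, hxc⟩ := mem_inf.mp hx
      rw [mem_centralizer_singleton_iff, pow_eq_pow_mod i hwp] at hxc
      have hi : i % 3 = 0 ∨ i % 3 = 1 ∨ i % 3 = 2 := by omega
      rcases hi with h | h | h <;> rw [h] at hxc
      · rw [pow_zero, mul_one] at hxc
        obtain ⟨y, hy, -⟩ := d.exists_of_comm_z hxc
        exact mem_sup_left (mem_inf.mpr ⟨MonoidHom.mem_range.mpr ⟨y, hy⟩, hxR⟩)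
      · have hz := hskew x hxR (d.cent_y (mem_centralizer_singleton_iff.mpr (by
          rw [map_mul, ← pow_one (d.ι wL)]; exact hxc)))
        have hw' : Commute x (d.ι wL) := by
          have := hz.inv_right.mul_right (show Commute x (d.ι zL * d.ι wL ^ 1) from hxc)
          rwa [inv_mul_cancel_left, pow_one] at this
        exact (hboth x hxR hz hw').symm ▸ one_mem _
      · have hsq : d.ι wL ^ 2 = (d.ι wL)⁻¹ := by
          refine eq_inv_of_mul_eq_one_left ?_
          rw [← pow_succ]; exact hwp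
        rw [hsq] at hxc
        have hz := hskew x hxR (d.cent_y' (mem_centralizer_singleton_iff.mpr (by
          rw [map_mul, map_inv]; exact hxc)))
        have hw' : Commute x (d.ι wL) := by
          have := (hz.inv_right.mul_right (show Commute x (d.ι zL * (d.ι wL)⁻¹) from hxc)).inv_right
          rwa [inv_mul_cancel_left, inv_inv] at this
        exact (hboth x hxR hz hw').symm ▸ one_mem _
    · intro x hx
      obtain ⟨hxR, hxc⟩ := mem_inf.mp hx
      rw [mem_centralizer_singleton_iff] at hxc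
      have h1 : Commute (d.n⁻¹ * x * d.n) (d.ι zL) := by
        have h := Commute.map (show Commute x (d.ι wL) from hxc) (MulAut.conj d.n⁻¹)
        simp only [MulAut.conj_apply, inv_inv, ← d.n_z] at h
        simpa [mul_assoc] using h
      obtain ⟨y, hy, hyz⟩ := d.exists_of_comm_z h1
      have hyx : d.ψ y = x := by rw [ψ_apply, hy]; group
      exact mem_sup_right ⟨y, hXmem.mpr ⟨hyx ▸ hxR, hyz⟩, hyx⟩
  refine ⟨hCR.trans (sup_le (hlines.trans (sup_le (inf_le_left.trans le_sup_left)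
    ((map_le_range d.ψ X).trans le_sup_right))) (zpowers_le.mpr (mem_sup_left ⟨zL, rfl⟩))), ?_⟩
  by_cases hX1 : ∀ y ∈ X, y = 1
  · refine Or.inr (Or.inr (hCR.trans (sup_le (hlines.trans (sup_le inf_le_left ?_))
      (zpowers_le.mpr ⟨zL, rfl⟩))))
    rintro _ ⟨y, hy, rfl⟩
    rw [hX1 y hy, map_one]
    exact one_mem _
  push Not at hX1
  obtain ⟨y, hy, hy1⟩ := hX1
  have hy2 : y.1.2 ≠ 1 := fun h => hy1 (Subtype.ext (Prod.ext (hfst y hy) h))
  have hsgn : Perm.sign y.1.2 = 1 := by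
    have h := mem_L0.1 y.2
    rwa [Ok, hfst y hy, map_one, one_mul] at h
  have hr := hrot y hy
  have hrr := hrot _ hr
  have key := words y.1.2 hsgn (hbad _ (mul_mem hy hr)) (hbad _ (mul_mem (mul_mem hy hy) hr))
    (hbad _ (mul_mem (mul_mem (mul_mem hy hr) hy) hrr))
  -- lift a coordinate in the orbit
  have lift : ∀ c : L0, c.1.1 = 1 →
      (c.1.2 = y.1.2 ∨ c.1.2 = rot y.1.2 ∨ c.1.2 = rot (rot y.1.2)) → d.ψ c ∈ C := by
    intro c hc1 hc
    rcases hc with h | h | h
    · rw [show c = y from Subtype.ext (Prod.ext (hc1.trans (hfst y hy).symm) h)]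
      exact hRC (hXmem.mp hy).1
    · rw [show c = wL * y * wL⁻¹ from Subtype.ext (Prod.ext (hc1.trans (hfst _ hr).symm) h)]
      exact hRC (hXmem.mp hr).1
    · rw [show c = wL * (wL * y * wL⁻¹) * wL⁻¹ from
        Subtype.ext (Prod.ext (hc1.trans (hfst _ hrr).symm) h)]
      exact hRC (hXmem.mp hrr).1
  rcases key with hV | hV
  · obtain ⟨h1, h2⟩ := orbit_ts _ hV hy2
    exact Or.inl fun c hc => by rcases hc with rfl | rfl; exacts [lift _ rfl h1, lift _ rfl h2]
  · obtain ⟨h1, h2⟩ := orbit_ab _ hV hy2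
    exact Or.inr (Or.inl fun c hc => by
      rcases hc with rfl | rfl; exacts [lift _ rfl h1, lift _ rfl h2])

/-- The centraliser of the four-group lies in the join of the two images. -/
theorem cent_four_le :
    centralizer ({d.ι tL, d.ι sL} : Set G) ≤ d.ι.range ⊔ d.ψ.range :=
  d.cent_four_cases.1

/-! ### The contradictory case: the centraliser lies in the first image. -/

theorem n_facts : d.n * d.n = 1 ∧ d.n ≠ 1 ∧ Commute d.n (d.ι (zL * wL)) := by
  obtain ⟨-, -, hzw, -, -, -⟩ := comm_facts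
  obtain ⟨-, -, -, hne, -⟩ := order_facts
  refine ⟨?_, ?_, ?_⟩
  · have sq : ∀ {a b : G}, d.n * a * d.n⁻¹ = b → d.n * b * d.n⁻¹ = a →
        Commute (d.n * d.n) a := by
      intro a b h1 h2
      show d.n * d.n * a = a * (d.n * d.n)
      conv_rhs => rw [← h2, ← h1]
      group
    obtain ⟨y, hyD, hy⟩ := d.cent_D _ (sq d.n_z d.n_w) (sq d.n_w d.n_z)
    have hp : y * pL = pL * y := d.inj (by rw [map_mul, map_mul, hy]; exact (sq d.n_p d.n_q).eq)
    have hq : y * qL = qL * y := d.inj (by rw [map_mul, map_mul, hy]; exact (sq d.n_q d.n_p).eq)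
    rw [← hy, show y = 1 from Subtype.ext (Dm_comm_p_q _ (mem_Dm.mp hyD)
      (congrArg Subtype.val hp) (congrArg Subtype.val hq)), map_one]
  · intro h
    have := d.n_z
    rw [h, one_mul, inv_one, mul_one] at this
    exact hne (d.inj this)
  · show d.n * d.ι (zL * wL) = d.ι (zL * wL) * d.n
    rw [← mul_inv_eq_iff_eq_mul, map_mul, ← conj_mul, d.n_z, d.n_w, ← map_mul, ← map_mul, hzw]

theorem not_isConj_n : ¬ IsConj d.n (d.ι qL) := by
  obtain ⟨-, -, hn⟩ := d.n_facts
  obtain ⟨-, -, hzw, -, -, hzq⟩ := comm_facts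
  obtain ⟨hz3, hw3, hz1, -⟩ := order_facts
  haveI : Fact (Nat.Prime 3) := ⟨Nat.prime_three⟩
  intro hc
  obtain ⟨h, hh⟩ := isConj_iff.mp hc
  set S := centralizer ({d.ι qL} : Set G) with hS
  have hz : d.ι zL ∈ S := mem_centralizer_singleton_iff.mpr (by rw [← map_mul, hzq, map_mul])
  obtain ⟨P, hP⟩ := d.zpowers_sylow hz fun x hx => pow_four_of_comm_q _
    (congrArg (fun y : L0 => y.1.2)
      (d.inj (by rw [map_mul, map_mul]; exact mem_centralizer_singleton_iff.mp hx) :
        x * qL = qL * x))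
  let u : S := ⟨h * d.ι (zL * wL) * h⁻¹, mem_centralizer_singleton_iff.mpr (by
    rw [← hh, conj_mul, conj_mul, hn.eq])⟩
  have hzw3 : (zL * wL) ^ 3 = 1 := by
    rw [(show Commute zL wL from hzw).mul_pow, hz3, hw3, one_mul]
  have hu3 : u ^ 3 = 1 := Subtype.ext (by
    show (h * d.ι (zL * wL) * h⁻¹) ^ 3 = 1
    rw [conj_pow, ← map_pow, hzw3, map_one, mul_one, mul_inv_cancel])
  have hp : IsPGroup 3 (zpowers u) := fun g => ⟨1, by
    obtain ⟨k, hk⟩ := mem_zpowers_iff.mp g.2
    refine Subtype.ext ?_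
    rw [SubmonoidClass.coe_pow, ← hk, pow_one, ← zpow_natCast, ← zpow_mul, mul_comm, zpow_mul,
      zpow_natCast, hu3, one_zpow]
    rfl⟩
  obtain ⟨Q, hQ⟩ := hp.exists_le_sylow
  obtain ⟨k, hk⟩ := MulAction.exists_smul_eq S Q P
  have hmem : k * u * k⁻¹ ∈ (P : Subgroup S) := by
    rw [← hk, Sylow.coe_subgroup_smul]
    exact ⟨u, hQ (mem_zpowers u), rfl⟩
  rw [hP] at hmem
  have ha3 : (⟨d.ι zL, hz⟩ : S) ^ 3 = 1 := Subtype.ext (by
    show (d.ι zL) ^ 3 = 1
    rw [← map_pow, hz3, map_one])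
  have hzw1 : zL * wL ≠ 1 := fun e => hz1 (Subtype.ext (Prod.ext
    (by simpa [zL, wL] using congrArg (fun c : L0 => c.1.1) e) rfl))
  set g := (k : G) * h with hgdef
  have hval : ((k * u * k⁻¹ : S) : G) = g * d.ι (zL * wL) * g⁻¹ := by
    show (k : G) * (h * d.ι (zL * wL) * h⁻¹) * (k : G)⁻¹ = g * d.ι (zL * wL) * g⁻¹
    rw [hgdef]; group
  have hconj : g * d.ι (zL * wL) * g⁻¹ = d.ι zL ∨ g * d.ι (zL * wL) * g⁻¹ = (d.ι zL)⁻¹ := by
    rcases CentT.eq_of_mem_zpowers ha3 hmem with h' | h' | h'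
    · have h1 : g * d.ι (zL * wL) * g⁻¹ = 1 := hval.symm.trans (congrArg Subtype.val h')
      exact absurd (d.inj ((conj_eq_one_iff.mp h1).trans (map_one _).symm)) hzw1
    · exact Or.inl (hval.symm.trans (congrArg Subtype.val h'))
    · exact Or.inr (hval.symm.trans (congrArg Subtype.val h'))
  have hle : (centralizer ({d.ι zL} : Set G)).map (MulAut.conj g⁻¹).toMonoidHom ≤
      centralizer ({d.ι (zL * wL)} : Set G) := by
    rintro _ ⟨c, hc', rfl⟩
    have hcz : Commute c (d.ι zL) := mem_centralizer_singleton_iff.mp hc'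
    have hcg : Commute c (g * d.ι (zL * wL) * g⁻¹) := by
      rcases hconj with e | e <;> rw [e]
      exacts [hcz, hcz.inv_right]
    refine mem_centralizer_singleton_iff.mpr ?_
    have := (Commute.map hcg (MulAut.conj g⁻¹)).eq
    simpa [mul_assoc] using this
  have := card_le_of_le hle
  rw [card_map_of_injective (MulAut.conj g⁻¹).injective, d.card_z, d.card_y] at this
  omega

/-- The involutions of `T` are conjugate to `qL`. -/
theorem isConj_T {x : L0} (hx : x ∈ T) (hxx : x * x = 1) (hx1 : x ≠ 1) :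
    IsConj (d.ι x) (d.ι qL) := by
  obtain ⟨hwt, hws, hfq, hfp, hse⟩ := conj_facts
  have conjL : ∀ {a b c : L0}, c * a * c⁻¹ = b → IsConj (d.ι b) (d.ι a) := fun {a b c} h =>
    (isConj_iff.mpr ⟨d.ι c, by rw [← map_inv, ← map_mul, ← map_mul, h]⟩).symm
  have ht : IsConj (d.ι tL) (d.ι qL) := conjL hfq
  have he : IsConj (d.ι eL) (d.ι qL) := (conjL hfp).trans (isConj_iff.mpr ⟨d.n, d.n_p⟩)
  by_cases hxt : x = tL
  · exact hxt ▸ ht
  rcases T_invol x.1 (mem_L0.1 x.2) (mem_T.mp hx) (congrArg Subtype.val hxx)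
      (fun h => hx1 (Subtype.ext h)) (fun h => hxt (Subtype.ext h)) with h | h | h | h
  · exact (show x = sL from Subtype.ext h) ▸ (conjL hwt).trans ht
  · exact (show x = tL * sL from Subtype.ext h) ▸ (conjL hws).trans ((conjL hwt).trans ht)
  · exact (show x = eL from Subtype.ext h) ▸ he
  · exact (show x = tL * eL from Subtype.ext h) ▸ (conjL hse).trans he

theorem isConj_range {c : L0} (hcc : c * c = 1) (hc1 : c ≠ 1) : IsConj (d.ι c) (d.ι qL) := by
  haveI : Fact (Nat.Prime 2) := ⟨Nat.prime_two⟩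
  have hord : orderOf c = 2 := orderOf_eq_prime (by rw [pow_two, hcc]) hc1
  have hfac : (Nat.card L0).factorization 2 = 3 := by
    rw [card_L0, show (360 : ℕ) = 45 * 2 ^ 3 by norm_num,
      Nat.factorization_mul (by norm_num) (by norm_num), Finsupp.add_apply,
      Nat.factorization_eq_zero_of_not_dvd (by norm_num : ¬ 2 ∣ 45),
      Nat.Prime.factorization_pow Nat.prime_two, Finsupp.single_eq_same]
  let P : Sylow 2 L0 := Sylow.ofCard T (by rw [card_T, hfac]; norm_num)
  obtain ⟨Q, hQ⟩ := (IsPGroup.of_card (p := 2) (n := 1)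
    (by rw [Nat.card_zpowers, hord, pow_one]) : IsPGroup 2 (zpowers c)).exists_le_sylow
  obtain ⟨k, hk⟩ := MulAction.exists_smul_eq L0 Q P
  have hmem : k * c * k⁻¹ ∈ (P : Subgroup L0) := by
    rw [← hk, Sylow.coe_subgroup_smul]
    exact ⟨c, hQ (mem_zpowers c), rfl⟩
  have hcT := d.isConj_T (x := k * c * k⁻¹) hmem
    (by rw [← pow_two, conj_pow, pow_two, hcc, mul_one, mul_inv_cancel])
    (fun h => hc1 (conj_eq_one_iff.mp h))
  exact (isConj_iff.mpr ⟨d.ι k, by rw [← map_inv, ← map_mul, ← map_mul]⟩ :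
    IsConj (d.ι c) (d.ι (k * c * k⁻¹))).trans hcT

theorem mem_range_of_map_four (hC : centralizer ({d.ι tL, d.ι sL} : Set G) ≤ d.ι.range)
    {g : G} {x y : L0} (hx : g * d.ι tL * g⁻¹ = d.ι x) (hy : g * d.ι sL * g⁻¹ = d.ι y)
    (hxV : x ∈ [tL, sL, tL * sL]) (hyV : y ∈ [tL, sL, tL * sL]) : g ∈ d.ι.range := by
  obtain ⟨-, -, -, hzt, hzs, -⟩ := comm_facts
  obtain ⟨hz3, -, hz1, -, -, -, -, -, hst, -⟩ := order_facts
  have hne : x ≠ y := fun h => hst (d.inj (by
    subst h
    exact mul_left_cancel (mul_right_cancel (hy.trans hx.symm))))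
  obtain ⟨ht, hs⟩ := two_of_three x hxV y hyV hne
  set w := g * d.ι zL * g⁻¹ with hw
  have hwx : Commute w (d.ι x) := hx ▸ Commute.map (Commute.map hzt d.ι) (MulAut.conj g)
  have hwy : Commute w (d.ι y) := hy ▸ Commute.map (Commute.map hzs d.ι) (MulAut.conj g)
  have key : ∀ c : L0, (c = x ∨ c = y ∨ c = x * y) → Commute w (d.ι c) := by
    rintro c (rfl | rfl | rfl)
    exacts [hwx, hwy, (map_mul d.ι _ _).symm ▸ hwx.mul_right hwy]
  have hwC : w ∈ centralizer ({d.ι tL, d.ι sL} : Set G) :=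
    d.mem_cent_four.mpr ⟨key _ ht, key _ hs⟩
  obtain ⟨c, hc⟩ := MonoidHom.mem_range.mp (hC hwC)
  have hc3 : c ^ 3 ^ 1 = 1 := d.inj (by
    rw [map_pow, hc, hw, pow_one, conj_pow, ← map_pow, hz3, map_one, mul_one, mul_inv_cancel])
  refine d.mem_range_of_z ?_
  rcases eq_zpow_of_three (pow_four_inV _ (d.inV_of_mem (hc ▸ hwC))) hc3 with rfl | rfl | rfl
  · rw [map_one] at hc
    exact absurd (d.inj ((conj_eq_one_iff.mp hc.symm).trans (map_one _).symm)) hz1
  · exact Or.inl hc.symm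
  · exact Or.inr (hc.symm.trans (map_inv _ _))

theorem not_cent_four_le_range :
    ¬ centralizer ({d.ι tL, d.ι sL} : Set G) ≤ d.ι.range := by
  intro hC
  obtain ⟨hn2, hn1, -⟩ := d.n_facts
  obtain ⟨-, -, hfq, hfp, -⟩ := conj_facts
  obtain ⟨hts, hte, -, -, -, -⟩ := comm_facts
  obtain ⟨-, -, -, -, htt, ht1, hss, hs1, hst, -⟩ := order_facts
  obtain ⟨htT, hsT, heT⟩ := T_facts
  haveI : Fact (Nat.Prime 2) := ⟨Nat.prime_two⟩
  set f := d.ι fL with hf
  set m := f * d.n * f⁻¹ with hm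
  have hmt : m * d.ι tL * m⁻¹ = d.ι eL := by
    rw [hm, hf, ← hfq, ← hfp, map_mul, map_mul, map_mul, map_mul, map_inv, ← d.n_q]; group
  have hme : m * d.ι eL * m⁻¹ = d.ι tL := by
    rw [hm, hf, ← hfq, ← hfp, map_mul, map_mul, map_mul, map_mul, map_inv, ← d.n_p]; group
  have hTp : IsPGroup 2 (T.map d.ι) := IsPGroup.of_card (n := 3) (by
    rw [card_map_of_injective d.inj, card_T]; norm_num)
  obtain ⟨P, hP⟩ := hTp.exists_le_sylow
  have hPT : (P : Subgroup G) = T.map d.ι := by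
    by_contra hne
    obtain ⟨g, hgP, hgT, hgn⟩ := CentT.exists_normalizing hP P.2 (Ne.symm hne)
    have hmap : (T.map d.ι).map (MulAut.conj g).toMonoidHom = T.map d.ι :=
      eq_of_le_of_card_ge (by rintro _ ⟨x, hx, rfl⟩; exact hgn x hx)
        (card_map_of_injective (MulAut.conj g).injective).ge
    have himg : ∀ x : L0, x ∈ T → ∃ x' ∈ T, g * d.ι x * g⁻¹ = d.ι x' := fun x hx => by
      obtain ⟨x', hx', he⟩ := hgn _ (mem_map_of_mem _ hx)
      exact ⟨x', hx', he.symm⟩
    have hpre : ∀ x : L0, x ∈ T → ∃ x' ∈ T, g * d.ι x' * g⁻¹ = d.ι x := fun x hx => by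
      have := mem_map_of_mem d.ι hx
      rw [← hmap] at this
      obtain ⟨_, ⟨x', hx', rfl⟩, he⟩ := this
      exact ⟨x', hx', he⟩
    obtain ⟨x, hxT, hgx⟩ := himg tL (mem_T.mpr htT)
    have hxt : x = tL := by
      have hx1 : x ≠ 1 := fun h => ht1 (d.inj (by
        rw [h, map_one] at hgx; rw [map_one]; exact conj_eq_one_iff.mp hgx))
      have hcen : ∀ c ∈ T, x * c = c * x := fun c hc => by
        obtain ⟨c', hc', hgc⟩ := hpre c hc
        refine d.inj ?_
        rw [map_mul, map_mul, ← hgx, ← hgc]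
        exact (Commute.map (Commute.map (show Commute tL c' from Subtype.ext
          ((mem_T.mp hc').1.symm)) d.ι) (MulAut.conj g)).eq
      exact Subtype.ext (T_center x.1 (mem_L0.1 x.2) (mem_T.mp hxT)
        (fun h => hx1 (Subtype.ext h)) (congrArg Subtype.val (hcen _ (mem_T.mpr hsT)))
        (congrArg Subtype.val (hcen _ (mem_T.mpr heT))))
    subst x
    obtain ⟨y, hyT, hgy⟩ := himg sL (mem_T.mpr hsT)
    have hgy' : g * d.ι (tL * sL) * g⁻¹ = d.ι (tL * y) := by
      rw [map_mul, map_mul, ← conj_mul, hgx, hgy]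
    have hyy : y * y = 1 := d.inj (by
      rw [map_mul, ← hgy, conj_mul, ← map_mul, hss, map_one, mul_one, mul_inv_cancel])
    have hgr : g ∈ d.ι.range := by
      rcases T_invol y.1 (mem_L0.1 y.2) (mem_T.mp hyT) (congrArg Subtype.val hyy)
          (fun h => hs1 (d.inj (by
            rw [show y = 1 from Subtype.ext h, map_one] at hgy
            rw [map_one]; exact conj_eq_one_iff.mp hgy)))
          (fun h => hst (d.inj (by
            rw [show y = tL from Subtype.ext h, ← hgx] at hgy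
            exact mul_left_cancel (mul_right_cancel hgy)))) with h | h | h | h
      · exact d.mem_range_of_map_four hC hgx hgy (by simp)
          (by simp [show y = sL from Subtype.ext h])
      · exact d.mem_range_of_map_four hC hgx hgy (by simp)
          (by simp [show y = tL * sL from Subtype.ext h])
      all_goals exfalso
      all_goals
        -- the conjugate of `m` by `g` normalises the four-group
        suffices hsuff : ∃ x₁ ∈ [tL, sL, tL * sL], ∃ x₂ ∈ [tL, sL, tL * sL],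
            g⁻¹ * m * g * d.ι tL * (g⁻¹ * m * g)⁻¹ = d.ι x₁ ∧
            g⁻¹ * m * g * d.ι sL * (g⁻¹ * m * g)⁻¹ = d.ι x₂ by
          obtain ⟨x₁, hx₁, x₂, hx₂, h₁, h₂⟩ := hsuff
          obtain ⟨c, hc⟩ := MonoidHom.mem_range.mp (d.mem_range_of_map_four hC h₁ h₂ hx₁ hx₂)
          have hmn : g⁻¹ * m * g = g⁻¹ * f * d.n * (g⁻¹ * f)⁻¹ := by rw [hm]; group
          rw [hmn] at hc
          have hcc : c * c = 1 := d.inj (by
            rw [map_mul, map_one, hc, conj_mul, hn2, mul_one, mul_inv_cancel])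
          have hc1 : c ≠ 1 := fun e => hn1 (by
            rw [e, map_one] at hc
            exact conj_eq_one_iff.mp hc.symm)
          exact d.not_isConj_n ((isConj_iff.mpr ⟨g⁻¹ * f, hc.symm⟩ :
            IsConj d.n (d.ι c)).trans (d.isConj_range hcc hc1))
      · obtain rfl : y = eL := Subtype.ext h
        refine ⟨sL, by simp, tL, by simp, ?_, ?_⟩
        · calc g⁻¹ * m * g * d.ι tL * (g⁻¹ * m * g)⁻¹
              = g⁻¹ * (m * (g * d.ι tL * g⁻¹) * m⁻¹) * g := by group
            _ = g⁻¹ * (g * d.ι sL * g⁻¹) * g := by rw [hgx, hmt, hgy]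
            _ = d.ι sL := by group
        · calc g⁻¹ * m * g * d.ι sL * (g⁻¹ * m * g)⁻¹
              = g⁻¹ * (m * (g * d.ι sL * g⁻¹) * m⁻¹) * g := by group
            _ = g⁻¹ * (g * d.ι tL * g⁻¹) * g := by rw [hgy, hme, hgx]
            _ = d.ι tL := by group
      · obtain rfl : y = tL * eL := Subtype.ext h
        refine ⟨tL * sL, by simp, sL, by simp, ?_, ?_⟩
        · rw [← mul_assoc tL tL eL, htt, one_mul] at hgy'
          calc g⁻¹ * m * g * d.ι tL * (g⁻¹ * m * g)⁻¹
              = g⁻¹ * (m * (g * d.ι tL * g⁻¹) * m⁻¹) * g := by group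
            _ = g⁻¹ * (g * d.ι (tL * sL) * g⁻¹) * g := by rw [hgx, hmt, hgy']
            _ = d.ι (tL * sL) := by group
        · have hmte : m * d.ι (tL * eL) * m⁻¹ = d.ι (tL * eL) := by
            rw [map_mul, ← conj_mul, hmt, hme, ← map_mul, ← map_mul, hte]
          calc g⁻¹ * m * g * d.ι sL * (g⁻¹ * m * g)⁻¹
              = g⁻¹ * (m * (g * d.ι sL * g⁻¹) * m⁻¹) * g := by group
            _ = g⁻¹ * (g * d.ι sL * g⁻¹) * g := by rw [hgy, hmte]
            _ = d.ι sL := by group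
    obtain ⟨c, rfl⟩ := MonoidHom.mem_range.mp hgr
    have hUT : T = (P : Subgroup G).comap d.ι := by
      refine eq_of_le_of_card_ge (fun x hx => hP (mem_map_of_mem _ hx)) ?_
      obtain ⟨j, hj⟩ := (P.2.comap_of_injective d.ι d.inj).exists_card_eq
      rw [hj, card_T]
      have hdvd : 2 ^ j ∣ 360 := hj ▸ card_L0 ▸ card_subgroup_dvd_card _
      rcases Nat.lt_or_ge j 4 with hj4 | hj4
      · exact (Nat.pow_le_pow_right (by norm_num) (by omega : j ≤ 3)).trans (by norm_num)
      · exact absurd ((pow_dvd_pow 2 hj4).trans hdvd) (by norm_num)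
    exact hgT (mem_map_of_mem _ (show c ∈ T by rw [hUT]; exact hgP))
  -- every involution is conjugate to `ι qL`
  obtain ⟨Q, hQ⟩ := (IsPGroup.of_card (p := 2) (n := 1)
    (by rw [Nat.card_zpowers, orderOf_eq_prime (by rw [pow_two, hn2]) hn1, pow_one]) :
      IsPGroup 2 (zpowers d.n)).exists_le_sylow
  obtain ⟨k, hk⟩ := MulAction.exists_smul_eq G Q P
  have hmem : k * d.n * k⁻¹ ∈ (P : Subgroup G) := by
    rw [← hk, Sylow.coe_subgroup_smul]
    exact ⟨d.n, hQ (mem_zpowers d.n), rfl⟩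
  rw [hPT] at hmem
  obtain ⟨x, hxT, hx⟩ := hmem
  have hxx : x * x = 1 := d.inj (by
    rw [map_mul, hx, conj_mul, hn2, mul_one, mul_inv_cancel, map_one])
  have hx1 : x ≠ 1 := fun h => hn1 (by
    rw [h, map_one] at hx
    exact conj_eq_one_iff.mp hx.symm)
  exact d.not_isConj_n ((isConj_iff.mpr ⟨k, hx.symm⟩ : IsConj d.n (d.ι x)).trans
    (d.isConj_T hxT hxx hx1))

/-- The second image contributes a four-group centralising the first one. -/
theorem four :
    (∀ x : L0, (x = tL ∨ x = sL) → ∀ y : L0, (y = tL ∨ y = sL) → Commute (d.ι x) (d.ψ y)) ∨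
      (∀ x, (x = tL ∨ x = sL) → ∀ y, (y = aL ∨ y = bL) → Commute (d.ι x) (d.ψ y)) := by
  have key : ∀ {x y : L0}, (x = tL ∨ x = sL) →
      d.ψ y ∈ centralizer ({d.ι tL, d.ι sL} : Set G) → Commute (d.ι x) (d.ψ y) := by
    intro x y hx hy
    obtain ⟨h1, h2⟩ := d.mem_cent_four.mp hy
    rcases hx with rfl | rfl
    exacts [h1.symm, h2.symm]
  rcases d.cent_four_cases.2 with h | h | h
  · exact Or.inl fun x hx y hy => key hx (h y hy)
  · exact Or.inr fun x hx y hy => key hx (h y hy)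
  · exact absurd h d.not_cent_four_le_range

end Data

end CfsgLib.AltEightThree
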