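import Cfsg.Agent.Lib.AltEightThree.Gen

/-!
The embedded copy from the two possible positions of the second four-group.
-/

set_option autoImplicit false
set_option maxRecDepth 20000

namespace CfsgLib.AltEightThree

open Equiv

/-- The copy of the model group, from one of the two positions of the second four-group. -/
theorem emb_of_four {G : Type*} [Group G] [Finite G] (d : Data G) (a b : L0)
    (hk : (a = tL ∧ b = sL) ∨ ((a : P35) = (1, swap 0 2 * swap 3 4) ∧ (b : P35) = (1, swap 0 3 * swap 2 4)))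
    (hcomm : ∀ x : L0, (x = tL ∨ x = sL) → ∀ y : L0, (y = a ∨ y = b) → Commute (d.ι x) (d.ψ y))
    (hfour : Subgroup.centralizer ({d.ι tL, d.ι sL} : Set G) ≤ d.ι.range ⊔ d.ψ.range) :
    Nonempty (Emb G) := by
  have ht : Commute (d.ι tL) (d.ψ (a * b)) := by
    rw [map_mul]
    exact (hcomm tL (Or.inl rfl) a (Or.inl rfl)).mul_right (hcomm tL (Or.inl rfl) b (Or.inr rfl))
  have hk1 : (a * b) * (a * b) = 1 ∧ (wL * (a * b)) ^ 3 = 1 ∧ ((a * b) * qL) ^ 3 = 1 ∧
      ((a * b) * (qL * pL)) ^ 2 = 1 ∧ ((a * b) * (zL * (qL * pL) * zL⁻¹)) ^ 2 = 1 := by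
    rcases hk with ⟨rfl, rfl⟩ | ⟨ha, hb⟩
    · decide
    · simp only [Subtype.ext_iff, Subgroup.coe_mul, SubgroupClass.coe_pow, Subgroup.coe_one,
        Subgroup.coe_inv, ha, hb]
      decide
  obtain ⟨φ, hφ⟩ := Gen.exists_phi d (a * b) hk1 ht
  exact Gen.exists_emb d φ hφ hfour

end CfsgLib.AltEightThree
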