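import Cfsg.Agent.Lib.AltEightThree.Data
import Mathlib.GroupTheory.SpecificGroups.Dihedral

/-!
Normalising the three-local hypotheses.
-/

set_option autoImplicit false
set_option maxRecDepth 20000
set_option linter.style.haveILetI false

namespace CfsgLib.AltEightThree

open Equiv Equiv.Perm Subgroup

namespace Local

theorem conj_zL (a : L0) : a * zL * a⁻¹ = zL ∨ a * zL * a⁻¹ = zL⁻¹ := by
  have h : ∀ x : Perm (Fin 3), x * zL.1.1 * x⁻¹ = zL.1.1 ∨ x * zL.1.1 * x⁻¹ = zL.1.1⁻¹ := by decide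
  refine (h a.1.1).imp (fun h => Subtype.ext (Prod.ext h ?_)) fun h => Subtype.ext (Prod.ext h ?_)
  · change a.1.2 * 1 * a.1.2⁻¹ = 1; simp
  · change a.1.2 * 1 * a.1.2⁻¹ = 1⁻¹; simp

/-- The classes of the elements of the chosen Sylow subgroup. -/
theorem Dm_cases {a : L0} (ha : a ∈ Dm) :
    a = 1 ∨ a = zL ∨ a = zL⁻¹ ∨ a = wL ∨ a = wL⁻¹ ∨
      a = zL * wL ∨ a = (zL * wL)⁻¹ ∨ a = zL * wL⁻¹ ∨ a = (zL * wL⁻¹)⁻¹ := by
  obtain ⟨⟨x, y⟩, hxy⟩ := a
  have e1 : ∀ (h : ((1 : Perm (Fin 3)), y) ∈ L0) (b : L0), b.1 = (1, y) → (⟨_, h⟩ : L0) = b :=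
    fun h b hb => Subtype.ext hb.symm
  obtain ⟨h1, h2⟩ := ha
  dsimp only at h1 h2
  have key : ∀ b : L0, b.1 = (x, y) → (⟨(x, y), hxy⟩ : L0) = b := fun b hb => Subtype.ext hb.symm
  rcases h1 with rfl | rfl | rfl <;> rcases h2 with rfl | rfl | rfl
  · exact Or.inl (key _ rfl)
  · exact Or.inr (Or.inr (Or.inr (Or.inl (key _ rfl))))
  · exact Or.inr (Or.inr (Or.inr (Or.inr (Or.inl (key _ (by decide))))))
  · exact Or.inr (Or.inl (key _ rfl))
  · exact Or.inr (Or.inr (Or.inr (Or.inr (Or.inr (Or.inl (key _ (by decide)))))))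
  · exact Or.inr (Or.inr (Or.inr (Or.inr (Or.inr (Or.inr (Or.inr (Or.inl (key _ (by decide)))))))))
  · exact Or.inr (Or.inr (Or.inl (key _ (by decide))))
  · exact Or.inr (Or.inr (Or.inr (Or.inr (Or.inr (Or.inr (Or.inr (Or.inr (key _ (by decide)))))))))
  · exact Or.inr (Or.inr (Or.inr (Or.inr (Or.inr (Or.inr (Or.inl (key _ (by decide))))))))

theorem rel_p : pL * pL = 1 ∧ pL * zL * pL⁻¹ = zL⁻¹ ∧ pL * wL * pL⁻¹ = wL := by decide
theorem rel_q : qL * qL = 1 ∧ qL * zL * qL⁻¹ = zL ∧ qL * wL * qL⁻¹ = wL⁻¹ := by decide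
theorem rel_pq : pL * qL = qL * pL ∧ zL * wL = wL * zL ∧ zL ^ 3 = 1 ∧ wL ^ 3 = 1 := by decide

theorem p_not_inverts : pL * (zL * wL) * pL⁻¹ ≠ (zL * wL)⁻¹ ∧
    pL * (zL * wL⁻¹) * pL⁻¹ ≠ (zL * wL⁻¹)⁻¹ := by decide

theorem fix_q {a : L0} (ha : a ∈ Dm) (h : (a * qL) * (a * qL) = 1) :
    ∃ m : L0, (m = 1 ∨ m = wL ∨ m = wL⁻¹) ∧ m * (a * qL) * m⁻¹ = qL := by
  have key : ∀ a : L0, (a = 1 ∨ a = zL ∨ a = zL⁻¹ ∨ a = wL ∨ a = wL⁻¹ ∨
      a = zL * wL ∨ a = (zL * wL)⁻¹ ∨ a = zL * wL⁻¹ ∨ a = (zL * wL⁻¹)⁻¹) →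
      (a * qL) * (a * qL) = 1 → 1 * (a * qL) * 1⁻¹ = qL ∨ wL * (a * qL) * wL⁻¹ = qL ∨
        wL⁻¹ * (a * qL) * wL⁻¹⁻¹ = qL := by
    intro a ha
    rcases ha with rfl | rfl | rfl | rfl | rfl | rfl | rfl | rfl | rfl <;> decide
  rcases key a (Dm_cases ha) h with h | h | h
  · exact ⟨1, Or.inl rfl, h⟩
  · exact ⟨wL, Or.inr (Or.inl rfl), h⟩
  · exact ⟨wL⁻¹, Or.inr (Or.inr rfl), h⟩

theorem fix_p {a : L0} (ha : a ∈ Dm) (h : (a * pL) * (a * pL) = 1) :
    ∃ m : L0, (m = 1 ∨ m = zL ∨ m = zL⁻¹) ∧ m * (a * pL) * m⁻¹ = pL := by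
  have key : ∀ a : L0, (a = 1 ∨ a = zL ∨ a = zL⁻¹ ∨ a = wL ∨ a = wL⁻¹ ∨
      a = zL * wL ∨ a = (zL * wL)⁻¹ ∨ a = zL * wL⁻¹ ∨ a = (zL * wL⁻¹)⁻¹) →
      (a * pL) * (a * pL) = 1 → 1 * (a * pL) * 1⁻¹ = pL ∨ zL * (a * pL) * zL⁻¹ = pL ∨
        zL⁻¹ * (a * pL) * zL⁻¹⁻¹ = pL := by
    intro a ha
    rcases ha with rfl | rfl | rfl | rfl | rfl | rfl | rfl | rfl | rfl <;> decide
  rcases key a (Dm_cases ha) h with h | h | h
  · exact ⟨1, Or.inl rfl, h⟩
  · exact ⟨zL, Or.inr (Or.inl rfl), h⟩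
  · exact ⟨zL⁻¹, Or.inr (Or.inr rfl), h⟩

variable {G : Type*} [Group G]

theorem cent_eq_of_zpowers {a b : G} (h : zpowers a = zpowers b) :
    centralizer ({a} : Set G) = centralizer ({b} : Set G) := by
  rw [← centralizer_closure {a}, ← centralizer_closure {b}, ← zpowers_eq_closure,
    ← zpowers_eq_closure, h]

theorem cent_inv (a : G) : centralizer ({a⁻¹} : Set G) = centralizer ({a} : Set G) :=
  cent_eq_of_zpowers (zpowers_inv)

theorem mem_cent {a g : G} : g ∈ centralizer ({a} : Set G) ↔ Commute g a :=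
  mem_centralizer_singleton_iff.trans ⟨fun h => h, fun h => h⟩

theorem commute_conj {a g x : G} (h : Commute g (x * a * x⁻¹)) : Commute (x⁻¹ * g * x) a := by
  calc x⁻¹ * g * x * a = x⁻¹ * (g * (x * a * x⁻¹)) * x := by group
    _ = x⁻¹ * ((x * a * x⁻¹) * g) * x := by rw [h.eq]
    _ = a * (x⁻¹ * g * x) := by group

theorem card_cent_conj (a x : G) :
    Nat.card (centralizer ({x * a * x⁻¹} : Set G)) = Nat.card (centralizer ({a} : Set G)) :=
  Nat.card_congr
    { toFun := fun g => ⟨x⁻¹ * g.1 * x, mem_cent.2 (commute_conj (mem_cent.1 g.2))⟩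
      invFun := fun g => ⟨x * g.1 * x⁻¹, mem_cent.2 (by
        simpa using (mem_cent.1 g.2).map (MulAut.conj x).toMonoidHom)⟩
      left_inv := fun g => Subtype.ext (by simp [mul_assoc])
      right_inv := fun g => Subtype.ext (by simp [mul_assoc]) }

end Local

open Local

variable {G : Type*} [Group G] [Finite G]

/-- The normal form of the hypotheses. -/
theorem exists_data (P : Sylow 3 G) (D : Subgroup G) (hDP : D = P) (y z : G)
    (hgen : closure {y, z} = D) (hcomm : IsMulCommutative D) (hcard : Nat.card D = 9)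
    (hexp : ∀ a ∈ D, a ^ 3 = 1) (hC : centralizer (D : Set G) = D)
    (eN : normalizer (D : Set G) ⧸ D.subgroupOf (normalizer (D : Set G)) ≃* DihedralGroup 4)
    (hyn : (D.subgroupOf (centralizer ({y} : Set G))).Normal)
    (hycard : Nat.card (centralizer ({y} : Set G)) = 18)
    (Ny : Subgroup G) (hNy : Ny = normalizer (zpowers y : Set G))
    (hyN : D ≤ Ny) [hyNn : (D.subgroupOf Ny).Normal]
    (hyNexp : ∀ g : Ny ⧸ D.subgroupOf Ny, g ^ 2 = 1)
    (eC : centralizer ({z} : Set G) ≃* Multiplicative (ZMod 3) × alternatingGroup (Fin 5))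
    (eL : normalizer (zpowers z : Set G) ≃* L0) :
    Nonempty (Data G) := by
  classical
  haveI : Fact (Nat.Prime 3) := ⟨Nat.prime_three⟩
  have hcm : ∀ a ∈ D, ∀ b ∈ D, Commute a b := fun a ha b hb =>
    congrArg Subtype.val (hcomm.1.1 ⟨a, ha⟩ ⟨b, hb⟩)
  have hyD : y ∈ D := hgen ▸ subset_closure (Set.mem_insert _ _)
  have hzD : z ∈ D := hgen ▸ subset_closure (Set.mem_insert_of_mem _ rfl)
  have hsmall : ∀ a : G, a ^ 3 = 1 → ¬ D ≤ zpowers a := fun a ha hle => by
    have h1 := card_le_of_le hle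
    rw [hcard, Nat.card_zpowers] at h1
    have h2 := Nat.le_of_dvd (by norm_num) (orderOf_dvd_of_pow_eq_one ha)
    omega
  have hyz : y ∉ zpowers z := fun h => hsmall z (hexp z hzD) (hgen ▸ (closure_le _).2 (by
    rintro x (rfl | rfl)
    · exact h
    · exact mem_zpowers _))
  have hz1 : z ≠ 1 := fun h => hsmall y (hexp y hyD) (hgen ▸ (closure_le _).2 (by
    rintro x (rfl | rfl)
    · exact mem_zpowers _
    · rw [h]; exact one_mem _))
  let ι0 : L0 →* G := (normalizer (zpowers z : Set G)).subtype.comp eL.symm.toMonoidHom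
  have h0inj : Function.Injective ι0 := Subtype.val_injective.comp eL.symm.injective
  have h0range : ι0.range = normalizer (zpowers z : Set G) := by
    refine le_antisymm (fun g => ?_) fun g hg => ⟨eL ⟨g, hg⟩, by simp [ι0]⟩
    rintro ⟨a, rfl⟩
    exact (eL.symm a).2
  have hzN : z ∈ normalizer (zpowers z : Set G) := le_normalizer (mem_zpowers z)
  obtain ⟨a0, ha0⟩ : ∃ a0, ι0 a0 = z := by
    have : z ∈ ι0.range := h0range ▸ hzN
    exact this
  have ha03 : a0 ^ 3 = 1 := h0inj (by rw [map_pow, ha0, map_one]; exact hexp z hzD)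
  have ha01 : a0 ≠ 1 := fun h => hz1 (by rw [← ha0, h, map_one])
  have hzo : orderOf z = 3 := orderOf_eq_prime (hexp z hzD) hz1
  have hzcases : ∀ g ∈ zpowers z, g = 1 ∨ g = z ∨ g = z⁻¹ := by
    intro g hg
    obtain ⟨k, hk, rfl⟩ : ∃ k, k < 3 ∧ z ^ k = g := by
      rw [mem_zpowers_iff_mem_range_orderOf, Finset.mem_image] at hg
      obtain ⟨k, hk, rfl⟩ := hg
      exact ⟨k, by simpa [hzo] using hk, rfl⟩
    interval_cases k
    · simp
    · simp
    · exact Or.inr (Or.inr (eq_inv_of_mul_eq_one_left (by rw [← pow_succ]; exact hexp z hzD)))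
  have ha0n : ∀ c : L0, c * a0 * c⁻¹ = a0 ∨ c * a0 * c⁻¹ = a0⁻¹ := by
    intro c
    have hc : ι0 c ∈ normalizer (zpowers z : Set G) := h0range ▸ ⟨c, rfl⟩
    have hm := (mem_normalizer_iff.1 hc z).1 (mem_zpowers z)
    rcases hzcases _ hm with h | h | h
    · exact absurd (conj_eq_one_iff.1 h) hz1
    · exact Or.inl (h0inj (by simp [ha0, h]))
    · exact Or.inr (h0inj (by simp [ha0, h]))
  have hDr : D ≤ ι0.range := h0range ▸ fun d hd =>
    centralizer_le_normalizer _ (by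
      rintro g ⟨i, rfl⟩
      exact ((hcm d hd z hzD).zpow_right i).eq.symm)
  obtain ⟨k, hk⟩ := exists_conj_Dm (E := D.comap ι0) (by
    rw [← hcard, ← card_map_of_injective h0inj, map_comap_eq_self hDr])
  let ι : L0 →* G := ι0.comp (MulAut.conj k).toMonoidHom
  have hι : ∀ a, ι a = ι0 (k * a * k⁻¹) := fun a => rfl
  have hinj : Function.Injective ι := h0inj.comp (MulAut.conj k).injective
  have hrange : ι.range = ι0.range := by
    refine le_antisymm (fun g => ?_) fun g => ?_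
    · rintro ⟨a, rfl⟩; exact ⟨_, rfl⟩
    · rintro ⟨a, rfl⟩; exact ⟨k⁻¹ * a * k, by rw [hι]; congr 1; group⟩
  have hD : Dm.map ι = D := by
    refine le_antisymm (map_le_iff_le_comap.2 fun a ha => (hk a).2 ha) fun g hg => ?_
    obtain ⟨b, hb⟩ := hDr hg
    refine ⟨k⁻¹ * b * k, (hk _).1 ?_, ?_⟩
    · rw [show k * (k⁻¹ * b * k) * k⁻¹ = b by group, mem_comap, hb]; exact hg
    · rw [hι, show k * (k⁻¹ * b * k) * k⁻¹ = b by group, hb]
  have hDmem : ∀ a : L0, ι a ∈ D ↔ a ∈ Dm := fun a => by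
    rw [← hD]
    exact ⟨fun ⟨b, hb, e⟩ => hinj e ▸ hb, fun h => ⟨a, h, rfl⟩⟩
  have hzp : zpowers (ι zL) = zpowers z := by
    have h1 : ι zL = ι0 zL ∨ ι zL = (ι0 zL)⁻¹ := by
      rw [hι]
      rcases conj_zL k with h | h <;> simp [h]
    have h2 : z = ι0 zL ∨ z = (ι0 zL)⁻¹ := by
      rcases normal_three ha03 ha01 ha0n with h | h <;> simp [← ha0, h]
    rcases h1 with h1 | h1 <;> rcases h2 with h2 | h2 <;> simp [h1, h2]
  have hrN : ι.range = normalizer (zpowers (ι zL) : Set G) := by rw [hrange, h0range, hzp]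
  set f : G → ℕ := fun g => Nat.card (centralizer ({g} : Set G)) with hfdef
  have fconj : ∀ a g, f (g * a * g⁻¹) = f a := fun a g => card_cent_conj a g
  have finv : ∀ a, f a⁻¹ = f a := fun a => by rw [hfdef]; exact congrArg _ (by rw [cent_inv])
  have fz : f (ι zL) = 180 := by
    change Nat.card (centralizer ({ι zL} : Set G)) = 180
    rw [cent_eq_of_zpowers hzp, Nat.card_congr eC.toEquiv, Nat.card_prod]
    have h5 : 2 * Nat.card (alternatingGroup (Fin 5)) = 120 := by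
      rw [Nat.card_eq_fintype_card, two_mul_card_alternatingGroup, Fintype.card_perm, Fintype.card_fin]
      rfl
    have h3 : Nat.card (Multiplicative (ZMod 3)) = 3 := Nat.card_zmod 3
    rw [h3]; omega
  -- the elements of `D`
  have hcases : ∀ g ∈ D, ∃ a ∈ Dm, ι a = g := fun g hg => by
    rw [← hD] at hg; exact hg
  obtain ⟨ay, hay, hay'⟩ := hcases y hyD
  have hDN : ∀ a : L0, a * zL * a⁻¹ ∈ Dm → a * wL * a⁻¹ ∈ Dm →
      ι a ∈ normalizer (D : Set G) := by
    intro a h1 h2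
    rw [← hD, mem_normalizer_iff_map_conj_eq]
    refine eq_of_le_of_card_ge (map_le_iff_le_comap.2 ?_)
      (card_map_of_injective (MulAut.conj (ι a)).injective).ge
    rintro g ⟨b, hb, rfl⟩
    refine ⟨a * b * a⁻¹, ?_, by simp⟩
    have e : ∀ x y : L0, a * (x * y) * a⁻¹ = (a * x * a⁻¹) * (a * y * a⁻¹) := fun x y => by group
    have ei : ∀ x : L0, a * x⁻¹ * a⁻¹ = (a * x * a⁻¹)⁻¹ := fun x => by group
    rcases Dm_cases hb with rfl | rfl | rfl | rfl | rfl | rfl | rfl | rfl | rfl <;>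
      (try simp only [e, ei, mul_inv_rev]) <;>
      first
        | (simp; done)
        | exact h1
        | exact h2
        | exact inv_mem h1
        | exact inv_mem h2
        | exact mul_mem h1 h2
        | exact mul_mem h1 (inv_mem h2)
        | exact mul_mem (inv_mem h2) (inv_mem h1)
        | exact inv_mem (mul_mem h1 h2)
        | (rw [inv_inv]; exact mul_mem h2 (inv_mem h1))
  have hpN : ι pL ∈ normalizer (D : Set G) := hDN _
    (rel_p.2.1 ▸ inv_mem zL_mem_Dm) (rel_p.2.2.symm ▸ wL_mem_Dm)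
  have hqN : ι qL ∈ normalizer (D : Set G) := hDN _
    (rel_q.2.1.symm ▸ zL_mem_Dm) (rel_q.2.2 ▸ inv_mem wL_mem_Dm)
  have hND : Nat.card (normalizer (D : Set G)) = 72 := by
    rw [card_eq_card_quotient_mul_card_subgroup (D.subgroupOf (normalizer (D : Set G))),
      Nat.card_congr eN.toEquiv, Nat.card_congr (subgroupOfEquivOfLe le_normalizer).toEquiv, hcard,
      DihedralGroup.nat_card]
  obtain ⟨n0, hn0, hn0'⟩ : ∃ n0 ∈ normalizer (D : Set G), n0 ∉ ι.range := by
    by_contra hcon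
    push Not at hcon
    have hpre : ∀ g : normalizer (D : Set G), ∃ a : L0, ι a = g.1 := fun g => hcon g.1 g.2
    choose pre hpre using hpre
    have hmem : ∀ g, pre g * zL * (pre g)⁻¹ ∈ Dm ∧ pre g * wL * (pre g)⁻¹ ∈ Dm := fun g => by
      have h : ∀ b ∈ Dm, pre g * b * (pre g)⁻¹ ∈ Dm := fun b hb => (hDmem _).1 (by
        rw [map_mul, map_mul, map_inv, hpre g]
        exact (mem_normalizer_iff.1 g.2 _).1 ((hDmem b).2 hb))
      exact ⟨h _ zL_mem_Dm, h _ wL_mem_Dm⟩
    have hle := Nat.card_le_card_of_injective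
      (β := {a : L0 // a * zL * a⁻¹ ∈ Dm ∧ a * wL * a⁻¹ ∈ Dm}) (fun g => ⟨pre g, hmem g⟩)
      (fun g g' h => Subtype.ext (by
        have e : pre g = pre g' := congrArg Subtype.val h
        rw [← hpre g, ← hpre g', e]))
    have := card_normalizer_Dm
    omega
  -- membership in the range, from the image of `zL`
  have hzmove : n0 * ι zL * n0⁻¹ ≠ ι zL ∧ n0 * ι zL * n0⁻¹ ≠ ι zL⁻¹ := by
    constructor <;> intro h <;> refine hn0' (hrN ▸ ?_) <;> rw [mem_normalizer_iff_map_conj_eq] <;>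
      rw [MonoidHom.map_zpowers] <;>
      simp [MulAut.conj_apply, h]
  obtain ⟨bz, hbz, hbz'⟩ := hcases _ ((mem_normalizer_iff.1 hn0 (ι zL)).1 ((hDmem _).2 zL_mem_Dm))
  obtain ⟨bw, hbw, hbw'⟩ := hcases _ ((mem_normalizer_iff.1 hn0 (ι wL)).1 ((hDmem _).2 wL_mem_Dm))
  have fbz : f (ι bz) = 180 := by rw [hbz', fconj, fz]
  have fbw : f (ι bw) = f (ι wL) := by rw [hbw', fconj]
  -- the two kinds of mixed elements
  have fmix : f (ι (zL * wL⁻¹)) = f (ι (zL * wL)) := by
    rw [← fconj (ι (zL * wL)) (ι qL), ← map_inv ι qL, ← map_mul, ← map_mul]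
    exact congrArg (fun a => f (ι a)) (by decide)
  have fy : f y = 18 := hycard
  have hyclass : ay = zL * wL ∨ ay = (zL * wL)⁻¹ ∨ ay = zL * wL⁻¹ ∨ ay = (zL * wL⁻¹)⁻¹ := by
    have hw : ¬ (ay = wL ∨ ay = wL⁻¹) := by
      intro hw
      have fw : f (ι wL) = 18 := by
        rcases hw with rfl | rfl
        · rw [hay', fy]
        · rw [← finv, ← map_inv, hay', fy]
      have hbz2 : ∃ b0, (b0 = zL * wL ∨ b0 = zL * wL⁻¹) ∧ (bz = b0 ∨ bz = b0⁻¹) := by
        rcases Dm_cases hbz with rfl | rfl | rfl | rfl | rfl | rfl | rfl | rfl | rfl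
        · rw [map_one, eq_comm, conj_eq_one_iff] at hbz'
          exact absurd (hinj (hbz'.trans (map_one ι).symm)) (by decide)
        · exact absurd hbz'.symm hzmove.1
        · exact absurd hbz'.symm hzmove.2
        · omega
        · rw [map_inv, finv] at fbz; omega
        · exact ⟨_, Or.inl rfl, Or.inl rfl⟩
        · exact ⟨_, Or.inl rfl, Or.inr rfl⟩
        · exact ⟨_, Or.inr rfl, Or.inl rfl⟩
        · exact ⟨_, Or.inr rfl, Or.inr rfl⟩
      have fall : f (ι (zL * wL)) = 180 ∧ f (ι (zL * wL⁻¹)) = 180 := by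
        obtain ⟨b0, hb0, hb0'⟩ := hbz2
        rcases hb0 with rfl | rfl <;> rcases hb0' with rfl | rfl <;>
          (try rw [map_inv, finv] at fbz) <;> constructor <;> omega
      have hbw2 : bw = wL ∨ bw = wL⁻¹ := by
        rcases Dm_cases hbw with rfl | rfl | rfl | rfl | rfl | rfl | rfl | rfl | rfl
        · rw [map_one, eq_comm, conj_eq_one_iff] at hbw'
          exact absurd (hinj (hbw'.trans (map_one ι).symm)) (by decide)
        · omega
        · rw [map_inv, finv] at fbw; omega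
        · exact Or.inl rfl
        · exact Or.inr rfl
        · omega
        · rw [map_inv, finv] at fbw; omega
        · omega
        · rw [map_inv, finv] at fbw; omega
      have hzw : zpowers y = zpowers (ι wL) := by
        rcases hw with rfl | rfl <;> simp [← hay']
      have hn0y : n0 ∈ Ny := by
        rw [hNy, hzw, mem_normalizer_iff_map_conj_eq, MonoidHom.map_zpowers]
        rcases hbw2 with rfl | rfl <;> simp [MulAut.conj_apply, ← hbw']
      have hpy : ι pL ∈ Ny := by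
        rw [hNy, hzw, mem_normalizer_iff_map_conj_eq, MonoidHom.map_zpowers]
        simp [MulAut.conj_apply, ← map_inv, ← map_mul, rel_p.2.2]
      have hcomm4 : n0 * ι pL * n0⁻¹ * (ι pL)⁻¹ ∈ D := by
        let u : Ny ⧸ D.subgroupOf Ny := QuotientGroup.mk' _ ⟨n0, hn0y⟩
        let v : Ny ⧸ D.subgroupOf Ny := QuotientGroup.mk' _ ⟨ι pL, hpy⟩
        have huv : u * v * u⁻¹ * v⁻¹ = 1 := by
          have e : ∀ g : Ny ⧸ D.subgroupOf Ny, g⁻¹ = g := fun g =>
            inv_eq_of_mul_eq_one_right (by rw [← pow_two]; exact hyNexp g)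
          have h := hyNexp (u * v)
          rw [pow_two, ← mul_assoc] at h
          rw [e u, e v]; exact h
        have := (QuotientGroup.eq_one_iff
          (N := D.subgroupOf Ny) ((⟨n0, hn0y⟩ : Ny) * ⟨ι pL, hpy⟩ * (⟨n0, hn0y⟩ : Ny)⁻¹ *
            (⟨ι pL, hpy⟩ : Ny)⁻¹)).1 (by
          simp only [u, v, ← map_inv, ← map_mul] at huv
          exact huv)
        simpa [mem_subgroupOf] using this
      -- the conjugate of `p` inverts the image of `zL`, so `p` does
      have hinvz : ι pL * ι bz * (ι pL)⁻¹ = (ι bz)⁻¹ := by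
        set d := n0 * ι pL * n0⁻¹ * (ι pL)⁻¹
        have hc : Commute d (ι pL * ι bz * (ι pL)⁻¹) := hcm _ hcomm4 _
          ((mem_normalizer_iff.1 hpN _).1 ((hDmem bz).2 hbz))
        have e : d * (ι pL * ι bz * (ι pL)⁻¹) * d⁻¹ = (ι bz)⁻¹ := by
          rw [show d * (ι pL * ι bz * (ι pL)⁻¹) * d⁻¹
            = (n0 * ι pL * n0⁻¹) * ι bz * (n0 * ι pL * n0⁻¹)⁻¹ by simp only [d]; group, hbz']
          calc (n0 * ι pL * n0⁻¹) * (n0 * ι zL * n0⁻¹) * (n0 * ι pL * n0⁻¹)⁻¹
              = n0 * ι (pL * zL * pL⁻¹) * n0⁻¹ := by simp only [map_mul, map_inv]; group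
            _ = (n0 * ι zL * n0⁻¹)⁻¹ := by rw [rel_p.2.1, map_inv]; group
        rwa [hc.eq, mul_assoc _ d d⁻¹, mul_inv_cancel, mul_one] at e
      rw [← map_inv, ← map_inv, ← map_mul, ← map_mul] at hinvz
      have := hinj hinvz
      obtain ⟨b0, hb0, hb0'⟩ := hbz2
      rcases hb0 with rfl | rfl <;> rcases hb0' with rfl | rfl <;> revert this <;> decide
    rcases Dm_cases hay with rfl | rfl | rfl | rfl | rfl | h | h | h | h
    · exact absurd (hay' ▸ (map_one ι).symm ▸ one_mem _) hyz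
    · exact absurd (hay' ▸ hzp ▸ mem_zpowers _) hyz
    · exact absurd (hay' ▸ hzp ▸ by simp) hyz
    · exact absurd (Or.inl rfl) hw
    · exact absurd (Or.inr rfl) hw
    · exact Or.inl h
    · exact Or.inr (Or.inl h)
    · exact Or.inr (Or.inr (Or.inl h))
    · exact Or.inr (Or.inr (Or.inr h))
  -- centralisers of the mixed elements
  have hyle : centralizer ({y} : Set G) ≤ normalizer (D : Set G) := by
    haveI := hyn
    have hle : D ≤ centralizer ({y} : Set G) := fun d hd => mem_cent.2 (hcm d hd y hyD)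
    exact normal_subgroupOf_iff_le_normalizer hle |>.1 hyn
  have mixed : ∀ b : L0, (b = zL * wL ∨ b = zL * wL⁻¹) → f (ι b) = 18 ∧
      centralizer ({ι b} : Set G) ≤ normalizer (D : Set G) := by
    have hq2 : (ι qL) * (ι (zL * wL)) * (ι qL)⁻¹ = ι (zL * wL⁻¹) := by
      rw [← map_inv, ← map_mul, ← map_mul]; exact congrArg ι (by decide)
    have hq3 : (ι qL) * (ι (zL * wL⁻¹)) * (ι qL)⁻¹ = ι (zL * wL) := by
      rw [← map_inv, ← map_mul, ← map_mul]; exact congrArg ι (by decide)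
    have step : ∀ a b : G, ι qL * a * (ι qL)⁻¹ = b →
        (f a = 18 ∧ centralizer ({a} : Set G) ≤ normalizer (D : Set G)) →
        f b = 18 ∧ centralizer ({b} : Set G) ≤ normalizer (D : Set G) := by
      rintro a b rfl ⟨ha, ha'⟩
      refine ⟨by rw [fconj, ha], fun g hg => ?_⟩
      have := ha' (mem_cent.2 (commute_conj (mem_cent.1 hg)))
      have h := mul_mem (mul_mem hqN this) (inv_mem hqN)
      simpa [mul_assoc] using h
    have base : f (ι ay) = 18 ∧ centralizer ({ι ay} : Set G) ≤ normalizer (D : Set G) := by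
      rw [hay']; exact ⟨fy, hyle⟩
    intro b hb
    rcases hyclass with rfl | rfl | rfl | rfl <;>
      (try rw [map_inv, finv, cent_inv] at base) <;> rcases hb with rfl | rfl
    · exact base
    · exact step _ _ hq2 base
    · exact base
    · exact step _ _ hq2 base
    · exact step _ _ hq3 base
    · exact base
    · exact step _ _ hq3 base
    · exact base
  have f18a := (mixed _ (Or.inl rfl)).1
  have f18b := (mixed _ (Or.inr rfl)).1
  have hsimple : ∀ b ∈ Dm, f (ι b) = 180 → b = zL ∨ b = zL⁻¹ ∨ b = wL ∨ b = wL⁻¹ ∨ b = 1 := by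
    intro b hb h180
    rcases Dm_cases hb with rfl | rfl | rfl | rfl | rfl | rfl | rfl | rfl | rfl
    all_goals first
      | (simp; done)
      | omega
      | (rw [map_inv, finv] at h180; omega)
  have norm_D : ∀ g ∈ normalizer (D : Set G), g * ι zL * g⁻¹ = ι zL ∨ g * ι zL * g⁻¹ = ι zL⁻¹ ∨
      g * ι zL * g⁻¹ = ι wL ∨ g * ι zL * g⁻¹ = ι wL⁻¹ := by
    intro g hg
    obtain ⟨b, hb, hb'⟩ := hcases _ ((mem_normalizer_iff.1 hg (ι zL)).1 ((hDmem _).2 zL_mem_Dm))
    have h180 : f (ι b) = 180 := by rw [hb', fconj, fz]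
    rcases hsimple b hb h180 with rfl | rfl | rfl | rfl | rfl
    · exact Or.inl hb'.symm
    · exact Or.inr (Or.inl hb'.symm)
    · exact Or.inr (Or.inr (Or.inl hb'.symm))
    · exact Or.inr (Or.inr (Or.inr hb'.symm))
    · rw [map_one, eq_comm, conj_eq_one_iff] at hb'
      exact absurd (hinj (hb'.trans (map_one ι).symm)) (by decide)
  have hz' : n0 * ι zL * n0⁻¹ = ι wL ∨ n0 * ι zL * n0⁻¹ = ι wL⁻¹ := by
    rcases norm_D n0 hn0 with h | h | h | h
    · exact absurd h hzmove.1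
    · exact absurd h hzmove.2
    · exact Or.inl h
    · exact Or.inr h
  have fw : f (ι wL) = 180 := by
    rcases hz' with h | h
    · rw [← h, fconj, fz]
    · rw [← finv, ← map_inv, ← h, fconj, fz]
  have hw' : n0 * ι wL * n0⁻¹ = ι zL ∨ n0 * ι wL * n0⁻¹ = ι zL⁻¹ := by
    rcases hsimple bw hbw (by rw [fbw, fw]) with rfl | rfl | rfl | rfl | rfl
    · exact Or.inl hbw'.symm
    · exact Or.inr hbw'.symm
    all_goals exfalso
    · rcases hz' with h | h
      · exact absurd (hinj ((MulAut.conj n0).injective (h.trans hbw'))) (by decide)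
      · have e : n0 * ι zL⁻¹ * n0⁻¹ = n0 * ι wL * n0⁻¹ := by
          rw [← hbw', map_inv, ← inv_inj, mul_inv_rev, mul_inv_rev, inv_inv, inv_inv, ← mul_assoc, h,
            map_inv]
        exact absurd (hinj ((MulAut.conj n0).injective e)) (by decide)
    · rcases hz' with h | h
      · have e : n0 * ι zL⁻¹ * n0⁻¹ = n0 * ι wL * n0⁻¹ := by
          rw [← hbw', map_inv, map_inv, ← h]; group
        exact absurd (hinj ((MulAut.conj n0).injective e)) (by decide)
      · exact absurd (hinj ((MulAut.conj n0).injective (h.trans hbw'))) (by decide)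
    · rw [map_one, eq_comm, conj_eq_one_iff] at hbw'
      exact absurd (hinj (hbw'.trans (map_one ι).symm)) (by decide)
  -- fix the signs
  obtain ⟨n1, hn1z, hn1w⟩ : ∃ n1 : G, n1 * ι zL * n1⁻¹ = ι wL ∧ n1 * ι wL * n1⁻¹ = ι zL := by
    have tr : ∀ (m : L0) (a b c : L0), n0 * ι a * n0⁻¹ = ι b → m * b * m⁻¹ = c →
        (ι m * n0) * ι a * (ι m * n0)⁻¹ = ι c := by
      intro m a b c h1 h2
      rw [← h2, map_mul, map_mul, map_inv, ← h1]; group
    rcases hz' with h | h <;> rcases hw' with h' | h'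
    · exact ⟨n0, h, h'⟩
    · exact ⟨ι pL * n0, tr _ _ _ _ h rel_p.2.2, tr _ _ _ _ h' (by decide)⟩
    · exact ⟨ι qL * n0, tr _ _ _ _ h (by decide), tr _ _ _ _ h' rel_q.2.1⟩
    · exact ⟨ι (pL * qL) * n0, tr _ _ _ _ h (by decide), tr _ _ _ _ h' (by decide)⟩
  -- fix the involutions
  have hcentD : ∀ g : G, Commute g (ι zL) → Commute g (ι wL) → g ∈ Dm.map ι := by
    intro g h1 h2
    rw [hD, ← hC]
    intro d hd
    obtain ⟨a, ha, rfl⟩ := hcases d hd
    have : Commute g (ι a) := by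
      rcases Dm_cases ha with rfl | rfl | rfl | rfl | rfl | rfl | rfl | rfl | rfl <;>
        (try simp only [map_one, map_mul, map_inv]) <;>
        first
          | exact Commute.one_right g
          | exact h1
          | exact h2
          | exact h1.inv_right
          | exact h2.inv_right
          | exact h1.mul_right h2
          | exact (h1.mul_right h2).inv_right
          | exact h1.mul_right h2.inv_right
          | exact (h1.mul_right h2.inv_right).inv_right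
    exact this.eq.symm
  have image : ∀ (r r' : L0), r * r = 1 → ι r' ∈ normalizer (D : Set G) →
      n1 * ι (r * wL * r⁻¹) * n1⁻¹ = ι (r' * zL * r'⁻¹) →
      n1 * ι (r * zL * r⁻¹) * n1⁻¹ = ι (r' * wL * r'⁻¹) →
      ∃ d ∈ Dm, n1 * ι r * n1⁻¹ = ι (d * r') ∧ (d * r') * (d * r') = 1 := by
    intro r r' hr hr' hzc hwc
    set x := n1 * ι r * n1⁻¹ with hxdef
    have comm : ∀ a a' : L0, n1 * ι a * n1⁻¹ = ι a' →
        n1 * ι (r * a * r⁻¹) * n1⁻¹ = ι (r' * a' * r'⁻¹) → Commute ((ι r')⁻¹ * x) (ι a') := by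
      intro a a' h1 h2
      have e : x * ι a' * x⁻¹ = ι r' * ι a' * (ι r')⁻¹ := by
        rw [← map_inv, ← map_mul, ← map_mul, ← h2, ← h1, hxdef]
        simp only [map_mul, map_inv]; group
      calc (ι r')⁻¹ * x * ι a' = (ι r')⁻¹ * (x * ι a' * x⁻¹) * x := by group
        _ = ι a' * ((ι r')⁻¹ * x) := by rw [e]; group
    obtain ⟨d, hd, hd'⟩ := hcentD ((ι r')⁻¹ * x) (comm wL zL hn1w hzc) (comm zL wL hn1z hwc)
    have hx : x = ι (r' * d) := by rw [map_mul, hd']; group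
    have hdc : r' * d * r'⁻¹ ∈ Dm := (hDmem _).1 (by
      rw [map_mul, map_mul, map_inv]; exact (mem_normalizer_iff.1 hr' _).1 ((hDmem d).2 hd))
    refine ⟨r' * d * r'⁻¹, hdc, by rw [hx]; congr 1; group, hinj ?_⟩
    rw [map_one, show r' * d * r'⁻¹ * r' * (r' * d * r'⁻¹ * r') = (r' * d) * (r' * d) by group,
      map_mul, ← hx, hxdef]
    calc n1 * ι r * n1⁻¹ * (n1 * ι r * n1⁻¹) = n1 * ι (r * r) * n1⁻¹ := by rw [map_mul]; group
      _ = 1 := by rw [hr, map_one]; group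
  obtain ⟨dq, hdq, hdq', hdq2⟩ := image pL qL rel_p.1 hqN
    (by rw [rel_p.2.2, rel_q.2.1]; exact hn1w)
    (by rw [rel_p.2.1, rel_q.2.2, map_inv, map_inv, ← hn1z]; group)
  obtain ⟨dp, hdp, hdp', hdp2⟩ := image qL pL rel_q.1 hpN
    (by rw [rel_q.2.2, rel_p.2.1, map_inv, map_inv, ← hn1w]; group)
    (by rw [rel_q.2.1, rel_p.2.2]; exact hn1z)
  obtain ⟨mq, hmq, hmq'⟩ := fix_q hdq hdq2
  obtain ⟨mp, hmp, hmp'⟩ := fix_p hdp hdp2
  have h1 : mq * zL = zL * mq ∧ mq * wL = wL * mq ∧ mq * pL = pL * mq := by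
    rcases hmq with rfl | rfl | rfl <;> decide
  have h2 : mp * zL = zL * mp ∧ mp * wL = wL * mp ∧ mp * qL = qL * mp := by
    rcases hmp with rfl | rfl | rfl <;> decide
  have hm : mp * mq * zL * (mp * mq)⁻¹ = zL ∧ mp * mq * wL * (mp * mq)⁻¹ = wL := by
    constructor
    · rw [mul_assoc mp mq zL, h1.1, ← mul_assoc, h2.1]; group
    · rw [mul_assoc mp mq wL, h1.2.1, ← mul_assoc, h2.2.1]; group
  have tr : ∀ (a b c : L0), n1 * ι a * n1⁻¹ = ι b → (mp * mq) * b * (mp * mq)⁻¹ = c →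
      (ι (mp * mq) * n1) * ι a * (ι (mp * mq) * n1)⁻¹ = ι c := by
    intro a b c e1 e2
    rw [← e2, map_mul (f := ι) _ (mp * mq)⁻¹, map_mul (f := ι) (mp * mq) b, map_inv, ← e1]
    group
  refine ⟨{
    ι := ι
    inj := hinj
    range_eq := hrN
    not_dvd := fun h => ?_
    cent_D := hcentD
    card_z := fz
    card_y := f18a
    card_y' := f18b
    cent_y := hD.symm ▸ (mixed _ (Or.inl rfl)).2
    cent_y' := hD.symm ▸ (mixed _ (Or.inr rfl)).2
    norm_D := hD.symm ▸ norm_D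
    n := ι (mp * mq) * n1
    n_z := tr _ _ _ hn1z hm.2
    n_w := tr _ _ _ hn1w hm.1
    n_p := tr _ _ _ hdq' (by
      rw [show mp * mq * (dq * qL) * (mp * mq)⁻¹ = mp * (mq * (dq * qL) * mq⁻¹) * mp⁻¹ by group,
        hmq', h2.2.2]; group)
    n_q := tr _ _ _ hdp' (by
      have e : mq * (dp * pL) * mq⁻¹ = dp * pL := by
        have hd : mq * dp = dp * mq := by
          rcases hmq with rfl | rfl | rfl <;>
            rcases Dm_cases hdp with rfl | rfl | rfl | rfl | rfl | rfl | rfl | rfl | rfl <;> decide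
        rw [← mul_assoc, hd, mul_assoc dp, h1.2.2]; group
      rw [show mp * mq * (dp * pL) * (mp * mq)⁻¹ = mp * (mq * (dp * pL) * mq⁻¹) * mp⁻¹ by group,
        e, hmp']) }⟩
  have hP := P.card_eq_multiplicity
  rw [← hDP, hcard] at hP
  have h27 : 3 ≤ (Nat.card G).factorization 3 :=
    (Nat.Prime.pow_dvd_iff_le_factorization Nat.prime_three Nat.card_pos.ne').1 h
  have := Nat.pow_le_pow_right (show 3 > 0 by norm_num) h27
  omega

end CfsgLib.AltEightThree
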