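import Cfsg.Agent.Lib.AltEightThree.Pres
import Cfsg.Agent.Lib.AltEightThree.Local
import Cfsg.Agent.Lib.AltEightThree.Emb
import Mathlib.GroupTheory.Perm.Support
import Mathlib.GroupTheory.SpecificGroups.Alternating.Simple

/-!
The two normalisers generate a copy of the alternating group on eight points.
-/

set_option autoImplicit false
set_option maxRecDepth 20000
set_option linter.style.haveILetI false

namespace CfsgLib.AltEightThree

open Equiv Equiv.Perm

namespace Gen

def k3 : L0 := ⟨(swap 0 1, swap 1 2), mem_L0.2 (by decide)⟩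
def k5 : L0 := ⟨(swap 0 1, swap 3 4), mem_L0.2 (by decide)⟩

theorem e1_gen : e1 zL = gen 0 ∧ e1 pL = gen 2 ∧ e1 k3 = gen 3 ∧ e1 (pL * qL) = gen 4 ∧
    e1 k5 = gen 5 :=
  ⟨Subtype.ext (by rw [coe_e1]; decide), Subtype.ext (by rw [coe_e1]; decide),
    Subtype.ext (by rw [coe_e1]; decide), Subtype.ext (by rw [coe_e1]; decide),
    Subtype.ext (by rw [coe_e1]; decide)⟩

theorem k5_eq : k5 = wL * (pL * qL) * wL⁻¹ ∧ k3 = k5 * tL := by decide

theorem conj_n : n * z * n⁻¹ = w := Subtype.ext (by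
  change pn * pz * pn⁻¹ = pw
  decide)

theorem closure_L0 : Subgroup.closure ({zL, pL, k3, pL * qL, k5} : Set L0) = ⊤ := by
  set K := Subgroup.closure ({zL, pL, k3, pL * qL, k5} : Set L0) with hK
  have hgz : zL ∈ K := Subgroup.subset_closure (by simp)
  have hsw : ∀ i : Fin 4, ∀ h : ((swap (0 : Fin 3) 1, swap i.castSucc i.succ) : P35) ∈ L0,
      (⟨_, h⟩ : L0) ∈ K := by
    intro i h
    fin_cases i
    · exact Subgroup.subset_closure (by simp only [Set.mem_insert_iff, Set.mem_singleton_iff, Subtype.ext_iff]; decide)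
    · exact Subgroup.subset_closure (by simp only [Set.mem_insert_iff, Set.mem_singleton_iff, Subtype.ext_iff]; decide)
    · exact Subgroup.subset_closure (by simp only [Set.mem_insert_iff, Set.mem_singleton_iff, Subtype.ext_iff]; decide)
    · exact Subgroup.subset_closure (by simp only [Set.mem_insert_iff, Set.mem_singleton_iff, Subtype.ext_iff]; decide)
  have key : ∀ (b : Perm (Fin 5)) (a : Perm (Fin 3)) (hab : (a, b) ∈ L0), (⟨(a, b), hab⟩ : L0) ∈ K := by
    intro b
    have hb : b ∈ Submonoid.closure (Set.range fun i : Fin 4 => Equiv.swap i.castSucc i.succ) := by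
      rw [Equiv.Perm.mclosure_swap_castSucc_succ]; trivial
    induction hb using Submonoid.closure_induction_right with
    | one =>
      intro a hab
      have ha : Perm.sign a = 1 := by simpa [Ok] using mem_L0.1 hab
      have h3 : ∀ a : Perm (Fin 3), Perm.sign a = 1 → a = 1 ∨ a = zL.1.1 ∨ a = zL.1.1⁻¹ := by decide
      rcases h3 a ha with rfl | rfl | rfl
      · exact one_mem K
      · exact hgz
      · exact (show (⟨_, hab⟩ : L0) = zL⁻¹ from Subtype.ext (Prod.ext rfl (inv_one).symm)) ▸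
          inv_mem hgz
    | mul_right τ _ s hs ih =>
      obtain ⟨i, rfl⟩ := hs
      intro a hab
      have hsgn : Perm.sign (swap i.castSucc i.succ) = -1 :=
        Equiv.Perm.sign_swap (by simp [Fin.ext_iff])
      have h01 : ((swap (0 : Fin 3) 1, swap i.castSucc i.succ) : P35) ∈ L0 := by
        rw [mem_L0]
        change Perm.sign (swap (0 : Fin 3) 1) * Perm.sign (swap i.castSucc i.succ) = 1
        rw [hsgn, Equiv.Perm.sign_swap (by decide)]; rfl
      have hpre : (a * swap (0 : Fin 3) 1, τ) ∈ L0 := by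
        have := mul_mem hab (inv_mem h01)
        simpa [mul_assoc] using this
      have := mul_mem (ih _ hpre) (hsw i h01)
      have e : (⟨(a, τ * swap i.castSucc i.succ), hab⟩ : L0) =
          ⟨_, hpre⟩ * ⟨_, h01⟩ := Subtype.ext (Prod.ext (by simp [mul_assoc]) rfl)
      rw [e]; exact this
  exact eq_top_iff.2 fun g _ => key g.1.2 g.1.1 g.2

theorem sq_prod {G : Type*} [Group G] {a b : G} (ha : a * a = 1) (hb : b * b = 1)
    (h : Commute a b) : (a * b) ^ 2 = 1 := by
  rw [h.mul_pow, pow_two, pow_two, ha, hb, one_mul]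

theorem commute_of_sq {G : Type*} [Group G] {a b : G} (ha : a * a = 1) (hb : b * b = 1)
    (h : (a * b) ^ 2 = 1) : Commute a b := by
  rw [pow_two] at h
  have := eq_inv_of_mul_eq_one_left h
  rwa [mul_inv_rev, inv_eq_of_mul_eq_one_left ha, inv_eq_of_mul_eq_one_left hb] at this

variable {G : Type*} [Group G]

theorem exists_phi (d : Data G) (k1 : L0) (hk : k1 * k1 = 1 ∧ (wL * k1) ^ 3 = 1 ∧ (k1 * qL) ^ 3 = 1 ∧
      (k1 * (qL * pL)) ^ 2 = 1 ∧ (k1 * (zL * (qL * pL) * zL⁻¹)) ^ 2 = 1)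
    (ht : Commute (d.ι tL) (d.ψ k1)) :
    ∃ φ : A8 →* G, φ.comp e1 = d.ι := by
  have hψ : ∀ a : L0, d.ψ a = d.n * d.ι a * d.n⁻¹ := fun _ => rfl
  have ew : d.ψ wL = d.ι zL := (hψ _).trans d.n_w
  have eq' : d.ψ qL = d.ι pL := (hψ _).trans d.n_q
  have e4 : d.ψ (qL * pL) = d.ι (pL * qL) := by
    rw [map_mul, map_mul, eq', hψ, d.n_p]
  have e5 : d.ψ (zL * (qL * pL) * zL⁻¹) = d.ι k5 := by
    rw [map_mul, map_mul, map_inv, e4, hψ zL, d.n_z, k5_eq.1]
    simp only [map_mul, map_inv]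
  let X : ℕ → G
    | 0 => d.ι zL
    | 1 => d.ψ k1
    | 2 => d.ι pL
    | 3 => d.ι k3
    | 4 => d.ι (pL * qL)
    | 5 => d.ι k5
    | _ => 1
  have s1 : d.ψ k1 * d.ψ k1 = 1 := by rw [← map_mul, hk.1, map_one]
  have si : ∀ a : L0, a * a = 1 → d.ι a * d.ι a = 1 := fun a ha => by rw [← map_mul, ha, map_one]
  have h5 : (d.ψ k1 * d.ι k5) ^ 2 = 1 := by rw [← e5, ← map_mul, ← map_pow, hk.2.2.2.2, map_one]
  have h13 : Commute (d.ψ k1) (d.ι k3) := by
    rw [k5_eq.2, map_mul]
    exact (commute_of_sq s1 (si k5 (by decide)) h5).mul_right ht.symm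
  have pw : ∀ (a b : L0) (m : ℕ), (a * b) ^ m = 1 → (d.ι a * d.ι b) ^ m = 1 := fun a b m h => by
    rw [← map_mul, ← map_pow, h, map_one]
  have hX : Present.AltRel X 6 := by
    refine ⟨fun _ => ?_, fun i h1 h2 => ?_, fun i h => ?_, fun i j h h2 => ?_⟩
    · change d.ι zL ^ 3 = 1
      rw [← map_pow, show zL ^ 3 = 1 by decide, map_one]
    · interval_cases i
      · exact s1
      all_goals exact si _ (by decide)
    · have : i < 5 := by omega
      interval_cases i
      · change (d.ι zL * d.ψ k1) ^ 3 = 1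
        rw [← ew, ← map_mul, ← map_pow, hk.2.1, map_one]
      · change (d.ψ k1 * d.ι pL) ^ 3 = 1
        rw [← eq', ← map_mul, ← map_pow, hk.2.2.1, map_one]
      all_goals exact pw _ _ 3 (by decide)
    · have : i < 4 := by omega
      interval_cases i <;> interval_cases j
      all_goals first
        | exact pw _ _ 2 (by decide)
        | exact sq_prod s1 (si _ (by decide)) h13
        | exact h5
        | (change (d.ψ k1 * d.ι (pL * qL)) ^ 2 = 1
           rw [← e4, ← map_mul, ← map_pow, hk.2.2.2.1, map_one])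
  obtain ⟨φ, hφ⟩ := exists_hom hX
  refine ⟨φ, MonoidHom.eq_of_eqOn_dense closure_L0 ?_⟩
  obtain ⟨g0, g2, g3, g4, g5⟩ := e1_gen
  rintro a (rfl | rfl | rfl | rfl | rfl) <;> rw [MonoidHom.comp_apply]
  · rw [g0, hφ 0 (by norm_num)] <;> rfl
  · rw [g2, hφ 2 (by norm_num)] <;> rfl
  · rw [g3, hφ 3 (by norm_num)] <;> rfl
  · rw [g4, hφ 4 (by norm_num)] <;> rfl
  · rw [g5, hφ 5 (by norm_num)] <;> rfl

theorem mem_normalizer_zp {a g : G} (h : g * a * g⁻¹ = a ∨ g * a * g⁻¹ = a⁻¹) :
    g ∈ Subgroup.normalizer (Subgroup.zpowers a : Set G) := by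
  rw [Subgroup.mem_normalizer_iff_map_conj_eq, MonoidHom.map_zpowers]
  rcases h with h | h <;> simp [MulAut.conj_apply, h]

/-- An embedding from the homomorphism and the location of one centraliser. -/
theorem exists_emb [Finite G] (d : Data G) (φ : A8 →* G) (hφ : φ.comp e1 = d.ι)
    (hfour : Subgroup.centralizer ({d.ι tL, d.ι sL} : Set G) ≤ d.ι.range ⊔ d.ψ.range) :
    Nonempty (Emb G) := by
  have hi : ∀ a, φ (e1 a) = d.ι a := fun a => DFunLike.congr_fun hφ a
  have hz : φ z = d.ι zL := by rw [← e1_zL, hi]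
  have hw : φ w = d.ι wL := by rw [← e1_wL, hi]
  have hιle : d.ι.range ≤ φ.range := by
    rintro g ⟨a, rfl⟩; exact ⟨e1 a, hi a⟩
  have hN : Subgroup.normalizer (Subgroup.zpowers (d.ι zL) : Set G) ≤ φ.range :=
    d.range_eq ▸ hιle
  have hn : d.n ∈ φ.range := by
    have hc : φ n * d.ι zL * (φ n)⁻¹ = d.ι wL := by
      rw [← hz, ← hw, ← map_inv, ← map_mul, ← map_mul, conj_n]
    have : (φ n)⁻¹ * d.n ∈ φ.range := hN (mem_normalizer_zp (Or.inl (by
      calc (φ n)⁻¹ * d.n * d.ι zL * ((φ n)⁻¹ * d.n)⁻¹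
          = (φ n)⁻¹ * (d.n * d.ι zL * d.n⁻¹) * φ n := by group
        _ = d.ι zL := by rw [d.n_z, ← hc]; group)))
    simpa using mul_mem (MonoidHom.mem_range.2 ⟨n, rfl⟩ : φ n ∈ φ.range) this
  have hψle : d.ψ.range ≤ φ.range := by
    rintro g ⟨a, rfl⟩
    exact mul_mem (mul_mem hn (hιle ⟨a, rfl⟩)) (inv_mem hn)
  have hinj : Function.Injective φ := by
    rw [← MonoidHom.ker_eq_bot_iff]
    haveI : IsSimpleGroup (alternatingGroup (Fin 8)) := alternatingGroup.isSimpleGroup (by simp)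
    refine (IsSimpleGroup.eq_bot_or_eq_top_of_normal φ.ker inferInstance).resolve_right fun h => ?_
    have : φ z = 1 := MonoidHom.mem_ker.1 (h ▸ Subgroup.mem_top z)
    rw [hz, ← map_one d.ι] at this
    exact absurd (d.inj this) (by decide)
  refine ⟨{
    φ := φ
    inj := hinj
    not_dvd := d.not_dvd
    le_z := hz ▸ hN
    le_y := fun g hg => ?_
    le_four := ?_ }⟩
  · rw [y, map_mul, hz, hw, ← map_mul] at hg
    have hgD := d.cent_y hg
    have back : d.n⁻¹ * g ∈ φ.range → g ∈ φ.range := fun h => by simpa using mul_mem hn h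
    rcases d.norm_D g hgD with h | h | h | h
    · exact hN (mem_normalizer_zp (Or.inl h))
    · exact hN (mem_normalizer_zp (Or.inr (by rw [h, map_inv])))
    · refine back (hN (mem_normalizer_zp (Or.inl ?_)))
      calc d.n⁻¹ * g * d.ι zL * (d.n⁻¹ * g)⁻¹ = d.n⁻¹ * (g * d.ι zL * g⁻¹) * d.n := by group
        _ = d.ι zL := by rw [h, ← d.n_z]; group
    · refine back (hN (mem_normalizer_zp (Or.inr ?_)))
      calc d.n⁻¹ * g * d.ι zL * (d.n⁻¹ * g)⁻¹ = d.n⁻¹ * (g * d.ι zL * g⁻¹) * d.n := by group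
        _ = (d.ι zL)⁻¹ := by rw [h, map_inv, ← d.n_z]; group
  · rw [← e1_tL, ← e1_sL, hi, hi]
    exact hfour.trans (sup_le hιle hψle)

end Gen

end CfsgLib.AltEightThree
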