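import Mathlib.GroupTheory.SpecificGroups.Alternating
import Mathlib.Logic.Equiv.Fin.Basic
import Mathlib.GroupTheory.Perm.Sign
import Mathlib.Tactic

/-!
The concrete elements of the alternating group on eight points used by the three-local
characterisation of that group.
-/

set_option autoImplicit false

namespace CfsgLib.AltEightThree

open Equiv Equiv.Perm

/-- The model group. -/
abbrev A8 : Subgroup (Perm (Fin 8)) := alternatingGroup (Fin 8)

theorem mem_A8 {g : Perm (Fin 8)} : g ∈ A8 ↔ Perm.sign g = 1 := Equiv.Perm.mem_alternatingGroup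

/-- `(0 1 2)` -/
def pz : Perm (Fin 8) := swap 0 1 * swap 1 2
/-- `(5 6 7)` -/
def pw : Perm (Fin 8) := swap 5 6 * swap 6 7
/-- `(0 1)(3 4)` -/
def pp : Perm (Fin 8) := swap 0 1 * swap 3 4
/-- `(3 4)(5 6)` -/
def pq : Perm (Fin 8) := swap 3 4 * swap 5 6
/-- `(4 5)(6 7)` -/
def pt : Perm (Fin 8) := swap 4 5 * swap 6 7
/-- `(4 6)(5 7)` -/
def ps : Perm (Fin 8) := swap 4 6 * swap 5 7
/-- `(0 1)(2 3)` -/
def pu : Perm (Fin 8) := swap 0 1 * swap 2 3
/-- `(0 2)(1 3)` -/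
def pv : Perm (Fin 8) := swap 0 2 * swap 1 3
/-- `(0 5)(1 6)(2 7)(3 4)`, exchanging `(0 1 2)` and `(5 6 7)` -/
def pn : Perm (Fin 8) := swap 0 5 * swap 1 6 * swap 2 7 * swap 3 4

def z : A8 := ⟨pz, mem_A8.2 (by decide)⟩
def w : A8 := ⟨pw, mem_A8.2 (by decide)⟩
def p : A8 := ⟨pp, mem_A8.2 (by decide)⟩
def q : A8 := ⟨pq, mem_A8.2 (by decide)⟩
def t : A8 := ⟨pt, mem_A8.2 (by decide)⟩
def s : A8 := ⟨ps, mem_A8.2 (by decide)⟩
def u : A8 := ⟨pu, mem_A8.2 (by decide)⟩
def v : A8 := ⟨pv, mem_A8.2 (by decide)⟩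
def n : A8 := ⟨pn, mem_A8.2 (by decide)⟩
/-- `(0 1 2)(5 6 7)` -/
def y : A8 := z * w

/-- Permutations of the blocks `{0,1,2}` and `{3,…,7}`. -/
def emb35 : Perm (Fin 3) × Perm (Fin 5) →* Perm (Fin 8) :=
  (finSumFinEquiv (m := 3) (n := 5)).permCongrHom.toMonoidHom.comp
    (Perm.sumCongrHom (Fin 3) (Fin 5))

/-- Permutations of the blocks `{0,…,3}` and `{4,…,7}`. -/
def emb44 : Perm (Fin 4) × Perm (Fin 4) →* Perm (Fin 8) :=
  (finSumFinEquiv (m := 4) (n := 4)).permCongrHom.toMonoidHom.comp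
    (Perm.sumCongrHom (Fin 4) (Fin 4))

theorem emb35_injective : Function.Injective emb35 :=
  (finSumFinEquiv (m := 3) (n := 5)).permCongrHom.injective.comp Perm.sumCongrHom_injective

theorem emb44_injective : Function.Injective emb44 :=
  (finSumFinEquiv (m := 4) (n := 4)).permCongrHom.injective.comp Perm.sumCongrHom_injective

theorem sign_emb35 (a : Perm (Fin 3) × Perm (Fin 5)) :
    Perm.sign (emb35 a) = Perm.sign a.1 * Perm.sign a.2 := by
  simp [emb35, Equiv.permCongrHom, Equiv.Perm.sign_sumCongr]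

theorem sign_emb44 (a : Perm (Fin 4) × Perm (Fin 4)) :
    Perm.sign (emb44 a) = Perm.sign a.1 * Perm.sign a.2 := by
  simp [emb44, Equiv.permCongrHom, Equiv.Perm.sign_sumCongr]

theorem emb35_pz : emb35 (swap 0 1 * swap 1 2, 1) = pz := by decide
theorem emb44_pt : emb44 (1, swap 0 1 * swap 2 3) = pt := by decide

end CfsgLib.AltEightThree
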