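import Cfsg.Agent.Lib.AltEightThree.Model
import Cfsg.Agent.Lib.Present.AltCosets
import Cfsg.Agent.Lib.Schur.AltDegree

/-!
Homomorphisms out of the alternating group on eight points from the Moore–Carmichael relations.
-/

set_option autoImplicit false

namespace CfsgLib.AltEightThree

open Equiv Equiv.Perm

/-- The Moore–Carmichael generators. -/
def pgen : ℕ → Perm (Fin 8)
  | 0 => swap 0 1 * swap 1 2
  | 1 => swap 0 1 * swap 2 3
  | 2 => swap 0 1 * swap 3 4
  | 3 => swap 0 1 * swap 4 5
  | 4 => swap 0 1 * swap 5 6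
  | 5 => swap 0 1 * swap 6 7
  | _ => 1

theorem pgen_mem : ∀ i, pgen i ∈ A8
  | 0 => mem_A8.2 (by decide)
  | 1 => mem_A8.2 (by decide)
  | 2 => mem_A8.2 (by decide)
  | 3 => mem_A8.2 (by decide)
  | 4 => mem_A8.2 (by decide)
  | 5 => mem_A8.2 (by decide)
  | _ + 6 => one_mem _

/-- The generators inside the model group. -/
def gen (i : ℕ) : A8 := ⟨pgen i, pgen_mem i⟩

theorem pgen_rel : Present.AltRel pgen 6 := by
  have hsq : ∀ i : Fin 6, 1 ≤ i.val → pgen i.val * pgen i.val = 1 := by decide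
  have hbr : ∀ i : Fin 5, (pgen i.val * pgen (i.val + 1)) ^ 3 = 1 := by decide
  have hfar : ∀ i j : Fin 6, i.val + 1 < j.val → (pgen i.val * pgen j.val) ^ 2 = 1 := by decide
  exact ⟨fun _ => by decide, fun i h1 h2 => hsq ⟨i, h2⟩ h1, fun i h => hbr ⟨i, by omega⟩,
    fun i j h h2 => hfar ⟨i, by omega⟩ ⟨j, h2⟩ h⟩

theorem closure_gen : Subgroup.closure (gen '' {i | i < 6}) = ⊤ := by
  have h8 : (4 : ℕ) ≤ 8 := by norm_num
  have himg : CfsgLib.SchurAltDeg.gen h8 '' {i | i < 8 - 2} = pgen '' {i | i < 6} := by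
    have : ∀ i : Fin 6, CfsgLib.SchurAltDeg.gen (by norm_num : (4 : ℕ) ≤ 8) i.val = pgen i.val := by
      decide
    exact Set.image_congr fun i hi => this ⟨i, hi⟩
  refine eq_top_iff.2 fun g _ => ?_
  have hg := CfsgLib.SchurAltDeg.closure_gen h8 g.2
  rw [himg, show pgen '' {i | i < 6} = A8.subtype '' (gen '' {i | i < 6}) from by
    rw [Set.image_image]; rfl, ← MonoidHom.map_closure] at hg
  obtain ⟨g', hg', he⟩ := hg
  rwa [show g' = g from Subtype.ext he] at hg'

theorem card_alt (m : ℕ) :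
    2 * Nat.card (alternatingGroup (Fin (m + 2))) = (m + 2).factorial := by
  rw [Nat.card_eq_fintype_card, two_mul_card_alternatingGroup, Fintype.card_perm, Fintype.card_fin]

variable {G : Type*} [Group G]

/-- A family satisfying the relations is the image of the generators under a homomorphism. -/
theorem exists_hom {X : ℕ → G} (h : Present.AltRel X 6) :
    ∃ φ : A8 →* G, ∀ i < 6, φ (gen i) = X i := by
  let x : ℕ → A8 × G := fun i => (gen i, X i)
  have hx : Present.AltRel x 6 := by
    have hg : Present.AltRel gen 6 :=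
      ⟨fun h0 => Subtype.ext (pgen_rel.cube h0), fun i h1 h2 => Subtype.ext (pgen_rel.sq i h1 h2),
        fun i hi => Subtype.ext (pgen_rel.braid i hi),
        fun i j hij hj => Subtype.ext (pgen_rel.far i j hij hj)⟩
    exact ⟨fun h0 => Prod.ext (hg.cube h0) (h.cube h0),
      fun i h1 h2 => Prod.ext (hg.sq i h1 h2) (h.sq i h1 h2),
      fun i hi => Prod.ext (hg.braid i hi) (h.braid i hi),
      fun i j hij hj => Prod.ext (hg.far i j hij hj) (h.far i j hij hj)⟩
  obtain ⟨hfin, hcard⟩ := Present.firstGen_bound hx 6 le_rfl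
  let Γ := Present.firstGen x 6
  haveI : Finite Γ := hfin.to_subtype
  let π : Γ →* A8 := (MonoidHom.fst A8 G).comp Γ.subtype
  have hsurj : Function.Surjective π := by
    rw [← MonoidHom.range_eq_top, MonoidHom.range_comp, Subgroup.range_subtype,
      show Γ = Subgroup.closure (x '' {i | i < 6}) from rfl, MonoidHom.map_closure, Set.image_image]
    exact closure_gen
  have hbij : Function.Bijective π := hsurj.bijective_of_nat_card_le (by
    have h3 : Nat.card Γ = (Γ : Set (A8 × G)).ncard := Nat.card_coe_set_eq _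
    have h4 : 2 * Nat.card Γ ≤ (6 + 2).factorial := h3.symm ▸ hcard
    rw [← card_alt 6] at h4
    exact Nat.le_of_mul_le_mul_left h4 two_pos)
  refine ⟨(MonoidHom.snd A8 G).comp
    (Γ.subtype.comp (MulEquiv.ofBijective π hbij).symm.toMonoidHom), fun i hi => ?_⟩
  have he : (MulEquiv.ofBijective π hbij).symm (gen i) = ⟨x i, Present.mem_firstGen x hi⟩ :=
    (MulEquiv.symm_apply_eq _).2 rfl
  simp only [MonoidHom.comp_apply, MulEquiv.coe_toMonoidHom, he]
  rfl

end CfsgLib.AltEightThree
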