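import Cfsg.Agent.Lib.AltEightThree.Model
import Mathlib.GroupTheory.Sylow
import Mathlib.Algebra.Group.Subgroup.Pointwise

/-!
The subgroup of index two of the direct product of the symmetric groups on three and five points.
-/

set_option autoImplicit false
set_option maxRecDepth 20000

namespace CfsgLib.AltEightThree

open Equiv Equiv.Perm
open scoped Pointwise

/-- Pairs of permutations of three and five points. -/
abbrev P35 : Type := Perm (Fin 3) × Perm (Fin 5)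

/-- The pairs whose signs agree. -/
abbrev L0 : Subgroup P35 :=
  (((Equiv.Perm.sign).comp (MonoidHom.fst (Equiv.Perm (Fin 3)) (Equiv.Perm (Fin 5)))) *
    ((Equiv.Perm.sign).comp (MonoidHom.snd (Equiv.Perm (Fin 3)) (Equiv.Perm (Fin 5))))).ker

/-- Signs agree. -/
def Ok (a : P35) : Prop := Perm.sign a.1 * Perm.sign a.2 = 1

instance : DecidablePred Ok := fun a => inferInstanceAs (Decidable (_ = _))

theorem mem_L0 {a : P35} : a ∈ L0 ↔ Ok a := by simp [Ok]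

/-- The blockwise embedding into the model group. -/
def e1 : L0 →* A8 :=
  (emb35.comp L0.subtype).codRestrict A8 fun a => by
    rw [mem_A8, MonoidHom.comp_apply, sign_emb35]; exact mem_L0.1 a.2

theorem e1_injective : Function.Injective e1 := fun _ _ h =>
  Subtype.ext (emb35_injective (congrArg Subtype.val h))

theorem coe_e1 (a : L0) : (e1 a : Perm (Fin 8)) = emb35 a := rfl

def zL : L0 := ⟨(swap 0 1 * swap 1 2, 1), mem_L0.2 (by decide)⟩
def wL : L0 := ⟨(1, swap 2 3 * swap 3 4), mem_L0.2 (by decide)⟩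
def pL : L0 := ⟨(swap 0 1, swap 0 1), mem_L0.2 (by decide)⟩
def qL : L0 := ⟨(1, swap 0 1 * swap 2 3), mem_L0.2 (by decide)⟩
def tL : L0 := ⟨(1, swap 1 2 * swap 3 4), mem_L0.2 (by decide)⟩
def sL : L0 := ⟨(1, swap 1 3 * swap 2 4), mem_L0.2 (by decide)⟩
def fL : L0 := ⟨(1, swap 0 1 * swap 1 2 * swap 2 3 * swap 3 4), mem_L0.2 (by decide)⟩

theorem e1_zL : e1 zL = z := Subtype.ext (by rw [coe_e1]; decide)
theorem e1_wL : e1 wL = w := Subtype.ext (by rw [coe_e1]; decide)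
theorem e1_pL : e1 pL = p := Subtype.ext (by rw [coe_e1]; decide)
theorem e1_qL : e1 qL = q := Subtype.ext (by rw [coe_e1]; decide)
theorem e1_tL : e1 tL = t := Subtype.ext (by rw [coe_e1]; decide)
theorem e1_sL : e1 sL = s := Subtype.ext (by rw [coe_e1]; decide)

/-- The nine elements of the chosen Sylow subgroup. -/
def InD (a : P35) : Prop := (a.1 = 1 ∨ a.1 = zL.1.1 ∨ a.1 = zL.1.1⁻¹) ∧
  (a.2 = 1 ∨ a.2 = wL.1.2 ∨ a.2 = wL.1.2⁻¹)

instance : DecidablePred InD := fun a => inferInstanceAs (Decidable (_ ∧ _))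

theorem InD.mul {a b : P35} (ha : InD a) (hb : InD b) : InD (a * b) := by
  have h1 : ∀ x y : Perm (Fin 3), (x = 1 ∨ x = zL.1.1 ∨ x = zL.1.1⁻¹) →
      (y = 1 ∨ y = zL.1.1 ∨ y = zL.1.1⁻¹) → (x * y = 1 ∨ x * y = zL.1.1 ∨ x * y = zL.1.1⁻¹) := by
    decide
  have h2 : ∀ x : Perm (Fin 5), (x = 1 ∨ x = wL.1.2 ∨ x = wL.1.2⁻¹) → ∀ y : Perm (Fin 5),
      (y = 1 ∨ y = wL.1.2 ∨ y = wL.1.2⁻¹) → (x * y = 1 ∨ x * y = wL.1.2 ∨ x * y = wL.1.2⁻¹) := by
    intro x hx y hy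
    rcases hx with rfl | rfl | rfl <;> rcases hy with rfl | rfl | rfl <;> decide
  exact ⟨h1 _ _ ha.1 hb.1, h2 _ ha.2 _ hb.2⟩

/-- The chosen Sylow subgroup. -/
def Dm : Subgroup L0 where
  carrier := {a | InD a.1}
  one_mem' := ⟨Or.inl rfl, Or.inl rfl⟩
  mul_mem' := InD.mul
  inv_mem' := fun {a} ha => by
    obtain ⟨h1, h2⟩ := ha
    refine ⟨?_, ?_⟩
    · rcases h1 with h | h | h <;> simp [h]
    · rcases h2 with h | h | h <;> simp [h]

theorem mem_Dm {a : L0} : a ∈ Dm ↔ InD a.1 := Iff.rfl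

theorem zL_mem_Dm : zL ∈ Dm := ⟨Or.inr (Or.inl rfl), Or.inl rfl⟩
theorem wL_mem_Dm : wL ∈ Dm := ⟨Or.inl rfl, Or.inr (Or.inl rfl)⟩

theorem card_L0 : Nat.card L0 = 360 := by
  rw [Nat.card_congr (Equiv.subtypeEquivRight (fun a : P35 => mem_L0)), Nat.card_eq_fintype_card,
    Fintype.card_subtype]
  decide

theorem card_Dm : Nat.card Dm = 9 := by
  let e : Dm ≃ {a : P35 // InD a} :=
    ⟨fun a => ⟨a.1.1, a.2⟩, fun a => ⟨⟨a.1, mem_L0.2 (by
      have h : ∀ x : Perm (Fin 3), (x = 1 ∨ x = zL.1.1 ∨ x = zL.1.1⁻¹) → Perm.sign x = 1 := by decide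
      have h' : ∀ x : Perm (Fin 5), (x = 1 ∨ x = wL.1.2 ∨ x = wL.1.2⁻¹) → Perm.sign x = 1 := by decide
      unfold Ok; rw [h _ a.2.1, h' _ a.2.2, one_mul])⟩, a.2⟩, fun _ => rfl, fun _ => rfl⟩
  rw [Nat.card_congr e, Nat.card_eq_fintype_card, Fintype.card_subtype]
  decide

theorem exists_conj_Dm {E : Subgroup L0} (hE : Nat.card E = 9) :
    ∃ k : L0, ∀ a : L0, k * a * k⁻¹ ∈ E ↔ a ∈ Dm := by
  haveI : Fact (Nat.Prime 3) := ⟨Nat.prime_three⟩
  have hfac : (Nat.card L0).factorization 3 = 2 := by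
    rw [card_L0, show (360 : ℕ) = 40 * 3 ^ 2 by norm_num, Nat.factorization_mul (by norm_num) (by norm_num),
      Finsupp.add_apply, Nat.factorization_eq_zero_of_not_dvd (by norm_num : ¬ 3 ∣ 40),
      Nat.Prime.factorization_pow Nat.prime_three, Finsupp.single_eq_same]
  let P : Sylow 3 L0 := Sylow.ofCard Dm (by rw [card_Dm, hfac]; norm_num)
  let Q : Sylow 3 L0 := Sylow.ofCard E (by rw [hE, hfac]; norm_num)
  obtain ⟨k, hk⟩ := MulAction.exists_smul_eq L0 P Q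
  refine ⟨k, fun a => ?_⟩
  have hE' : E = MulAut.conj k • (Dm : Subgroup L0) := by
    have := congrArg (fun R : Sylow 3 L0 => (R : Subgroup L0)) hk
    exact this.symm
  rw [hE', Subgroup.mem_pointwise_smul_iff_inv_smul_mem]
  simp [MulAut.smul_def, ← mul_assoc]

/-- A subgroup of order three normal in the whole group is generated by the first three-cycle. -/
theorem normal_three {a : L0} (h3 : a ^ 3 = 1) (h1 : a ≠ 1)
    (hn : ∀ c : L0, c * a * c⁻¹ = a ∨ c * a * c⁻¹ = a⁻¹) : a = zL ∨ a = zL⁻¹ := by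
  have key : ∀ y : Perm (Fin 5), y ^ 3 = 1 →
      (fL.1.2 * y * fL.1.2⁻¹ = y ∨ fL.1.2 * y * fL.1.2⁻¹ = y⁻¹) → y = 1 := by decide
  have key' : ∀ x : Perm (Fin 3), x ^ 3 = 1 → x ≠ 1 → x = zL.1.1 ∨ x = zL.1.1⁻¹ := by decide
  have hy : a.1.2 = 1 := key _ (congrArg (fun b : L0 => b.1.2) h3) ((hn fL).imp
    (congrArg fun b : L0 => b.1.2) (congrArg fun b : L0 => b.1.2))
  have hx : a.1.1 ≠ 1 := fun h => h1 (Subtype.ext (Prod.ext h hy))
  refine (key' _ (congrArg (fun b : L0 => b.1.1) h3) hx).imp (fun h => Subtype.ext (Prod.ext h hy))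
    fun h => Subtype.ext (Prod.ext h (by rw [hy]; rfl))

/-- At most 36 elements normalise the chosen Sylow subgroup. -/
theorem card_normalizer_Dm :
    Nat.card {a : L0 // a * zL * a⁻¹ ∈ Dm ∧ a * wL * a⁻¹ ∈ Dm} ≤ 36 := by
  let f : {a : L0 // a * zL * a⁻¹ ∈ Dm ∧ a * wL * a⁻¹ ∈ Dm} →
      {a : P35 // Ok a ∧ InD (a * zL.1 * a⁻¹) ∧ InD (a * wL.1 * a⁻¹)} :=
    fun a => ⟨a.1.1, mem_L0.1 a.1.2, a.2⟩
  have hf : Function.Injective f := fun a b h => Subtype.ext (Subtype.ext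
    (congrArg (fun x : {a : P35 // Ok a ∧ InD (a * zL.1 * a⁻¹) ∧ InD (a * wL.1 * a⁻¹)} => x.1) h))
  refine (Nat.card_le_card_of_injective f hf).trans ?_
  rw [Nat.card_eq_fintype_card, Fintype.card_subtype]
  decide

end CfsgLib.AltEightThree
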